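import Cfsg.Agent.Lib.Char.Homogeneous.Free
import Cfsg.Agent.S0743

/-!
Restriction to the fixed points of a maximal `p`-subgroup (Witt, Gleason).
-/

set_option autoImplicit false
set_option linter.unusedSectionVars false

namespace CfsgLib.Char.Homogeneous

open Equiv MulAction

variable {α : Type*} [Fintype α] [DecidableEq α]

/-- The group induced on an invariant set. -/
def restr (K : Subgroup (Perm α)) (U : Finset α) : Subgroup (Perm U) where
  carrier := {σ | ∃ g ∈ K, ∀ u : U, g u = σ u}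
  mul_mem' := by
    rintro a b ⟨g, hg, hga⟩ ⟨h, hh, hhb⟩
    exact ⟨g * h, mul_mem hg hh, fun u => by rw [Perm.mul_apply, Perm.mul_apply, hhb u, hga (b u)]⟩
  one_mem' := ⟨1, one_mem _, fun u => rfl⟩
  inv_mem' := by
    rintro a ⟨g, hg, hga⟩
    refine ⟨g⁻¹, inv_mem hg, fun u => ?_⟩
    rw [Perm.inv_eq_iff_eq, hga (a⁻¹ u), aia]

theorem restr_of_maps {K : Subgroup (Perm α)} {U : Finset α} {g : Perm α} (hg : g ∈ K) (hU : ∀ x ∈ U, g x ∈ U) :
    ∃ σ ∈ restr K U, ∀ u : U, (σ u : α) = g u := by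
  have h : Function.Bijective fun u : U => (⟨g u, hU u u.2⟩ : U) :=
    Finite.injective_iff_bijective.1 fun u v e => Subtype.ext (g.injective (congrArg Subtype.val e))
  exact ⟨Equiv.ofBijective _ h, ⟨g, hg, fun u => rfl⟩, fun u => rfl⟩

theorem restr_ktr {K : Subgroup (Perm α)} {U : Finset α} {k : ℕ}
    (h : ∀ (D : Finset α) (f : α → α), D ⊆ U → D.card = k → Set.InjOn f D → (∀ x ∈ D, f x ∈ U) →
      ∃ g ∈ K, (∀ x ∈ U, g x ∈ U) ∧ ∀ x ∈ D, g x = f x) : Ktr (restr K U) k := by
  intro D f hD hf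
  let f' : α → α := fun x => if hx : x ∈ U then (f ⟨x, hx⟩ : α) else x
  have hf' : ∀ u : U, f' u = f u := fun u => by simp [f', u.2]
  obtain ⟨g, hg, hgU, hgf⟩ := h (D.map (Function.Embedding.subtype _)) f'
    (fun x hx => by obtain ⟨u, -, rfl⟩ := Finset.mem_map.1 hx; exact u.2)
    (by rw [Finset.card_map, hD]) (by
      intro x hx y hy e
      obtain ⟨u, hu, rfl⟩ := Finset.mem_map.1 hx
      obtain ⟨v, hv, rfl⟩ := Finset.mem_map.1 hy
      change f' (u : α) = f' (v : α) at e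
      rw [hf', hf'] at e
      exact congrArg Subtype.val (hf hu hv (Subtype.ext e)))
    (fun x hx => by
      obtain ⟨u, -, rfl⟩ := Finset.mem_map.1 hx
      show f' (u : α) ∈ U
      rw [hf']; exact (f u).2)
  obtain ⟨σ, hσ, hσg⟩ := restr_of_maps hg hgU
  refine ⟨σ, hσ, fun u hu => Subtype.ext ?_⟩
  rw [hσg u, hgf u (Finset.mem_map_of_mem _ hu), hf']

theorem restr_pow {g : Perm α} {U : Finset α} {σ : Perm U} (h : ∀ u : U, g u = σ u) (m : ℕ) (u : U) :
    (g ^ m) u = (σ ^ m) u := by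
  induction m with
  | zero => rfl
  | succ m ih => rw [pow_succ', pow_succ', Perm.mul_apply, Perm.mul_apply, ih, h]

variable {G : Subgroup (Perm α)}

/-- The common fixed points. -/
noncomputable def fxs (R : Subgroup (Perm α)) : Finset α := by
  classical
  exact Finset.univ.filter fun x => ∀ r ∈ R, r x = x

theorem mem_fxs {R : Subgroup (Perm α)} {x : α} : x ∈ fxs R ↔ ∀ r ∈ R, r x = x := by
  classical
  unfold fxs
  simp

theorem normalizer_fxs {R : Subgroup (Perm α)} {g : Perm α} (hg : g ∈ Subgroup.normalizer (R : Set (Perm α))) :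
    ∀ x ∈ fxs R, g x ∈ fxs R := by
  intro x hx
  rw [mem_fxs] at hx ⊢
  intro r hr
  have h1 : g⁻¹ * r * g ∈ R := by
    have := (Subgroup.mem_normalizer_iff.1 (inv_mem hg) r).1 hr
    simpa using this
  have h2 := hx _ h1
  rw [Perm.mul_apply, Perm.mul_apply, Perm.inv_eq_iff_eq] at h2
  exact h2

theorem exists_restr {k p : ℕ} [hp : Fact p.Prime] (hk : 1 ≤ k) (hG : Ktr G k) {r : Perm α} (hr : r ∈ G)
    (hrp : orderOf r = p) (hfix : k < (fxp r).card) :
    ∃ F : Finset α, k < F.card ∧ F.card < Fintype.card α ∧ F.card % p = Fintype.card α % p ∧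
      Ktr (restr G F) k := by
  classical
  obtain ⟨R, hR, hmax⟩ := (Finset.univ.filter fun R : Subgroup (Perm α) =>
    R ≤ G ∧ IsPGroup p R ∧ k < (fxs R).card).exists_max_image (fun R => Nat.card R) (by
    refine ⟨Subgroup.zpowers r, Finset.mem_filter.2 ⟨Finset.mem_univ _, Subgroup.zpowers_le.2 hr,
      IsPGroup.of_card (n := 1) (by rw [Nat.card_zpowers, hrp, pow_one]), lt_of_lt_of_le hfix ?_⟩⟩
    refine Finset.card_le_card fun x hx => mem_fxs.2 fun s hs => ?_
    have : s ∈ MulAction.stabilizer (Perm α) x := (Subgroup.zpowers_le.2 (mem_fxp.1 hx)) hs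
    exact this)
  simp only [Finset.mem_filter, Finset.mem_univ, true_and] at hR hmax
  obtain ⟨hRG, hRp, hRF⟩ := hR
  set F := fxs R with hF
  have hR1 : R ≠ ⊥ := by
    intro h
    have h1 := hmax (Subgroup.zpowers r) ⟨Subgroup.zpowers_le.2 hr,
      IsPGroup.of_card (n := 1) (by rw [Nat.card_zpowers, hrp, pow_one]), by
        refine lt_of_lt_of_le hfix (Finset.card_le_card fun x hx => mem_fxs.2 fun s hs => ?_)
        have : s ∈ MulAction.stabilizer (Perm α) x := (Subgroup.zpowers_le.2 (mem_fxp.1 hx)) hs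
        exact this⟩
    rw [h, Nat.card_zpowers, hrp, Subgroup.card_bot] at h1
    exact absurd hp.out.one_lt (not_lt.2 h1)
  refine ⟨F, hRF, ?_, ?_, ?_⟩
  · rw [← Finset.card_univ]
    refine Finset.card_lt_card (Finset.ssubset_univ_iff.2 fun h => hR1 ?_)
    refine (Subgroup.eq_bot_iff_forall _).2 fun s hs => Perm.ext fun x => ?_
    exact mem_fxs.1 (show x ∈ F by rw [h]; exact Finset.mem_univ x) s hs
  · have h1 := hRp.card_modEq_card_fixedPoints α
    rw [Nat.card_eq_fintype_card] at h1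
    have h2 : Nat.card (fixedPoints R α) = F.card := by
      rw [← Nat.card_eq_finsetCard]
      refine Nat.card_congr (Equiv.subtypeEquivRight fun x => ?_)
      rw [hF, mem_fxs]
      exact ⟨fun h s hs => h ⟨s, hs⟩, fun h s => h s s.2⟩
    rw [h2] at h1
    exact h1.symm
  have hsub : ∀ {s : Finset α}, s ⊆ F → R ≤ pfix G s := fun {s} hs t ht =>
    ⟨hRG ht, fun x hx => mem_fxs.1 (hs hx) t ht⟩
  -- is `R` a Sylow subgroup of some pointwise stabiliser?
  by_cases hsyl : ∀ s : Finset α, s ⊆ F → s.card = k →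
      ∃ P : Subgroup (Perm α), P ≤ pfix G s ∧ IsPGroup p P ∧ R < P
  · refine ktr_of k (Cfsg.Agent.S0743.result (restr G F) hp.out hk (by rwa [Fintype.card_coe]) fun s hs => ?_)
    obtain ⟨P, hPK, hPp, hRP⟩ := hsyl (s.map (Function.Embedding.subtype _))
      (fun x hx => by obtain ⟨u, -, rfl⟩ := Finset.mem_map.1 hx; exact u.2) (by rw [Finset.card_map, hs])
    haveI := hPp.isNilpotent
    have hlt := (Group.normalizerCondition_of_isNilpotent (G := P)) (R.subgroupOf P) (by
      rw [lt_top_iff_ne_top, Ne, Subgroup.subgroupOf_eq_top]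
      exact not_le_of_gt hRP)
    set P' := (Subgroup.normalizer (R.subgroupOf P : Set P)).map P.subtype with hP'
    have hRP' : R < P' := by
      have h1 := Subgroup.map_subtype_le_map_subtype.not.2 (not_le_of_gt hlt)
      rw [Subgroup.subgroupOf_map_subtype, inf_of_le_left hRP.le] at h1
      refine lt_of_le_not_ge ?_ h1
      have := Subgroup.map_mono (f := P.subtype) hlt.le
      rwa [Subgroup.subgroupOf_map_subtype, inf_of_le_left hRP.le] at this
    have hP'P : P' ≤ P := Subgroup.map_subtype_le _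
    have hnorm : ∀ g ∈ P', g ∈ Subgroup.normalizer (R : Set (Perm α)) := by
      rintro _ ⟨g, hg, rfl⟩
      rw [Subgroup.mem_normalizer_iff]
      intro x
      constructor
      · intro hx
        exact (Subgroup.mem_subgroupOf.1 ((Subgroup.mem_normalizer_iff.1 hg ⟨x, hRP.le hx⟩).1
          (Subgroup.mem_subgroupOf.2 hx)) :)
      · intro hx
        have hxP : x ∈ P := by
          have := mul_mem (mul_mem (inv_mem g.2) (hRP.le hx)) g.2
          simpa [mul_assoc] using this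
        exact (Subgroup.mem_subgroupOf.1 ((Subgroup.mem_normalizer_iff.1 hg ⟨x, hxP⟩).2
          (Subgroup.mem_subgroupOf.2 hx)) :)
    have hP'G : P' ≤ G := fun g hg => (hPK (hP'P hg)).1
    have hP'p : IsPGroup p P' := (hPp.to_subgroup _).map _
    have hsmall : (fxs P').card ≤ k := by
      by_contra hc
      have h1 := hmax P' ⟨hP'G, hP'p, by omega⟩
      exact hRP'.ne (Subgroup.eq_of_le_of_card_ge hRP'.le h1)
    refine ⟨(restr P' F).subgroupOf (restr G F), ?_, ?_⟩
    · rintro ⟨⟨σ, hσ⟩, hσ'⟩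
      obtain ⟨g, hg, hgσ⟩ := Subgroup.mem_subgroupOf.1 hσ'
      obtain ⟨e, he⟩ := hP'p ⟨g, hg⟩
      refine ⟨e, Subtype.ext (Subtype.ext ?_)⟩
      show σ ^ p ^ e = 1
      refine Perm.ext fun u => Subtype.ext ?_
      have hge : g ^ p ^ e = 1 := congrArg Subtype.val he
      rw [← restr_pow hgσ (p ^ e) u, hge]
      rfl
    · have hs' : s.map (Function.Embedding.subtype _) = fxs P' ∩ F := by
        refine Finset.eq_of_subset_of_card_le (fun x hx => ?_) ?_
        · obtain ⟨u, hu, rfl⟩ := Finset.mem_map.1 hx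
          exact Finset.mem_inter.2 ⟨mem_fxs.2 fun g hg =>
            (hPK (hP'P hg)).2 _ (Finset.mem_map_of_mem _ hu), u.2⟩
        · rw [Finset.card_map, hs]
          exact (Finset.card_le_card Finset.inter_subset_left).trans hsmall
      ext u
      constructor
      · intro hu
        have h1 : (u : α) ∈ fxs P' := mem_fxs.2 fun g hg => by
          obtain ⟨σ, hσ, hσg⟩ := restr_of_maps (U := F) hg (normalizer_fxs (hnorm g hg))
          obtain ⟨g', hg', hg''⟩ := hσ
          have h2 : σ ∈ restr G F := ⟨g', hP'G hg', hg''⟩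
          have h3 := hu ⟨⟨σ, h2⟩, Subgroup.mem_subgroupOf.2 ⟨g', hg', hg''⟩⟩
          rw [← hσg u]
          exact congrArg Subtype.val h3
        have := hs'.ge (Finset.mem_inter.2 ⟨h1, u.2⟩)
        obtain ⟨v, hv, e⟩ := Finset.mem_map.1 this
        rwa [show v = u from Subtype.ext e] at hv
      · intro hu
        rintro ⟨⟨σ, hσ⟩, hσ'⟩
        obtain ⟨g, hg, hgσ⟩ := Subgroup.mem_subgroupOf.1 hσ'
        refine Subtype.ext ?_
        show (σ u : α) = u
        rw [← hgσ u]
        exact (hPK (hP'P hg)).2 _ (Finset.mem_map_of_mem _ (Finset.mem_coe.1 hu))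
  push_neg at hsyl
  obtain ⟨s₀, hs₀F, hs₀k, hs₀⟩ := hsyl
  -- the order of a Sylow subgroup of a stabiliser
  have hsylcard : ∀ (K : Subgroup (Perm α)) (P : Subgroup (Perm α)), P ≤ K → IsPGroup p P →
      ∃ Q : Sylow p K, P.subgroupOf K ≤ (Q : Subgroup K) := fun K P hPK hPp =>
    IsPGroup.exists_le_sylow (IsPGroup.of_injective hPp (Subgroup.subgroupOfEquivOfLe hPK).toMonoidHom
      (MulEquiv.injective _))
  obtain ⟨Q₀, hQ₀⟩ := hsylcard _ R (hsub hs₀F) hRp
  have hQ₀R : (Q₀ : Subgroup (pfix G s₀)).map (pfix G s₀).subtype = R := by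
    by_contra hne
    refine hs₀ _ (Subgroup.map_subtype_le _) (Q₀.2.map _) (lt_of_le_of_ne ?_ (Ne.symm hne))
    intro x hx
    exact ⟨⟨x, hsub hs₀F hx⟩, hQ₀ (Subgroup.mem_subgroupOf.2 hx), rfl⟩
  have hcardR : Nat.card R = p ^ (Nat.card (pfix G s₀)).factorization p := by
    rw [← hQ₀R, Subgroup.card_map_of_injective (pfix G s₀).subtype_injective, Q₀.card_eq_multiplicity]
  refine restr_ktr fun D f hDF hD hf hfF => ?_
  obtain ⟨g, hg, hgf⟩ := hG D f hD hf
  obtain ⟨g₀, hg₀, hg₀D⟩ := hG.hom s₀ (D.image f) hs₀k (by rw [Finset.card_image_of_injOn hf, hD])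
  have hcardK : Nat.card (pfix G (D.image f)) = Nat.card (pfix G s₀) := by
    refine (Nat.card_congr (show (pfix G s₀) ≃ (pfix G (D.image f)) from
      { toFun := fun t => (⟨g₀ * t * g₀⁻¹, hg₀D ▸ conj_mem_pfix hg₀ t.2⟩ : pfix G (D.image f))
        invFun := fun t => ⟨g₀⁻¹ * t * g₀, mul_mem (mul_mem (inv_mem hg₀) t.2.1) hg₀, fun x hx => by
          rw [Perm.mul_apply, Perm.mul_apply, t.2.2 _ (hg₀D ▸ Finset.mem_image_of_mem g₀ hx), iaa]⟩
        left_inv := fun t => Subtype.ext (by simp only; group)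
        right_inv := fun t => Subtype.ext (by simp only; group) })).symm
  set K := pfix G (D.image f) with hK
  have hRK : R ≤ K := hsub fun x hx => by
    obtain ⟨y, hy, rfl⟩ := Finset.mem_image.1 hx
    exact hfF y hy
  set R₁ := R.map (MulAut.conj g).toMonoidHom with hR₁
  have hR₁K : R₁ ≤ K := by
    rintro _ ⟨t, ht, rfl⟩
    have : D.image g = D.image f := Finset.image_congr fun x hx => hgf x hx
    have h' := conj_mem_pfix hg (hsub hDF ht)
    rw [this] at h'
    exact h'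
  obtain ⟨Q, hQ⟩ := hsylcard K R hRK hRp
  obtain ⟨Q₁, hQ₁⟩ := hsylcard K R₁ hR₁K (hRp.map _)
  have hQe : (Q : Subgroup K) = R.subgroupOf K := by
    refine (Subgroup.eq_of_le_of_card_ge hQ ?_).symm
    rw [Q.card_eq_multiplicity, hcardK, ← hcardR, Nat.card_congr (Subgroup.subgroupOfEquivOfLe hRK).toEquiv]
  have hQ₁e : (Q₁ : Subgroup K) = R₁.subgroupOf K := by
    refine (Subgroup.eq_of_le_of_card_ge hQ₁ ?_).symm
    rw [Q₁.card_eq_multiplicity, hcardK, ← hcardR, Nat.card_congr (Subgroup.subgroupOfEquivOfLe hR₁K).toEquiv,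
      hR₁, Subgroup.card_map_of_injective (MulEquiv.injective _)]
  obtain ⟨h, hh⟩ := MulAction.exists_smul_eq K Q₁ Q
  have hhg : ∀ t ∈ R, (h : Perm α) * g * t * ((h : Perm α) * g)⁻¹ ∈ R := by
    intro t ht
    have h1 : (⟨g * t * g⁻¹, hR₁K ⟨t, ht, rfl⟩⟩ : K) ∈ (Q₁ : Subgroup K) := by
      rw [hQ₁e]
      exact Subgroup.mem_subgroupOf.2 ⟨t, ht, rfl⟩
    have h2 : h * ⟨g * t * g⁻¹, hR₁K ⟨t, ht, rfl⟩⟩ * h⁻¹ ∈ (Q : Subgroup K) := by
      rw [← hh, Sylow.coe_subgroup_smul]
      exact ⟨_, h1, rfl⟩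
    rw [hQe, Subgroup.mem_subgroupOf] at h2
    simpa [mul_assoc] using h2
  have hnormg : (h : Perm α) * g ∈ Subgroup.normalizer (R : Set (Perm α)) := by
    rw [Subgroup.mem_normalizer_iff_map_conj_eq]
    refine Subgroup.eq_of_le_of_card_ge ?_ (by rw [Subgroup.card_map_of_injective (MulEquiv.injective _)])
    rintro _ ⟨t, ht, rfl⟩
    exact hhg t ht
  refine ⟨(h : Perm α) * g, mul_mem h.2.1 hg, normalizer_fxs hnormg, fun x hx => ?_⟩
  rw [Perm.mul_apply, hgf x hx, h.2.2 _ (Finset.mem_image_of_mem f hx)]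

end CfsgLib.Char.Homogeneous
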