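import Cfsg.Agent.Lib.Char.Homogeneous.FreeOdd
import Cfsg.Agent.Lib.Char.Homogeneous.Restrict

/-!
Some `(k + 1)`-set of a `k`-transitive group carries at least the alternating group.
-/

set_option autoImplicit false
set_option linter.unusedSectionVars false

namespace CfsgLib.Char.Homogeneous

open Equiv

universe u

variable {α : Type u} [Fintype α] [DecidableEq α] {G : Subgroup (Perm α)}

theorem free_gen {k : ℕ} (hk : 4 ≤ k) (hkn : k < Fintype.card α) (hG : Ktr G k)
    (hfree : ∀ g ∈ G, g ≠ 1 → (fxp g).card ≤ k) :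
    Ktr G (k + 1) ∨ Fintype.card α ≤ k + 2 ∨
      (Fintype.card α = k + 7 ∧ ∀ D : Finset α, D.card = k → pfix G D = ⊥) := by
  classical
  obtain ⟨S, -, hS⟩ := Finset.exists_subset_card_eq (s := (Finset.univ : Finset α)) (n := k - 4)
    (by rw [Finset.card_univ]; omega)
  set U := Sᶜ with hU
  have hUc : U.card = Fintype.card α - (k - 4) := by rw [hU, Finset.card_compl, hS]
  have hmaps : ∀ g ∈ pfix G S, ∀ x ∈ U, g x ∈ U := fun g hg x hx => by
    rw [hU, Finset.mem_compl] at hx ⊢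
    exact fun hc => hx (g.injective (hg.2 _ hc) ▸ hc)
  set H := restr (pfix G S) U
  have hH : Ktr H 4 := by
    refine restr_ktr fun D f hDU hD hf hfU => ?_
    have hdis : Disjoint S D := Finset.disjoint_left.2 fun x hxS hxD => Finset.mem_compl.1 (hDU hxD) hxS
    obtain ⟨g, hg, hgf⟩ := hG (S ∪ D) (fun x => if x ∈ S then x else f x)
      (by rw [Finset.card_union_of_disjoint hdis, hS, hD]; omega) (by
        intro x hx y hy e
        simp only [Finset.coe_union, Set.mem_union, Finset.mem_coe] at hx hy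
        by_cases hxS : x ∈ S <;> by_cases hyS : y ∈ S <;> simp only [if_pos, if_neg, hxS, hyS, not_false_eq_true] at e
        · exact e
        · exact absurd (e ▸ hxS) (Finset.mem_compl.1 (hfU y (hy.resolve_left hyS)))
        · exact absurd (e.symm ▸ hyS) (Finset.mem_compl.1 (hfU x (hx.resolve_left hxS)))
        · exact hf (hx.resolve_left hxS) (hy.resolve_left hyS) e)
    have hgS : g ∈ pfix G S := ⟨hg, fun x hx => by rw [hgf x (Finset.mem_union_left _ hx), if_pos hx]⟩
    refine ⟨g, hgS, hmaps g hgS, fun x hx => ?_⟩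
    rw [hgf x (Finset.mem_union_right _ hx), if_neg fun hc => Finset.disjoint_left.1 hdis hc hx]
  have hHfree : ∀ σ ∈ H, σ ≠ 1 → (fxp σ).card ≤ 4 := by
    rintro σ ⟨g, hg, hgσ⟩ hσ
    have hg1 : g ≠ 1 := fun e => hσ (Perm.ext fun u => Subtype.ext (by rw [← hgσ, e]; rfl))
    have h1 := Finset.card_le_card (show S ∪ (fxp σ).map (Function.Embedding.subtype _) ⊆ fxp g from by
      intro x hx
      rw [mem_fxp]
      rcases Finset.mem_union.1 hx with hx | hx
      · exact hg.2 x hx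
      · obtain ⟨u, hu, rfl⟩ := Finset.mem_map.1 hx
        show g (u : α) = u
        rw [hgσ, mem_fxp.1 hu])
    rw [Finset.card_union_of_disjoint (Finset.disjoint_left.2 fun x hxS hx => by
      obtain ⟨u, -, rfl⟩ := Finset.mem_map.1 hx
      exact Finset.mem_compl.1 u.2 hxS), Finset.card_map, hS] at h1
    have := hfree g hg.1 hg1
    omega
  obtain ⟨Q, -, hQ⟩ := Finset.exists_subset_card_eq (s := (Finset.univ : Finset U)) (n := 4)
    (by rw [Finset.card_univ, Fintype.card_coe, hUc]; omega)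
  let q : Fin 4 ↪ U := ((Finset.equivFinOfCardEq hQ).symm.toEmbedding).trans (Function.Embedding.subtype _)
  set D₀ := S ∪ (pts q).map (Function.Embedding.subtype _) with hD₀
  have hD₀c : D₀.card = k := by
    rw [hD₀, Finset.card_union_of_disjoint (Finset.disjoint_left.2 fun x hxS hx => by
      obtain ⟨u, -, rfl⟩ := Finset.mem_map.1 hx
      exact Finset.mem_compl.1 u.2 hxS), hS, Finset.card_map, card_pts]
    omega
  rcases free_four hH hHfree q with h | h | ⟨h11, hT⟩
  · refine Or.inl (hG.succ hD₀c fun x y hx hy => ?_)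
    simp only [hD₀, Finset.mem_union, not_or] at hx hy
    have hxU : x ∈ U := Finset.mem_compl.2 hx.1
    have hyU : y ∈ U := Finset.mem_compl.2 hy.1
    obtain ⟨σ, ⟨⟨g, hg, hgσ⟩, hσq⟩, hσxy⟩ := h ⟨x, hxU⟩ ⟨y, hyU⟩
      (fun hc => hx.2 (Finset.mem_map_of_mem (Function.Embedding.subtype _) hc))
      (fun hc => hy.2 (Finset.mem_map_of_mem (Function.Embedding.subtype _) hc))
    refine ⟨g, ⟨hg.1, fun z hz => ?_⟩, ?_⟩
    · rcases Finset.mem_union.1 hz with hz | hz
      · exact hg.2 z hz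
      · obtain ⟨u, hu, rfl⟩ := Finset.mem_map.1 hz
        show g (u : α) = u
        rw [hgσ, hσq u hu]
    · rw [show g x = _ from hgσ ⟨x, hxU⟩, hσxy]
  · rw [Fintype.card_coe, hUc] at h
    exact Or.inr (Or.inl (by omega))
  · rw [Fintype.card_coe, hUc] at h11
    refine Or.inr (Or.inr ⟨by omega, fun D hD => ?_⟩)
    obtain ⟨g₀, hg₀, hg₀D⟩ := hG.hom D D₀ hD hD₀c
    refine (Subgroup.eq_bot_iff_forall _).2 fun t ht => ?_
    have h1 := hg₀D ▸ conj_mem_pfix hg₀ ht
    have hS' : g₀ * t * g₀⁻¹ ∈ pfix G S := ⟨h1.1, fun x hx => h1.2 x (Finset.mem_union_left _ hx)⟩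
    obtain ⟨σ, hσ, hσg⟩ := restr_of_maps hS' (hmaps _ hS')
    have hσ1 : σ ∈ pfix H (pts q) := ⟨hσ, fun u hu => Subtype.ext (by
      rw [hσg]; exact h1.2 _ (Finset.mem_union_right _ (Finset.mem_map_of_mem _ hu)))⟩
    rw [hT, Subgroup.mem_bot] at hσ1
    refine conj_eq_one_iff.1 (Perm.ext fun x => ?_ : g₀ * t * g₀⁻¹ = 1)
    by_cases hx : x ∈ S
    · exact hS'.2 x hx
    · have := hσg ⟨x, Finset.mem_compl.2 hx⟩
      rw [hσ1] at this
      exact this.symm

section eleven

variable {k : ℕ} (hk : 4 ≤ k) (hn : Fintype.card α = k + 7) (hG : Ktr G k)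
  (hfree : ∀ g ∈ G, g ≠ 1 → (fxp g).card ≤ k) (hbot : ∀ D : Finset α, D.card = k → pfix G D = ⊥)
include hk hn hG hfree hbot

theorem eq_of_eqOn {D : Finset α} (hD : D.card = k) {g g' : Perm α} (hg : g ∈ G) (hg' : g' ∈ G)
    (h : ∀ x ∈ D, g x = g' x) : g = g' := by
  have h1 : g'⁻¹ * g ∈ pfix G D :=
    ⟨mul_mem (inv_mem hg') hg, fun x hx => by rw [Perm.mul_apply, Perm.inv_eq_iff_eq, h x hx]⟩
  rw [hbot D hD, Subgroup.mem_bot] at h1
  exact (inv_mul_eq_one.1 h1).symm

theorem fxp_ne_k {g : Perm α} (hg : g ∈ G) (h1 : g ≠ 1) : (fxp g).card ≠ k := fun h =>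
  h1 (eq_of_eqOn hk hn hG hfree hbot h hg (one_mem _) fun x hx => by rw [mem_fxp.1 hx]; rfl)

/-- A lift of a transposition of a `k`-set. -/
theorem lift_invol {D : Finset α} (hD : D.card = k) {a b : α} (ha : a ∈ D) (hb : b ∈ D) (hab : a ≠ b)
    {x : Perm α} (hx : x ∈ G) (h : ∀ y ∈ D, x y = swap a b y) :
    x * x = 1 ∧ (fxp x).card = k - 1 := by
  have hsq : x * x = 1 := eq_of_eqOn hk hn hG hfree hbot hD (mul_mem hx hx) (one_mem _) fun y hy => by
    have hy' : swap a b y ∈ D := by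
      rcases eq_or_ne y a with rfl | hya
      · rwa [swap_apply_left]
      rcases eq_or_ne y b with rfl | hyb
      · rwa [swap_apply_right]
      · rwa [swap_apply_of_ne_of_ne hya hyb]
    rw [Perm.mul_apply, h y hy, h _ hy', swap_apply_self]
    rfl
  refine ⟨hsq, ?_⟩
  have hne : x ≠ 1 := fun e => hab (by have := h a ha; rw [e, swap_apply_left] at this; exact this)
  have h1 := Finset.card_le_card (show (D.erase a).erase b ⊆ fxp x from fun y hy => by
    rw [Finset.mem_erase, Finset.mem_erase] at hy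
    rw [mem_fxp, h y hy.2.2, swap_apply_of_ne_of_ne hy.2.1 hy.1])
  rw [Finset.card_erase_of_mem (Finset.mem_erase.2 ⟨hab.symm, hb⟩), Finset.card_erase_of_mem ha, hD] at h1
  have h2 := hfree x hx hne
  have h3 := fxp_ne_k hk hn hG hfree hbot hx hne
  have h4 := card_fxp_mod_two hsq
  omega

theorem lift_fixed {D : Finset α} (hD : D.card = k) {a b : α} (ha : a ∈ D) (hb : b ∈ D) (hab : a ≠ b)
    {x : Perm α} (hx : x ∈ G) (h : ∀ y ∈ D, x y = swap a b y) {p p' : α} (hp : x p = p) (hpD : p ∉ D)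
    (hp' : x p' = p') (hpD' : p' ∉ D) : p = p' := by
  by_contra hne
  have h1 := Finset.card_le_card (show insert p (insert p' ((D.erase a).erase b)) ⊆ fxp x from fun y hy => by
    rw [mem_fxp]
    simp only [Finset.mem_insert, Finset.mem_erase] at hy
    rcases hy with rfl | rfl | ⟨hyb, hya, hyD⟩
    · exact hp
    · exact hp'
    · rw [h y hyD, swap_apply_of_ne_of_ne hya hyb])
  rw [Finset.card_insert_of_notMem (by simp [hne, hpD]), Finset.card_insert_of_notMem (by simp [hpD']),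
    Finset.card_erase_of_mem (Finset.mem_erase.2 ⟨hab.symm, hb⟩), Finset.card_erase_of_mem ha, hD,
    (lift_invol hk hn hG hfree hbot hD ha hb hab hx h).2] at h1
  omega

theorem exists_common {D : Finset α} (hD : D.card = k) {a b c : α} (ha : a ∈ D) (hb : b ∈ D) (hc : c ∈ D)
    (hab : a ≠ b) (hbc : b ≠ c) (hac : a ≠ c) {x x' : Perm α} (hx : x ∈ G) (h : ∀ y ∈ D, x y = swap a b y)
    (hx' : x' ∈ G) (h' : ∀ y ∈ D, x' y = swap b c y) : ∃ p, p ∉ D ∧ x p = p ∧ x' p = p := by
  have hsq := (lift_invol hk hn hG hfree hbot hD ha hb hab hx h).1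
  have hsq' := (lift_invol hk hn hG hfree hbot hD hb hc hbc hx' h').1
  set u := x * x'
  have hua : u a = b := by
    rw [Perm.mul_apply, h' a ha, swap_apply_of_ne_of_ne hab hac, h a ha, swap_apply_left]
  have hub : u b = c := by
    rw [Perm.mul_apply, h' b hb, swap_apply_left, h c hc, swap_apply_of_ne_of_ne hac.symm hbc.symm]
  have huc : u c = a := by
    rw [Perm.mul_apply, h' c hc, swap_apply_right, h b hb, swap_apply_right]
  have hufix : ∀ y ∈ D, y ≠ a → y ≠ b → y ≠ c → u y = y := fun y hy h1 h2 h3 => by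
    rw [Perm.mul_apply, h' y hy, swap_apply_of_ne_of_ne h2 h3, h y hy, swap_apply_of_ne_of_ne h1 h2]
  have hu3 : u ^ 3 ^ 1 = 1 := by
    rw [pow_one]
    refine eq_of_eqOn hk hn hG hfree hbot hD (pow_mem (mul_mem hx hx') 3) (one_mem _) fun y hy => ?_
    rw [pow_succ', sq]
    show u (u (u y)) = (1 : Perm α) y
    rcases eq_or_ne y a with rfl | h1
    · rw [hua, hub, huc]; rfl
    rcases eq_or_ne y b with rfl | h2
    · rw [hub, huc, hua]; rfl
    rcases eq_or_ne y c with rfl | h3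
    · rw [huc, hua, hub]; rfl
    rw [hufix y hy h1 h2 h3, hufix y hy h1 h2 h3, hufix y hy h1 h2 h3]; rfl
  haveI : Fact (Nat.Prime 3) := ⟨Nat.prime_three⟩
  have hne : u ≠ 1 := fun e => hab (by rw [e] at hua; exact hua)
  have hm := card_fxp_mod hu3
  have h2 := hfree u (mul_mem hx hx') hne
  have h3 := fxp_ne_k hk hn hG hfree hbot (mul_mem hx hx') hne
  set D' := ((D.erase a).erase b).erase c with hD'
  have hD'c : D'.card = k - 3 := by
    rw [hD', Finset.card_erase_of_mem (by simp [hc, hbc.symm, hac.symm]),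
      Finset.card_erase_of_mem (Finset.mem_erase.2 ⟨hab.symm, hb⟩), Finset.card_erase_of_mem ha, hD]
    omega
  have hsub : D' ⊆ fxp u := fun y hy => by
    simp only [hD', Finset.mem_erase] at hy
    exact mem_fxp.2 (hufix y hy.2.2.2 hy.2.2.1 hy.2.1 hy.1)
  have h4 := Finset.card_le_card hsub
  have hcard : (fxp u \ D').card = 1 := by rw [Finset.card_sdiff_of_subset hsub]; omega
  obtain ⟨p, hp⟩ := Finset.card_eq_one.1 hcard
  have hpm : p ∈ fxp u ∧ p ∉ D' := Finset.mem_sdiff.1 (by rw [hp]; simp)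
  have hpD : p ∉ D := fun hm => by
    have hpu := mem_fxp.1 hpm.1
    refine hpm.2 (Finset.mem_erase.2 ⟨?_, Finset.mem_erase.2 ⟨?_, Finset.mem_erase.2 ⟨?_, hm⟩⟩⟩)
    · rintro rfl; exact hac (huc.symm.trans hpu)
    · rintro rfl; exact hbc (hpu.symm.trans hub)
    · rintro rfl; exact hab (hpu.symm.trans hua)
  have hxp : x p = p := by
    have e2 : u (x p) = x p := by
      have e : x * x' = u := rfl
      have hpu := mem_fxp.1 hpm.1
      have e3 : x' p = x p := calc
        x' p = (x * x) (x' p) := by rw [hsq]; rfl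
        _ = x (u p) := rfl
        _ = x p := by rw [hpu]
      show x (x' (x p)) = x p
      rw [show x' (x p) = p from by rw [← e3, ← Perm.mul_apply, hsq']; rfl]
    have hmem : x p ∈ fxp u \ D' := Finset.mem_sdiff.2 ⟨mem_fxp.2 e2, fun hm => by
      have hm' : x p ∈ D := by simp only [hD', Finset.mem_erase] at hm; exact hm.2.2.2
      refine hpD ?_
      have := h _ hm'
      rw [← Perm.mul_apply, hsq] at this
      change p = _ at this
      simp only [hD', Finset.mem_erase] at hm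
      rw [this, swap_apply_of_ne_of_ne hm.2.2.1 hm.2.1]
      exact hm'⟩
    rwa [hp, Finset.mem_singleton] at hmem
  refine ⟨p, hpD, hxp, ?_⟩
  have hpu := mem_fxp.1 hpm.1
  rw [Perm.mul_apply] at hpu
  exact x.injective (hpu.trans hxp.symm)

theorem exists_point (D : Finset α) (hD : D.card = k) :
    ∃ β, β ∉ D ∧ ∀ a ∈ D, ∀ b ∈ D, a ≠ b → ∀ x ∈ G, (∀ y ∈ D, x y = swap a b y) → x β = β := by
  have hlift : ∀ a b : α, ∃ x ∈ G, ∀ y ∈ D, x y = swap a b y := fun a b =>
    hG D (swap a b) hD (Equiv.injective _).injOn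
  obtain ⟨a₀, ha₀, b₀, hb₀, hne⟩ := Finset.one_lt_card.1 (show 1 < D.card by omega)
  obtain ⟨c₀, hc₀, hc₀'⟩ := Finset.exists_mem_notMem_of_card_lt_card
    (show ({a₀, b₀} : Finset α).card < D.card from lt_of_le_of_lt Finset.card_le_two (by omega))
  simp only [Finset.mem_insert, Finset.mem_singleton, not_or] at hc₀'
  obtain ⟨x₀, hx₀, hx₀'⟩ := hlift a₀ b₀
  obtain ⟨x₁, hx₁, hx₁'⟩ := hlift b₀ c₀
  obtain ⟨β, hβ, hβ₀, -⟩ := exists_common hk hn hG hfree hbot hD ha₀ hb₀ hc₀ hne (Ne.symm hc₀'.2)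
    (Ne.symm hc₀'.1) hx₀ hx₀' hx₁ hx₁'
  -- adjacent transpositions share the point
  have step : ∀ a ∈ D, ∀ b ∈ D, ∀ c ∈ D, a ≠ b → b ≠ c →
      (∀ x ∈ G, (∀ y ∈ D, x y = swap a b y) → x β = β) → ∀ x ∈ G, (∀ y ∈ D, x y = swap b c y) → x β = β := by
    intro a ha b hb c hc hab hbc hall x hx h
    obtain ⟨z, hz, hz'⟩ := hlift a b
    rcases eq_or_ne a c with rfl | hac
    · exact hall x hx fun y hy => by rw [h y hy, swap_comm]
    obtain ⟨p, hp, hp1, hp2⟩ := exists_common hk hn hG hfree hbot hD ha hb hc hab hbc hac hz hz' hx h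
    rwa [lift_fixed hk hn hG hfree hbot hD ha hb hab hz hz' (hall z hz hz') hβ hp1 hp]
  refine ⟨β, hβ, ?_⟩
  have h₀ : ∀ x ∈ G, (∀ y ∈ D, x y = swap a₀ b₀ y) → x β = β := fun x hx h => by
    rwa [eq_of_eqOn hk hn hG hfree hbot hD hx hx₀ fun y hy => (h y hy).trans (hx₀' y hy).symm]
  have hb₀all : ∀ b ∈ D, b ≠ b₀ → ∀ x ∈ G, (∀ y ∈ D, x y = swap b₀ b y) → x β = β := fun b hb hbne =>
    step a₀ ha₀ b₀ hb₀ b hb hne (Ne.symm hbne) h₀
  intro a ha b hb hab x hx h
  rcases eq_or_ne a b₀ with rfl | hab₀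
  · exact hb₀all b hb hab.symm x hx h
  · exact step b₀ hb₀ a ha b hb (Ne.symm hab₀) hab (hb₀all a ha hab₀) x hx h

theorem eleven : ∃ B : Finset α, B.card = k + 1 ∧ AltOn G B := by
  obtain ⟨D, -, hD⟩ := Finset.exists_subset_card_eq (s := (Finset.univ : Finset α)) (n := k)
    (by rw [Finset.card_univ]; omega)
  obtain ⟨β, hβ, hall⟩ := exists_point hk hn hG hfree hbot D hD
  refine ⟨insert β D, by rw [Finset.card_insert_of_notMem hβ, hD], fun σ hσ _ => mem_ind_of_swaps ?_ hσ⟩
  have hD1 : ∀ a ∈ D, ∀ b ∈ D, a ≠ b → swap a b ∈ Ind G (insert β D) := by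
    intro a ha b hb hab
    obtain ⟨x, hx, h⟩ := hG D (swap a b) hD (Equiv.injective _).injOn
    refine ⟨fun y hy => swap_apply_of_ne_of_ne (fun e => hy (by rw [e]; exact Finset.mem_insert_of_mem ha))
      (fun e => hy (by rw [e]; exact Finset.mem_insert_of_mem hb)), x, hx, fun y hy => ?_⟩
    rcases Finset.mem_insert.1 hy with rfl | hy
    · rw [hall a ha b hb hab x hx h, swap_apply_of_ne_of_ne (fun e : y = a => hβ (e ▸ ha))
        (fun e : y = b => hβ (e ▸ hb))]
    · exact h y hy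
  have hβswap : ∀ c ∈ D, swap β c ∈ Ind G (insert β D) := by
    intro c hc
    obtain ⟨a, ha, hac⟩ := Finset.exists_mem_ne (show 1 < D.card by omega) c
    set D' := insert β (D.erase a) with hD'
    have hβe : β ∉ D.erase a := fun hm => hβ (Finset.mem_of_mem_erase hm)
    have hD'c : D'.card = k := by
      rw [hD', Finset.card_insert_of_notMem hβe, Finset.card_erase_of_mem ha, hD]; omega
    obtain ⟨β', hβ', hall'⟩ := exists_point hk hn hG hfree hbot D' hD'c
    -- the new point is the removed one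
    have hβa : β' = a := by
      obtain ⟨b, hb, hbc⟩ := Finset.exists_mem_ne (show 1 < (D.erase a).card by
        rw [Finset.card_erase_of_mem ha]; omega) c
      obtain ⟨hba, hbD⟩ := Finset.mem_erase.1 hb
      obtain ⟨x, hx, h⟩ := hG D (swap b c) hD (Equiv.injective _).injOn
      have hxβ := hall b hbD c hc hbc x hx h
      have hbD' : b ∈ D' := Finset.mem_insert_of_mem hb
      have hcD' : c ∈ D' := Finset.mem_insert_of_mem (Finset.mem_erase.2 ⟨Ne.symm hac, hc⟩)
      have h' : ∀ y ∈ D', x y = swap b c y := fun y hy => by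
        rcases Finset.mem_insert.1 hy with rfl | hy
        · rw [hxβ, swap_apply_of_ne_of_ne (fun e : y = b => hβ (e ▸ hbD)) (fun e : y = c => hβ (e ▸ hc))]
        · exact h y (Finset.mem_of_mem_erase hy)
      refine lift_fixed hk hn hG hfree hbot hD'c hbD' hcD' hbc hx h' (hall' b hbD' c hcD' hbc x hx h') hβ' ?_ ?_
      · rw [h a ha, swap_apply_of_ne_of_ne (Ne.symm hba) hac]
      · simp only [hD', Finset.mem_insert, Finset.mem_erase, not_or, ne_eq, not_true_eq_false, false_and,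
          not_false_eq_true, and_true]
        exact fun e => hβ (e ▸ ha)
    subst hβa
    obtain ⟨x, hx, h⟩ := hG D' (swap β c) hD'c (Equiv.injective _).injOn
    have hcD' : c ∈ D' := Finset.mem_insert_of_mem (Finset.mem_erase.2 ⟨Ne.symm hac, hc⟩)
    have hβc : β ≠ c := fun e => hβ (e ▸ hc)
    have hxa := hall' β (Finset.mem_insert_self _ _) c hcD' hβc x hx h
    refine ⟨fun y hy => swap_apply_of_ne_of_ne (fun e => hy (by rw [e]; exact Finset.mem_insert_self _ _))
      (fun e => hy (by rw [e]; exact Finset.mem_insert_of_mem hc)), x, hx, fun y hy => ?_⟩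
    rcases eq_or_ne y β' with rfl | hya
    · rw [hxa, swap_apply_of_ne_of_ne (fun e : y = β => hβ (e ▸ ha)) hac]
    · refine h y ?_
      rcases Finset.mem_insert.1 hy with rfl | hy
      · exact Finset.mem_insert_self _ _
      · exact Finset.mem_insert_of_mem (Finset.mem_erase.2 ⟨hya, hy⟩)
  intro a ha b hb hab
  rcases Finset.mem_insert.1 ha with ha' | ha <;> rcases Finset.mem_insert.1 hb with hb' | hb
  · exact absurd (ha'.trans hb'.symm) hab
  · exact ha' ▸ hβswap b hb
  · rw [swap_comm]; exact hb' ▸ hβswap a ha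
  · exact hD1 a ha b hb hab

end eleven

theorem exists_orderOf_prime {g : Perm α} (h1 : g ≠ 1) :
    ∃ (p : ℕ) (r : Perm α), p.Prime ∧ r ∈ Subgroup.zpowers g ∧ orderOf r = p ∧ fxp g ⊆ fxp r := by
  obtain ⟨p, hp, hd⟩ := Nat.exists_prime_and_dvd (n := orderOf g) (fun h => h1 (orderOf_eq_one_iff.1 h))
  refine ⟨p, g ^ (orderOf g / p), hp, Subgroup.pow_mem _ (Subgroup.mem_zpowers g) _,
    orderOf_pow_orderOf_div (orderOf_pos g).ne' hd, fun x hx => mem_fxp.2 ?_⟩
  have : g ^ (orderOf g / p) ∈ MulAction.stabilizer (Perm α) x := Subgroup.pow_mem _ (mem_fxp.1 hx) _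
  exact this

theorem altOn_image {F : Finset α} {B : Finset F} (h : AltOn (restr G F) B) :
    AltOn G (B.map (Function.Embedding.subtype _)) := by
  intro σ hσ hsign
  have hmem : ∀ x, σ x ≠ x → x ∈ F := fun x hx => by
    by_contra hc
    exact hx (hσ x fun hm => hc (by obtain ⟨u, -, rfl⟩ := Finset.mem_map.1 hm; exact u.2))
  have hpres : ∀ x, σ x ∈ F ↔ x ∈ F := fun x => by
    by_cases hx : σ x = x
    · rw [hx]
    · exact ⟨fun _ => hmem x hx, fun _ => hmem (σ x) fun e => hx (σ.injective e)⟩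
  set τ : Perm F := σ.subtypePerm hpres
  obtain ⟨-, σ', ⟨g, hg, hgσ⟩, hσ'⟩ := h τ (fun u hu => Subtype.ext (hσ u fun hm => by
      obtain ⟨v, hv, e⟩ := Finset.mem_map.1 hm
      exact hu (Subtype.ext e ▸ hv)))
    (by convert (Perm.sign_subtypePerm σ hpres hmem).trans hsign)
  refine ⟨hσ, g, hg, fun x hx => ?_⟩
  obtain ⟨u, hu, rfl⟩ := Finset.mem_map.1 hx
  show g (u : α) = σ u
  rw [hgσ, hσ' u hu]
  rfl

theorem exists_altOn : ∀ {α : Type u} [Fintype α] [DecidableEq α] (G : Subgroup (Perm α)) {k : ℕ},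
    4 ≤ k → k < Fintype.card α → Ktr G k → ∃ B : Finset α, B.card = k + 1 ∧ AltOn G B := by
  intro α
  intro i1 i2 G k hk hkn hG
  induction hm : Fintype.card α using Nat.strong_induction_on generalizing α with
  | _ m ih =>
    subst hm
    by_cases hfree : ∀ g ∈ G, g ≠ 1 → (fxp g).card ≤ k
    · obtain ⟨B, -, hB⟩ := Finset.exists_subset_card_eq (s := (Finset.univ : Finset α)) (n := k + 1)
        (by rw [Finset.card_univ]; omega)
      rcases free_gen hk hkn hG hfree with h | h | ⟨h, hbot⟩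
      · exact ⟨B, hB, altOn_of_ktr h hB⟩
      · exact ⟨B, hB, altOn_of_alternating (alternating_le hG hkn.le h) B⟩
      · exact eleven hk h hG hfree hbot
    · push_neg at hfree
      obtain ⟨g, hg, hg1, hgf⟩ := hfree
      obtain ⟨p, r, hp, hr, hrp, hsub⟩ := exists_orderOf_prime hg1
      haveI := Fact.mk hp
      obtain ⟨F, hF, hFn, -, hFG⟩ := exists_restr (by omega) hG ((Subgroup.zpowers_le.2 hg) hr) hrp
        (lt_of_lt_of_le hgf (Finset.card_le_card hsub))
      obtain ⟨B, hB, hBA⟩ := ih _ hFn (restr G F) (by rwa [Fintype.card_coe]) hFG (Fintype.card_coe F)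
      exact ⟨B.map (Function.Embedding.subtype _), by rw [Finset.card_map, hB], altOn_image hBA⟩

end CfsgLib.Char.Homogeneous
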