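import Mathlib

/-!
Multiply transitive and set-transitive permutation groups: basic tools.
-/

set_option autoImplicit false
set_option linter.unusedSectionVars false

namespace CfsgLib.Char.Homogeneous

open Equiv MulAction

variable {α : Type*} [Fintype α] [DecidableEq α] (G : Subgroup (Perm α))

theorem iaa (g : Perm α) (x : α) : g⁻¹ (g x) = x := g.symm_apply_apply x

theorem aia (g : Perm α) (x : α) : g (g⁻¹ x) = x := g.apply_symm_apply x

/-- The pointwise stabiliser. -/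
def pfix (s : Finset α) : Subgroup (Perm α) where
  carrier := {g | g ∈ G ∧ ∀ x ∈ s, g x = x}
  mul_mem' := fun {a b} ha hb => ⟨mul_mem ha.1 hb.1, fun x hx => by rw [Perm.mul_apply, hb.2 x hx, ha.2 x hx]⟩
  one_mem' := ⟨one_mem _, fun x _ => rfl⟩
  inv_mem' := fun {a} ha => ⟨inv_mem ha.1, fun x hx => by rw [Perm.inv_eq_iff_eq, ha.2 x hx]⟩

theorem mem_pfix {s : Finset α} {g : Perm α} : g ∈ pfix G s ↔ g ∈ G ∧ ∀ x ∈ s, g x = x := Iff.rfl

/-- Any injective assignment on any set of `k` points is realised. -/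
def Ktr (k : ℕ) : Prop :=
  ∀ (D : Finset α) (f : α → α), D.card = k → Set.InjOn f D → ∃ g ∈ G, ∀ x ∈ D, g x = f x

/-- Transitive on sets of size `k`. -/
def Hom (k : ℕ) : Prop := ∀ D D' : Finset α, D.card = k → D'.card = k → ∃ g ∈ G, D.image g = D'

/-- The permutations of `B` induced by the group. -/
def Ind (B : Finset α) : Subgroup (Perm α) where
  carrier := {σ | (∀ x, x ∉ B → σ x = x) ∧ ∃ g ∈ G, ∀ x ∈ B, g x = σ x}
  mul_mem' := by
    rintro a b ⟨ha, g, hg, hga⟩ ⟨hb, h, hh, hhb⟩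
    refine ⟨fun x hx => by rw [Perm.mul_apply, hb x hx, ha x hx], g * h, mul_mem hg hh, fun x hx => ?_⟩
    have hbx : b x ∈ B := by
      by_contra hc
      exact hc (by rw [b.injective (hb _ hc)]; exact hx)
    rw [Perm.mul_apply, Perm.mul_apply, hhb x hx, hga _ hbx]
  one_mem' := ⟨fun x _ => rfl, 1, one_mem _, fun x _ => rfl⟩
  inv_mem' := by
    rintro a ⟨ha, g, hg, hga⟩
    refine ⟨fun x hx => by rw [Perm.inv_eq_iff_eq, ha x hx], g⁻¹, inv_mem hg, fun x hx => ?_⟩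
    have hax : a⁻¹ x ∈ B := by
      by_contra hc
      have h1 := ha _ hc
      rw [aia] at h1
      exact hc (by rw [← h1]; exact hx)
    rw [Perm.inv_eq_iff_eq, hga _ hax, aia]

theorem mem_ind {B : Finset α} {σ : Perm α} :
    σ ∈ Ind G B ↔ (∀ x, x ∉ B → σ x = x) ∧ ∃ g ∈ G, ∀ x ∈ B, g x = σ x := Iff.rfl

/-- At least the alternating group is induced. -/
def AltOn (B : Finset α) : Prop := ∀ σ : Perm α, (∀ x, x ∉ B → σ x = x) → Perm.sign σ = 1 → σ ∈ Ind G B

/-- No transposition is induced on a set of size `k`. -/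
def NoSwap (k : ℕ) : Prop := ∀ B : Finset α, B.card = k → ∀ a ∈ B, ∀ b ∈ B, a ≠ b → swap a b ∉ Ind G B

variable {G}

theorem not_noSwap_of {k : ℕ} {B : Finset α} (hB : B.card = k) {a b : α} (ha : a ∈ B) (hb : b ∈ B) (hab : a ≠ b)
    {g : Perm α} (hg : g ∈ G) (h1 : g a = b) (h2 : g b = a) (h3 : ∀ x ∈ B, x ≠ a → x ≠ b → g x = x) :
    ¬ NoSwap G k := fun h => h B hB a ha b hb hab (by
  refine ⟨fun x hx => swap_apply_of_ne_of_ne (fun e => hx (e ▸ ha)) (fun e => hx (e ▸ hb)), g, hg, fun x hx => ?_⟩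
  rcases eq_or_ne x a with rfl | hxa
  · rw [h1, swap_apply_left]
  rcases eq_or_ne x b with rfl | hxb
  · rw [h2, swap_apply_right]
  rw [h3 x hx hxa hxb, swap_apply_of_ne_of_ne hxa hxb])

theorem ktr_of (k : ℕ) (h : IsMultiplyPretransitive G α k) : Ktr G k := by
  intro D f hD hf
  let e : Fin k ↪ α := ((Finset.equivFinOfCardEq hD).symm.toEmbedding).trans ⟨Subtype.val, Subtype.val_injective⟩
  let e' : Fin k ↪ α := ⟨fun i => f (e i), fun i j hij => e.injective
    (hf ((Finset.equivFinOfCardEq hD).symm i).2 ((Finset.equivFinOfCardEq hD).symm j).2 hij)⟩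
  obtain ⟨g, hg⟩ := h.exists_smul_eq e e'
  refine ⟨g, g.2, fun x hx => ?_⟩
  have := DFunLike.congr_fun hg ((Finset.equivFinOfCardEq hD) ⟨x, hx⟩)
  simpa [e, e', Subgroup.smul_def] using this

theorem mpt_of {k : ℕ} (h : Ktr G k) : IsMultiplyPretransitive G α k := by
  refine ⟨fun e e' => ?_⟩
  obtain ⟨g, hg, hgf⟩ := h (Finset.univ.map e) (Function.extend e e' id)
    (by rw [Finset.card_map, Finset.card_univ, Fintype.card_fin]) (by
      intro x hx y hy hxy
      simp only [Finset.coe_map, Set.mem_image, Finset.coe_univ, Set.mem_univ, true_and] at hx hy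
      obtain ⟨i, rfl⟩ := hx
      obtain ⟨j, rfl⟩ := hy
      rw [e.injective.extend_apply, e.injective.extend_apply] at hxy
      rw [e'.injective hxy])
  refine ⟨⟨g, hg⟩, ?_⟩
  ext i
  have := hgf (e i) (by simp)
  rwa [e.injective.extend_apply] at this

theorem Ktr.mono {m k : ℕ} (h : Ktr G k) (hmk : m ≤ k) (hk : k ≤ Fintype.card α) : Ktr G m := by
  haveI := mpt_of h
  exact ktr_of m (MulAction.isMultiplyPretransitive_of_le (n := k) hmk (by rwa [Nat.card_eq_fintype_card]))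

theorem exists_injOn_image {D D' : Finset α} (h : D.card = D'.card) :
    ∃ f : α → α, Set.InjOn f D ∧ D.image f = D' := by
  let σ : Perm α := (Finset.equivOfCardEq h).extendSubtype
  refine ⟨σ, σ.injective.injOn, Finset.eq_of_subset_of_card_le (fun y hy => ?_)
    (by rw [Finset.card_image_of_injective _ σ.injective, h])⟩
  obtain ⟨x, hx, rfl⟩ := Finset.mem_image.1 hy
  exact Equiv.extendSubtype_mem _ x hx

theorem Ktr.hom {k : ℕ} (h : Ktr G k) : Hom G k := by
  intro D D' hD hD'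
  obtain ⟨f, hf, hfD⟩ := exists_injOn_image (hD.trans hD'.symm)
  obtain ⟨g, hg, hgf⟩ := h D f hD hf
  exact ⟨g, hg, by rw [Finset.image_congr fun x hx => hgf x hx, hfD]⟩

theorem hom_of (k : ℕ) (h : IsPretransitive G (Set.powersetCard α k)) : Hom G k := by
  intro D D' hD hD'
  obtain ⟨g, hg⟩ := h.exists_smul_eq ⟨D, hD⟩ ⟨D', hD'⟩
  exact ⟨g, g.2, congrArg Subtype.val hg⟩

theorem conj_mem_pfix {s : Finset α} {g t : Perm α} (hg : g ∈ G) (ht : t ∈ pfix G s) :
    g * t * g⁻¹ ∈ pfix G (s.image g) := by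
  refine ⟨mul_mem (mul_mem hg ht.1) (inv_mem hg), fun x hx => ?_⟩
  obtain ⟨y, hy, rfl⟩ := Finset.mem_image.1 hx
  rw [Perm.mul_apply, Perm.mul_apply, iaa, ht.2 y hy]

theorem conj_mem_pfix' {s : Finset α} {g t : Perm α} (hg : g ∈ G) (hs : ∀ x ∈ s, g x ∈ s)
    (ht : t ∈ pfix G s) : g * t * g⁻¹ ∈ pfix G s := by
  have : s.image g = s := Finset.eq_of_subset_of_card_le (Finset.image_subset_iff.2 hs)
    (by rw [Finset.card_image_of_injective _ g.injective])
  exact this ▸ conj_mem_pfix hg ht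

theorem conj_mem_ind {B : Finset α} {g σ : Perm α} (hg : g ∈ G) (hσ : σ ∈ Ind G B) :
    g * σ * g⁻¹ ∈ Ind G (B.image g) := by
  obtain ⟨h1, h, hh, h2⟩ := hσ
  refine ⟨fun x hx => ?_, g * h * g⁻¹, mul_mem (mul_mem hg hh) (inv_mem hg), fun x hx => ?_⟩
  · have : g⁻¹ x ∉ B := fun hm => hx (Finset.mem_image.2 ⟨_, hm, aia g x⟩)
    rw [Perm.mul_apply, Perm.mul_apply, h1 _ this, aia]
  · obtain ⟨y, hy, rfl⟩ := Finset.mem_image.1 hx
    simp only [Perm.mul_apply, iaa, h2 y hy]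

/-- Transitivity of one pointwise stabiliser raises the degree of transitivity. -/
theorem Ktr.succ {k : ℕ} (h : Ktr G k) {D₀ : Finset α} (hD₀ : D₀.card = k)
    (ht : ∀ x y, x ∉ D₀ → y ∉ D₀ → ∃ g ∈ pfix G D₀, g x = y) : Ktr G (k + 1) := by
  intro B f hB hf
  obtain ⟨b, hb⟩ := Finset.card_pos.1 (show 0 < B.card by omega)
  have hD : (B.erase b).card = k := by rw [Finset.card_erase_of_mem hb]; omega
  obtain ⟨g, hg, hgf⟩ := h (B.erase b) f hD (hf.mono (by simp))
  obtain ⟨g₀, hg₀, hg₀D⟩ := h.hom (B.erase b) D₀ hD hD₀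
  have hmem : ∀ x, g₀ x ∈ D₀ ↔ x ∈ B.erase b := fun x => by
    rw [← hg₀D]
    exact ⟨fun hx => by
      obtain ⟨y, hy, e⟩ := Finset.mem_image.1 hx
      rwa [← g₀.injective e], fun hx => Finset.mem_image_of_mem _ hx⟩
  have hb' : g⁻¹ (f b) ∉ B.erase b := fun hc => by
    have e := hgf _ hc
    rw [aia] at e
    exact (Finset.mem_erase.1 hc).1 (hf (Finset.mem_erase.1 hc).2 hb e.symm)
  obtain ⟨t, ht', htb⟩ := ht (g₀ b) (g₀ (g⁻¹ (f b))) (by rw [hmem]; simp) (by rwa [hmem])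
  refine ⟨g * (g₀⁻¹ * t * g₀), mul_mem hg (mul_mem (mul_mem (inv_mem hg₀) ht'.1) hg₀), fun x hx => ?_⟩
  rcases eq_or_ne x b with rfl | hxb
  · simp only [Perm.mul_apply, htb, iaa, aia]
  · have hxD : x ∈ B.erase b := Finset.mem_erase.2 ⟨hxb, hx⟩
    simp only [Perm.mul_apply, ht'.2 _ ((hmem x).2 hxD), iaa, hgf x hxD]

/-- Everything supported in `B` is induced when all transpositions are. -/
theorem mem_ind_of_swaps {B : Finset α} (h : ∀ a ∈ B, ∀ b ∈ B, a ≠ b → swap a b ∈ Ind G B) {σ : Perm α}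
    (hσ : ∀ x, x ∉ B → σ x = x) : σ ∈ Ind G B := by
  suffices hs : ∀ (m : ℕ) (σ : Perm α), σ.support.card ≤ m → (∀ x, x ∉ B → σ x = x) → σ ∈ Ind G B from
    hs _ σ le_rfl hσ
  intro m
  induction m with
  | zero =>
    intro σ hm _
    rw [Nat.le_zero, Finset.card_eq_zero, Perm.support_eq_empty_iff] at hm
    rw [hm]
    exact one_mem _
  | succ m ih =>
    intro σ hm hσ
    by_cases h1 : σ = 1
    · rw [h1]; exact one_mem _
    obtain ⟨a, ha⟩ : ∃ a, σ a ≠ a := by
      by_contra hc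
      push_neg at hc
      exact h1 (Perm.ext hc)
    have haB : a ∈ B := by by_contra hc; exact ha (hσ a hc)
    have hσaB : σ a ∈ B := by by_contra hc; exact ha (σ.injective (hσ _ hc))
    have hsub : (swap a (σ a) * σ).support.card ≤ m := by
      have h2 := Perm.card_support_swap_mul (f := σ) (x := a) ha
      omega
    have hsw := h a haB (σ a) hσaB (Ne.symm ha)
    have := ih _ hsub (fun x hx => by
      rw [Perm.mul_apply, hσ x hx, swap_apply_of_ne_of_ne (fun e => hx (by rw [e]; exact haB)) (fun e => hx (by rw [e]; exact hσaB))])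
    simpa using mul_mem hsw this

theorem altOn_of_ktr {B : Finset α} {k : ℕ} (h : Ktr G k) (hB : B.card = k) : AltOn G B := fun σ hσ _ =>
  ⟨hσ, h B σ hB σ.injective.injOn⟩

theorem altOn_of_alternating (h : alternatingGroup α ≤ G) (B : Finset α) : AltOn G B := fun σ hσ h1 =>
  ⟨hσ, σ, h (Perm.mem_alternatingGroup.2 h1), fun _ _ => rfl⟩

theorem alternating_le {k : ℕ} (h : Ktr G k) (hk : k ≤ Fintype.card α) (hn : Fintype.card α ≤ k + 2) :
    alternatingGroup α ≤ G := by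
  refine IsMultiplyPretransitive.alternatingGroup_le α G (mpt_of (h.mono ?_ hk))
  rw [Nat.card_eq_fintype_card]; omega

/-- A transposition on some set gives everything, if the alternating group is induced on all. -/
theorem ktr_or_noSwap {k : ℕ} (hh : Hom G k) (hA : ∃ B : Finset α, B.card = k ∧ AltOn G B) :
    Ktr G k ∨ NoSwap G k := by
  obtain ⟨B₀, hB₀, hA₀⟩ := hA
  by_cases hns : NoSwap G k
  · exact Or.inr hns
  left
  simp only [NoSwap, not_forall, not_not] at hns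
  obtain ⟨B₁, hB₁, a, ha, b, hb, hab, hsw⟩ := hns
  obtain ⟨g₁, hg₁, hg₁B⟩ := hh B₁ B₀ hB₁ hB₀
  have hsw' := hg₁B ▸ conj_mem_ind hg₁ hsw
  have hsign : Perm.sign (g₁ * swap a b * g₁⁻¹) = -1 := by simp [hab]
  have hall : ∀ σ : Perm α, (∀ x, x ∉ B₀ → σ x = x) → σ ∈ Ind G B₀ := by
    intro σ hσ
    rcases Int.units_eq_one_or (Perm.sign σ) with h | h
    · exact hA₀ σ hσ h
    · have h2 := hA₀ (σ * (g₁ * swap a b * g₁⁻¹)) (fun x hx => by
        rw [Perm.mul_apply, hsw'.1 x hx, hσ x hx]) (by rw [map_mul, h, hsign]; decide)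
      have h3 := mul_mem h2 (inv_mem hsw')
      rwa [mul_inv_cancel_right] at h3
  intro D f hD hf
  obtain ⟨g, hg, hgD⟩ := hh D B₀ hD hB₀
  obtain ⟨g', hg', hgD'⟩ := hh B₀ (D.image f) hB₀ (by rw [Finset.card_image_of_injOn hf, hD])
  -- the wanted permutation of `B₀`
  let φ : {x // x ∈ B₀} → {x // x ∈ B₀} := fun x => ⟨g'⁻¹ (f (g⁻¹ x)), by
    obtain ⟨y, hy, e⟩ := Finset.mem_image.1 (hgD.symm ▸ x.2 : (x : α) ∈ D.image g)
    have : f (g⁻¹ x) ∈ B₀.image g' := by
      rw [hgD', ← e, iaa]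
      exact Finset.mem_image_of_mem _ hy
    obtain ⟨z, hz, ez⟩ := Finset.mem_image.1 this
    rw [← ez, iaa]
    exact hz⟩
  have hφ : Function.Injective φ := fun x y e => by
    have e' := g'⁻¹.injective (congrArg Subtype.val e)
    obtain ⟨x', hx', ex⟩ := Finset.mem_image.1 (hgD.symm ▸ x.2 : (x : α) ∈ D.image g)
    obtain ⟨y', hy', ey⟩ := Finset.mem_image.1 (hgD.symm ▸ y.2 : (y : α) ∈ D.image g)
    rw [← ex, ← ey, iaa, iaa] at e'
    exact Subtype.ext (by rw [← ex, ← ey, hf hx' hy' e'])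
  let σ : Perm α := Perm.ofSubtype (Equiv.ofBijective φ (Finite.injective_iff_bijective.1 hφ))
  obtain ⟨h', hh', hhσ⟩ := (hall σ fun x hx => Perm.ofSubtype_apply_of_not_mem _ hx).2
  refine ⟨g' * h' * g, mul_mem (mul_mem hg' hh') hg, fun x hx => ?_⟩
  have hgx : g x ∈ B₀ := hgD ▸ Finset.mem_image_of_mem _ hx
  simp only [Perm.mul_apply, hhσ _ hgx, σ, Perm.ofSubtype_apply_of_mem _ hgx, Equiv.ofBijective_apply, φ,
    iaa, aia]

end CfsgLib.Char.Homogeneous
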