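import Cfsg.Agent.Lib.Char.Homogeneous.Basic

/-!
Involutions in a coset of a subgroup of odd order.
-/

set_option autoImplicit false
set_option linter.unusedSectionVars false

namespace CfsgLib.Char.Homogeneous

open Equiv

variable {α : Type*} [Fintype α] [DecidableEq α]

theorem exists_sqrt {T : Subgroup (Perm α)} (hT : Odd (Nat.card T)) {t : Perm α} (ht : t ∈ T) :
    ∃ m : ℕ, (t ^ m) * (t ^ m) = t := by
  obtain ⟨l, hl⟩ := hT
  refine ⟨l + 1, ?_⟩
  have h := congrArg Subtype.val (pow_card_eq_one' (G := T) (x := ⟨t, ht⟩))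
  simp only [SubmonoidClass.coe_pow, OneMemClass.coe_one] at h
  rw [← pow_add, show (l + 1) + (l + 1) = Nat.card T + 1 by omega, pow_succ, h, one_mul]

theorem eq_one_of_sq {T : Subgroup (Perm α)} (hT : Odd (Nat.card T)) {t : Perm α} (ht : t ∈ T)
    (h : t * t = 1) : t = 1 := by
  obtain ⟨m, hm⟩ := exists_sqrt hT ht
  rw [← hm, (Commute.refl t).mul_pow m |>.symm, h, one_pow]

/-- The involutions in the coset are conjugate. -/
theorem exists_conj_of_invol {T : Subgroup (Perm α)} (hT : Odd (Nat.card T)) {x g : Perm α} (hx : x * x = 1)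
    (hg : g * g = 1) (hgT : x⁻¹ * g ∈ T) : ∃ s ∈ T, s * x * s⁻¹ = g := by
  have hxi : x⁻¹ = x := inv_eq_of_mul_eq_one_right hx
  have hgi : g⁻¹ = g := inv_eq_of_mul_eq_one_right hg
  set t := x⁻¹ * g
  obtain ⟨m, hm⟩ := exists_sqrt hT hgT
  have h1 : x * t * x⁻¹ = t⁻¹ := by
    simp only [t, mul_inv_rev, inv_inv, hxi, hgi]
    rw [← mul_assoc, hx, one_mul]
  have h2 : x * t ^ m * x⁻¹ = (t ^ m)⁻¹ := by rw [← conj_pow, h1, inv_pow]
  refine ⟨(t ^ m)⁻¹, inv_mem (pow_mem hgT _), ?_⟩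
  calc (t ^ m)⁻¹ * x * (t ^ m)⁻¹⁻¹ = x * t ^ m * x⁻¹ * x * t ^ m := by rw [inv_inv, h2]
    _ = x * (t ^ m * t ^ m) := by group
    _ = g := by rw [hm]; simp only [t]; group

/-- The number of involutions in the coset. -/
theorem card_invol_coset {T : Subgroup (Perm α)} (hT : Odd (Nat.card T)) {x : Perm α} (hx : x * x = 1)
    (hn : ∀ t ∈ T, x * t * x⁻¹ ∈ T) :
    Nat.card {g : Perm α // g * g = 1 ∧ x⁻¹ * g ∈ T} * Nat.card {t : Perm α // t ∈ T ∧ Commute t x} =
      Nat.card T := by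
  classical
  rw [Nat.card_eq_fintype_card, Nat.card_eq_fintype_card, Nat.card_eq_fintype_card, Fintype.card_subtype,
    Fintype.card_subtype, Fintype.card_subtype]
  rw [Finset.card_eq_sum_card_fiberwise (s := Finset.univ.filter (· ∈ T)) (f := fun s => s * x * s⁻¹)
    (t := Finset.univ.filter fun g => g * g = 1 ∧ x⁻¹ * g ∈ T), ← smul_eq_mul, ← Finset.sum_const]
  · refine Finset.sum_congr rfl fun g hg => ?_
    simp only [Finset.mem_filter, Finset.mem_univ, true_and] at hg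
    obtain ⟨s₀, hs₀, e₀⟩ := exists_conj_of_invol hT hx hg.1 hg.2
    refine Finset.card_bij (fun c _ => s₀ * c) ?_ ?_ ?_
    · intro c hc
      simp only [Finset.mem_filter, Finset.mem_univ, true_and] at hc ⊢
      refine ⟨mul_mem hs₀ hc.1, ?_⟩
      calc s₀ * c * x * (s₀ * c)⁻¹ = s₀ * (c * x * c⁻¹) * s₀⁻¹ := by group
        _ = g := by rw [hc.2.eq, mul_inv_cancel_right, e₀]
    · intro c _ c' _ e
      exact mul_left_cancel e
    · intro s hs
      simp only [Finset.mem_filter, Finset.mem_univ, true_and] at hs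
      refine ⟨s₀⁻¹ * s, ?_, by group⟩
      simp only [Finset.mem_filter, Finset.mem_univ, true_and]
      refine ⟨mul_mem (inv_mem hs₀) hs.1, ?_⟩
      calc s₀⁻¹ * s * x = s₀⁻¹ * (s * x * s⁻¹) * s := by group
        _ = s₀⁻¹ * (s₀ * x * s₀⁻¹) * s := by rw [hs.2, e₀]
        _ = _ := by group
  · intro s hs
    simp only [Finset.coe_filter, Finset.mem_univ, true_and, Set.mem_setOf_eq] at hs ⊢
    refine ⟨by rw [show s * x * s⁻¹ * (s * x * s⁻¹) = s * (x * x) * s⁻¹ by group, hx, mul_one, mul_inv_cancel], ?_⟩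
    rw [show x⁻¹ * (s * x * s⁻¹) = (x * s * x⁻¹) * s⁻¹ by rw [inv_eq_of_mul_eq_one_right hx]; group]
    exact mul_mem (hn s hs) (inv_mem hs)

/-- Without fixed points the coset consists of involutions. -/
theorem inverts_of_fixedPointFree {T : Subgroup (Perm α)} (hT : Odd (Nat.card T)) {x : Perm α} (hx : x * x = 1)
    (hn : ∀ t ∈ T, x * t * x⁻¹ ∈ T) (hC : ∀ t ∈ T, Commute t x → t = 1) :
    ∀ t ∈ T, x * t * x⁻¹ = t⁻¹ := by
  classical
  intro t ht
  have hinj : Function.Injective (fun s : T => (⟨(x * s * x⁻¹) * (s : Perm α)⁻¹,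
      mul_mem (hn s s.2) (inv_mem s.2)⟩ : T)) := by
    intro s s' e
    have e' := congrArg Subtype.val e
    simp only at e'
    have hcm : Commute ((s' : Perm α)⁻¹ * s) x := by
      show (s' : Perm α)⁻¹ * s * x = x * ((s' : Perm α)⁻¹ * s)
      calc (s' : Perm α)⁻¹ * s * x = (s' : Perm α)⁻¹ * (x * s' * x⁻¹ * (x * s' * x⁻¹)⁻¹) * s * x := by group
        _ = (s' : Perm α)⁻¹ * (x * s' * x⁻¹) * ((x * s' * x⁻¹)⁻¹ * s) * x := by group
        _ = _ := by
          have e2 : (x * s' * x⁻¹)⁻¹ * (x * s * x⁻¹) = (s' : Perm α)⁻¹ * s := by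
            calc (x * s' * x⁻¹)⁻¹ * (x * s * x⁻¹)
                = (x * s' * x⁻¹)⁻¹ * (x * s * x⁻¹ * (s : Perm α)⁻¹) * s := by group
              _ = (x * s' * x⁻¹)⁻¹ * (x * s' * x⁻¹ * (s' : Perm α)⁻¹) * s := by rw [e']
              _ = _ := by group
          calc (s' : Perm α)⁻¹ * (x * s' * x⁻¹) * ((x * s' * x⁻¹)⁻¹ * s) * x
              = ((s' : Perm α)⁻¹ * s) * x := by group
            _ = ((x * s' * x⁻¹)⁻¹ * (x * s * x⁻¹)) * x := by rw [e2]
            _ = _ := by group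
    exact Subtype.ext (inv_mul_eq_one.1 (hC _ (mul_mem (inv_mem s'.2) s.2) hcm)).symm
  obtain ⟨s, hs⟩ := (Finite.injective_iff_surjective.1 hinj) ⟨t, ht⟩
  have e : (x * (s : Perm α) * x⁻¹) * (s : Perm α)⁻¹ = t := congrArg Subtype.val hs
  have hxi : x⁻¹ = x := inv_eq_of_mul_eq_one_right hx
  rw [← e, hxi]
  simp only [mul_inv_rev, inv_inv, hxi, mul_assoc]
  simp only [← mul_assoc, hx, one_mul]

end CfsgLib.Char.Homogeneous
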