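import Cfsg.Agent.Lib.Char.Homogeneous.Basic

/-!
Double counting of involutions against ordered quadruples.
-/

set_option autoImplicit false
set_option linter.unusedSectionVars false

namespace CfsgLib.Char.Homogeneous

open Equiv

variable {α : Type*} [Fintype α] [DecidableEq α] {G : Subgroup (Perm α)}

/-- Four distinct points as an embedding. -/
def quad (a b c d : α) (h : a ≠ b ∧ a ≠ c ∧ a ≠ d ∧ b ≠ c ∧ b ≠ d ∧ c ≠ d) : Fin 4 ↪ α :=
  ⟨![a, b, c, d], by
    obtain ⟨h1, h2, h3, h4, h5, h6⟩ := h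
    intro i j e
    fin_cases i <;> fin_cases j <;> simp_all [eq_comm]⟩

theorem quad_eta (q : Fin 4 ↪ α) {a b c d : α} (ha : q 0 = a) (hb : q 1 = b) (hc : q 2 = c) (hd : q 3 = d)
    (h : a ≠ b ∧ a ≠ c ∧ a ≠ d ∧ b ≠ c ∧ b ≠ d ∧ c ≠ d) : quad a b c d h = q := by
  ext i
  fin_cases i
  exacts [ha.symm, hb.symm, hc.symm, hd.symm]

theorem emb_ne {m : ℕ} (q : Fin m ↪ α) {i j : Fin m} (h : i ≠ j) : q i ≠ q j := fun e => h (q.injective e)

theorem Ktr.exists_emb {k : ℕ} (h : Ktr G k) (q q' : Fin k ↪ α) :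
    ∃ g ∈ G, q.trans g.toEmbedding = q' := by
  obtain ⟨g, hg⟩ := (mpt_of h).exists_smul_eq q q'
  exact ⟨g, g.2, Function.Embedding.ext fun i => DFunLike.congr_fun hg i⟩

/-- Double counting against tuples. -/
theorem count {k : ℕ} (hG : Ktr G k) (S : Finset (Perm α)) (hS : ∀ g ∈ G, ∀ z ∈ S, g * z * g⁻¹ ∈ S)
    (P : Perm α → (Fin k ↪ α) → Prop) [∀ z, DecidablePred (P z)]
    (hP : ∀ g z : Perm α, ∀ q, P z q → P (g * z * g⁻¹) (q.trans g.toEmbedding)) (q₀ : Fin k ↪ α) :
    ∑ z ∈ S, (Finset.univ.filter (P z)).card =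
      Fintype.card (Fin k ↪ α) * (S.filter fun z => P z q₀).card := by
  classical
  rw [show (∑ z ∈ S, (Finset.univ.filter (P z)).card) = ∑ q, (S.filter fun z => P z q).card from
    Finset.sum_card_bipartiteAbove_eq_sum_card_bipartiteBelow P, ← Finset.card_univ, ← smul_eq_mul,
    ← Finset.sum_const]
  refine Finset.sum_congr rfl fun q _ => ?_
  obtain ⟨g, hg, hgq⟩ := hG.exists_emb q q₀
  refine Finset.card_bij (fun z _ => g * z * g⁻¹) ?_ ?_ ?_
  · intro z hz
    rw [Finset.mem_filter] at hz ⊢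
    exact ⟨hS g hg z hz.1, hgq ▸ hP g z q hz.2⟩
  · intro z _ z' _ e
    exact mul_left_cancel (mul_right_cancel e)
  · intro z hz
    rw [Finset.mem_filter] at hz
    refine ⟨g⁻¹ * z * g, ?_, by group⟩
    rw [Finset.mem_filter]
    have h1 := hP g⁻¹ z q₀ hz.2
    rw [inv_inv] at h1
    have h2 : q₀.trans (g⁻¹).toEmbedding = q := by
      rw [← hgq]
      ext i
      exact iaa g (q i)
    exact ⟨by simpa using hS g⁻¹ (inv_mem hg) z hz.1, h2 ▸ h1⟩

/-- One two-cycle and two fixed points. -/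
def Swap22 (z : Perm α) (q : Fin 4 ↪ α) : Prop :=
  z (q 0) = q 1 ∧ z (q 1) = q 0 ∧ z (q 2) = q 2 ∧ z (q 3) = q 3

/-- Two two-cycles. -/
def Double (z : Perm α) (q : Fin 4 ↪ α) : Prop :=
  z (q 0) = q 1 ∧ z (q 1) = q 0 ∧ z (q 2) = q 3 ∧ z (q 3) = q 2

/-- Four fixed points. -/
def Fix4 (z : Perm α) (q : Fin 4 ↪ α) : Prop := ∀ i, z (q i) = q i

instance (z : Perm α) : DecidablePred (Swap22 z) := fun q => by unfold Swap22; infer_instance
instance (z : Perm α) : DecidablePred (Double z) := fun q => by unfold Double; infer_instance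
instance (z : Perm α) : DecidablePred (Fix4 z) := fun q => by unfold Fix4; infer_instance

theorem swap22_conj (g z : Perm α) (q : Fin 4 ↪ α) (h : Swap22 z q) :
    Swap22 (g * z * g⁻¹) (q.trans g.toEmbedding) := by
  obtain ⟨h1, h2, h3, h4⟩ := h
  simp [Swap22, h1, h2, h3, h4]

theorem double_conj (g z : Perm α) (q : Fin 4 ↪ α) (h : Double z q) :
    Double (g * z * g⁻¹) (q.trans g.toEmbedding) := by
  obtain ⟨h1, h2, h3, h4⟩ := h
  simp [Double, h1, h2, h3, h4]

theorem fix4_conj (g z : Perm α) (q : Fin 4 ↪ α) (h : Fix4 z q) :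
    Fix4 (g * z * g⁻¹) (q.trans g.toEmbedding) := fun i => by simp [h i]

variable {z : Perm α} (hz : z * z = 1)
include hz

theorem invol_apply (x : α) : z (z x) = x := Perm.ext_iff.1 hz x

theorem card_swap22 :
    (Finset.univ.filter (Swap22 z)).card =
      (Fintype.card α - (Finset.univ.filter fun x => z x = x).card) *
        ((Finset.univ.filter fun x => z x = x).card * (Finset.univ.filter fun x => z x = x).card -
          (Finset.univ.filter fun x => z x = x).card) := by
  classical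
  set F := Finset.univ.filter fun x => z x = x
  rw [← Finset.card_compl, ← Finset.offDiag_card, ← Finset.card_product]
  refine Finset.card_bij (fun q _ => (q 0, (q 2, q 3))) ?_ ?_ ?_
  · intro q hq
    obtain ⟨-, h1, h2, h3, h4⟩ := Finset.mem_filter.1 hq
    simp [F, h1, h3, h4, emb_ne q (show (1 : Fin 4) ≠ 0 by decide), emb_ne q (show (2 : Fin 4) ≠ 3 by decide)]
  · intro q hq q' hq' e
    obtain ⟨-, h1, h2, -, -⟩ := Finset.mem_filter.1 hq
    obtain ⟨-, h1', h2', -, -⟩ := Finset.mem_filter.1 hq'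
    simp only [Prod.mk.injEq] at e
    ext i
    fin_cases i
    exacts [e.1, (h1.symm.trans ((congrArg z e.1).trans h1')), e.2.1, e.2.2]
  · rintro ⟨a, c, d⟩ h
    simp only [F, Finset.mem_product, Finset.mem_compl, Finset.mem_filter, Finset.mem_univ, true_and,
      Finset.mem_offDiag] at h
    obtain ⟨ha, hc, hd, hcd⟩ := h
    have hne : a ≠ z a ∧ a ≠ c ∧ a ≠ d ∧ z a ≠ c ∧ z a ≠ d ∧ c ≠ d :=
      ⟨fun e => ha e.symm, fun e => ha (e ▸ hc), fun e => ha (e ▸ hd),
        fun e => ha (by have e' := congrArg z e; rw [invol_apply hz, hc] at e'; rw [e, e']),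
        fun e => ha (by have e' := congrArg z e; rw [invol_apply hz, hd] at e'; rw [e, e']), hcd⟩
    refine ⟨quad a (z a) c d hne, ?_, rfl⟩
    exact Finset.mem_filter.2 ⟨Finset.mem_univ _, rfl, invol_apply hz a, hc, hd⟩

theorem card_double :
    (Finset.univ.filter (Double z)).card =
      (Fintype.card α - (Finset.univ.filter fun x => z x = x).card) *
        (Fintype.card α - (Finset.univ.filter fun x => z x = x).card - 2) := by
  classical
  set F := Finset.univ.filter fun x => z x = x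
  rw [← Finset.card_compl, ← smul_eq_mul, ← Finset.sum_const]
  have h : ∑ a ∈ Fᶜ, (Fᶜ.card - 2) = ∑ a ∈ Fᶜ, (Fᶜ \ {a, z a}).card := by
    refine Finset.sum_congr rfl fun a ha => ?_
    have ha' : z a ≠ a := by simpa [F] using ha
    rw [Finset.card_sdiff_of_subset (by
      intro x hx
      simp only [Finset.mem_insert, Finset.mem_singleton] at hx
      rcases hx with rfl | rfl
      · exact ha
      · simp only [F, Finset.mem_compl, Finset.mem_filter, Finset.mem_univ, true_and]
        intro e; exact ha' (z.injective e)), Finset.card_pair ha'.symm]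
  rw [h, ← Finset.card_sigma]
  refine Finset.card_bij (fun q _ => ⟨q 0, q 2⟩) ?_ ?_ ?_
  · intro q hq
    obtain ⟨-, h1, h2, h3, h4⟩ := Finset.mem_filter.1 hq
    simp [F, h1, h3, emb_ne q (show (1 : Fin 4) ≠ 0 by decide), emb_ne q (show (3 : Fin 4) ≠ 2 by decide),
      emb_ne q (show (2 : Fin 4) ≠ 0 by decide), emb_ne q (show (2 : Fin 4) ≠ 1 by decide)]
  · intro q hq q' hq' e
    obtain ⟨-, h1, h2, h3, -⟩ := Finset.mem_filter.1 hq
    obtain ⟨-, h1', h2', h3', -⟩ := Finset.mem_filter.1 hq'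
    simp only [Sigma.mk.injEq, heq_eq_eq] at e
    ext i
    fin_cases i
    exacts [e.1, (h1.symm.trans ((congrArg z e.1).trans h1')), e.2, (h3.symm.trans ((congrArg z e.2).trans h3'))]
  · rintro ⟨a, c⟩ h
    simp only [F, Finset.mem_sigma, Finset.mem_compl, Finset.mem_filter, Finset.mem_univ, true_and,
      Finset.mem_sdiff, Finset.mem_insert, Finset.mem_singleton, not_or] at h
    obtain ⟨ha, hc, hca, hcza⟩ := h
    have hne : a ≠ z a ∧ a ≠ c ∧ a ≠ z c ∧ z a ≠ c ∧ z a ≠ z c ∧ c ≠ z c :=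
      ⟨fun e => ha e.symm, Ne.symm hca, fun e => hcza (by rw [e, invol_apply hz]), Ne.symm hcza,
        fun e => hca (z.injective e).symm, fun e => hc e.symm⟩
    refine ⟨quad a (z a) c (z c) hne, ?_, rfl⟩
    exact Finset.mem_filter.2 ⟨Finset.mem_univ _, rfl, invol_apply hz a, rfl, invol_apply hz c⟩

omit hz in
theorem card_fix4 (h4 : (Finset.univ.filter fun x => z x = x).card = 4) :
    (Finset.univ.filter (Fix4 z)).card = 24 := by
  classical
  set F := Finset.univ.filter fun x => z x = x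
  have h : (Finset.univ.filter (Fix4 z)).card = Fintype.card (Fin 4 ↪ {x // x ∈ F}) := by
    rw [← Finset.card_univ]
    refine (Finset.card_bij (fun q _ => q.trans (Function.Embedding.subtype _)) ?_ ?_ ?_).symm
    · intro q _
      exact Finset.mem_filter.2 ⟨Finset.mem_univ _, fun i => (Finset.mem_filter.1 (q i).2).2⟩
    · intro q _ q' _ e
      ext i
      exact DFunLike.congr_fun e i
    · intro q hq
      exact ⟨⟨fun i => ⟨q i, Finset.mem_filter.2 ⟨Finset.mem_univ _, (Finset.mem_filter.1 hq).2 i⟩⟩,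
        fun i j e => q.injective (congrArg Subtype.val e)⟩, Finset.mem_univ _, rfl⟩
  rw [h, Fintype.card_embedding_eq, Fintype.card_coe, h4, Fintype.card_fin]
  rfl

end CfsgLib.Char.Homogeneous
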