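import Cfsg.Agent.Lib.Char.Homogeneous.Quads
import Cfsg.Agent.Lib.Perm.Groups.BurnsidePrime

/-!
An odd-order permutation group which is transitive of prime degree is small (Burnside).
-/

set_option autoImplicit false
set_option linter.unusedSectionVars false

namespace CfsgLib.Char.Homogeneous

open Equiv

variable {α : Type*} [Fintype α] [DecidableEq α]

/-- An odd-order group fixing `a` and containing a long cycle of prime length is affine. -/
theorem card_le_sq {p : ℕ} [hp : Fact p.Prime] (M : Subgroup (Perm α)) (hM : Odd (Nat.card M)) (hp2 : p ≠ 2)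
    (hcard : Fintype.card α = p + 1) (a : α) (ha : ∀ g ∈ M, g a = a) (hd : p ∣ Nat.card M) :
    Nat.card M ≤ p * p := by
  classical
  haveI : NeZero p := ⟨hp.out.ne_zero⟩
  obtain ⟨⟨c, hcM⟩, hc⟩ := exists_prime_orderOf_dvd_card' (G := M) p hd
  rw [Subgroup.orderOf_mk] at hc
  have hcp : c ^ p = 1 := by rw [← hc, pow_orderOf_eq_one]
  have hfix : fxp c = {a} := by
    have h := card_fxp_mod (z := c) (p := p) (e := 1) (by rwa [pow_one])
    rw [hcard, Nat.add_mod_left, Nat.mod_eq_of_lt hp.out.one_lt] at h
    have h1 : (fxp c).card ≤ p + 1 := hcard ▸ Finset.card_le_univ _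
    have hne : (fxp c).card ≠ p + 1 := fun e => by
      have : c = 1 := Perm.ext fun x => mem_fxp.1 (by
        rw [Finset.eq_univ_of_card _ (e.trans hcard.symm)]; exact Finset.mem_univ x)
      rw [this, orderOf_one] at hc
      exact hp.out.one_lt.ne hc
    have h2 : (fxp c).card = 1 := by
      rcases Nat.lt_or_ge (fxp c).card p with h3 | h3
      · rwa [Nat.mod_eq_of_lt h3] at h
      · have : (fxp c).card = p := by omega
        rw [this, Nat.mod_self] at h
        omega
    obtain ⟨x, hx⟩ := Finset.card_eq_one.1 h2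
    have : a ∈ fxp c := mem_fxp.2 (ha c hcM)
    rw [hx, Finset.mem_singleton] at this
    rw [hx, this]
  obtain ⟨b, hb⟩ := Fintype.exists_ne_of_one_lt_card (show 1 < Fintype.card α by
    have := hp.out.two_le; omega) a
  set e : ZMod p → α := fun i => (c ^ i.val) b
  have heA : ∀ i, e i ≠ a := fun i h => hb ((c ^ i.val).injective (h.trans (ha _ (pow_mem hcM _)).symm))
  have hadd : ∀ i j : ZMod p, e (i + j) = (c ^ i.val) (e j) := fun i j => by
    simp only [e]
    rw [ZMod.val_add, ← pow_eq_pow_mod _ hcp, pow_add, Perm.mul_apply]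
  have hinj : Function.Injective e := by
    intro i j h
    by_contra hne
    have hd0 : j - i ≠ 0 := sub_ne_zero.2 (Ne.symm hne)
    have h1 : (c ^ (j - i).val) (e i) = e i := by rw [← hadd, sub_add_cancel, h]
    -- a generator fixes the point
    have h2 : c (e i) = e i := by
      have hmul : ((j - i).val * ((j - i)⁻¹).val : ℕ) % p = 1 % p :=
        (ZMod.natCast_eq_natCast_iff' _ _ p).1 (by simp [hd0])
      have : c ^ ((j - i).val * ((j - i)⁻¹).val) = c := by
        rw [pow_eq_pow_mod _ hcp, hmul, Nat.mod_eq_of_lt hp.out.one_lt, pow_one]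
      rw [← this, pow_mul]
      have : (c ^ (j - i).val) ∈ MulAction.stabilizer (Perm α) (e i) := h1
      exact Subgroup.pow_mem _ this _
    have := mem_fxp.2 h2
    rw [hfix, Finset.mem_singleton] at this
    exact heA i this
  have hrange : Finset.univ.image e = ({a} : Finset α)ᶜ := by
    refine Finset.eq_of_subset_of_card_le (fun x hx => ?_) ?_
    · obtain ⟨i, -, rfl⟩ := Finset.mem_image.1 hx
      simpa using heA i
    · rw [Finset.card_compl, Finset.card_singleton, Finset.card_image_of_injective _ hinj, Finset.card_univ,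
        ZMod.card, hcard, Nat.add_sub_cancel]
  have hex : ∀ (g : Perm α), g ∈ M → ∀ i, ∃ j, e j = g (e i) := fun g hg i => by
    have : g (e i) ∈ ({a} : Finset α)ᶜ := by
      simpa using fun h => heA i (g.injective (h.trans (ha g hg).symm))
    rw [← hrange] at this
    simpa using this
  choose f hf using hex
  set D : Finset (ZMod p) := Finset.univ.filter fun d => ∃ m ∈ M, m b = b ∧ m (e 1) = e d
  have he0 : e 0 = b := by simp [e]
  have hD0 : (0 : ZMod p) ∉ D := by
    simp only [D, Finset.mem_filter, Finset.mem_univ, true_and, not_exists, not_and]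
    intro m _ hmb h
    rw [he0] at h
    have := m.injective (h.trans hmb.symm)
    rw [← he0] at this
    exact one_ne_zero (hinj this)
  have hD1 : (1 : ZMod p) ∈ D := Finset.mem_filter.2 ⟨Finset.mem_univ _, 1, one_mem _, rfl, rfl⟩
  have hprop : ∃ z : ZMod p, z ≠ 0 ∧ z ∉ D := by
    by_contra h
    push_neg at h
    set S : Subgroup (Perm α) := pfix M {b}
    have hcardimg := card_image_mul S (pfix S {e 1}) (fun g hg => hg.1) (fun g => g (e 1)) (fun g hg g' hg' => by
      constructor
      · intro e'
        refine ⟨mul_mem (inv_mem hg) hg', fun y hy => ?_⟩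
        rw [Finset.mem_singleton.1 hy, Perm.mul_apply, Perm.inv_eq_iff_eq]
        exact e'.symm
      · intro hs
        have := hs.2 (e 1) (Finset.mem_singleton_self _)
        rw [Perm.mul_apply, Perm.inv_eq_iff_eq] at this
        exact this.symm)
    have himg : (Finset.univ.filter (· ∈ S)).image (fun g => g (e 1)) = (Finset.univ.erase (0 : ZMod p)).image e := by
      ext x
      constructor
      · intro hx
        obtain ⟨g, hg, rfl⟩ := Finset.mem_image.1 hx
        obtain ⟨hgM, hgb⟩ := (Finset.mem_filter.1 hg).2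
        refine Finset.mem_image.2 ⟨f g hgM 1, Finset.mem_erase.2 ⟨fun h0 => ?_, Finset.mem_univ _⟩, hf g hgM 1⟩
        have h1 := hf g hgM 1
        rw [h0, he0] at h1
        have := g.injective (h1.symm.trans (hgb b (Finset.mem_singleton_self b)).symm)
        rw [← he0] at this
        exact one_ne_zero (hinj this)
      · intro hx
        obtain ⟨d, hd', rfl⟩ := Finset.mem_image.1 hx
        obtain ⟨m, hm, hmb, hme⟩ := (Finset.mem_filter.1 (h d (Finset.mem_erase.1 hd').1)).2
        exact Finset.mem_image.2 ⟨m, Finset.mem_filter.2 ⟨Finset.mem_univ _, hm, fun y hy => by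
          rw [Finset.mem_singleton.1 hy, hmb]⟩, hme⟩
    rw [himg, Finset.card_image_of_injective _ hinj, Finset.card_erase_of_mem (Finset.mem_univ _),
      Finset.card_univ, ZMod.card] at hcardimg
    have hSM : Nat.card S ∣ Nat.card M := Subgroup.card_dvd_of_le fun g hg => hg.1
    have : 2 ∣ Nat.card M := by
      refine dvd_trans ?_ hSM
      rw [← hcardimg]
      refine Dvd.dvd.mul_right ?_ _
      have := hp.out.eq_two_or_odd
      omega
    exact (Nat.not_even_iff_odd.2 hM) (even_iff_two_dvd.2 this)
  have hdiff : ∀ (g : Perm α) (hg : g ∈ M) (x : ZMod p), D.image (fun d => f g hg (x + d) - f g hg x) = D := by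
    intro g hg x
    refine Finset.eq_of_subset_of_card_le (fun y hy => ?_) (le_of_eq (Finset.card_image_of_injective _ ?_).symm)
    · obtain ⟨d, hd', rfl⟩ := Finset.mem_image.1 hy
      obtain ⟨m, hm, hmb, hme⟩ := (Finset.mem_filter.1 hd').2
      set k := f g hg x
      refine Finset.mem_filter.2 ⟨Finset.mem_univ _, c ^ (-k).val * g * c ^ x.val * m,
        mul_mem (mul_mem (mul_mem (pow_mem hcM _) hg) (pow_mem hcM _)) hm, ?_, ?_⟩
      · simp only [Perm.mul_apply, hmb]
        rw [show (c ^ x.val) b = e x from rfl, ← hf g hg x, ← hadd, neg_add_cancel, he0]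
      · simp only [Perm.mul_apply, hme]
        rw [← hadd, ← hf g hg (x + d), ← hadd]
        congr 1
        ring
    · intro u v h
      simp only [sub_left_inj] at h
      have h1 := hf g hg (x + u)
      rw [h, hf g hg (x + v)] at h1
      exact add_left_cancel (hinj (g.injective h1)).symm
  have hbij : ∀ (g : Perm α) (hg : g ∈ M), Function.Bijective (f g hg) := fun g hg =>
    Finite.injective_iff_bijective.1 fun i j h => hinj (g.injective (by rw [← hf g hg i, ← hf g hg j, h]))
  have haff : ∀ (g : Perm α) (hg : g ∈ M) (x : ZMod p),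
      f g hg x = (f g hg 1 - f g hg 0) * x + f g hg 0 := fun g hg x => by
    have := CfsgLib.Perm.Groups.affine_of_diff_preserved (Equiv.ofBijective _ (hbij g hg)) hD0 ⟨1, hD1⟩ hprop
      (fun y => hdiff g hg y) x
    simpa using this
  have hle : Nat.card M ≤ Nat.card (ZMod p × ZMod p) := by
    refine Nat.card_le_card_of_injective (fun g : M => (f g g.2 0, f g g.2 1)) fun g g' h => Subtype.ext ?_
    simp only [Prod.mk.injEq] at h
    refine Perm.ext fun x => ?_
    rcases eq_or_ne x a with rfl | hxa
    · rw [ha _ g.2, ha _ g'.2]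
    · have : x ∈ ({a} : Finset α)ᶜ := by simpa using hxa
      rw [← hrange] at this
      obtain ⟨i, -, rfl⟩ := Finset.mem_image.1 this
      rw [← hf g g.2 i, ← hf g' g'.2 i, haff, haff g', h.1, h.2]
  rwa [Nat.card_prod, Nat.card_zmod] at hle

end CfsgLib.Char.Homogeneous
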