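import Cfsg.Agent.Lib.Char.Homogeneous.PairingFour
import Cfsg.Agent.Lib.Char.Homogeneous.Restrict
import Cfsg.Agent.Lib.Char.Homogeneous.AltSet
import Cfsg.Agent.Lib.Char.Homogeneous.PrimeDegreeOdd
import Cfsg.Agent.Lib.Perm.Groups.SharplyTwo

/-!
Transitive on sets of four and five, triply but not quadruply transitive.
-/

set_option autoImplicit false
set_option linter.unusedSectionVars false

namespace CfsgLib.Char.Homogeneous

open Equiv

variable {α : Type*} [Fintype α] [DecidableEq α] {G : Subgroup (Perm α)}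

theorem Ktr.map_triple (h : Ktr G 3) {a b c a' b' c' : α} (h1 : a ≠ b) (h2 : a ≠ c) (h3 : b ≠ c) (h1' : a' ≠ b')
    (h2' : a' ≠ c') (h3' : b' ≠ c') : ∃ g ∈ G, g a = a' ∧ g b = b' ∧ g c = c' := by
  obtain ⟨g, hg, hgf⟩ := h {a, b, c} (fun x => if x = a then a' else if x = b then b' else c')
    (card_triple h1 h2 h3) (by
      intro x hx y hy e
      simp only [Finset.coe_insert, Finset.coe_singleton, Set.mem_insert_iff, Set.mem_singleton_iff] at hx hy
      rcases hx with rfl | rfl | rfl <;> rcases hy with rfl | rfl | rfl <;> simp_all [eq_comm])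
  exact ⟨g, hg, by rw [hgf a (by simp), if_pos rfl], by rw [hgf b (by simp), if_neg h1.symm, if_pos rfl],
    by rw [hgf c (by simp), if_neg h2.symm, if_neg h3.symm]⟩

/-- A point stabiliser that is sharply doubly transitive has prime power degree. -/
theorem isPrimePow_of_sharp (hn : 4 ≤ Fintype.card α) (h3 : Ktr G 3)
    (hs : ∀ s : Finset α, s.card = 3 → pfix G s = ⊥) : IsPrimePow (Fintype.card α - 1) := by
  classical
  obtain ⟨a⟩ := Fintype.card_pos_iff.1 (show 0 < Fintype.card α by omega)
  set U := ({a} : Finset α)ᶜ with hU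
  have haU : ∀ x ∈ U, x ≠ a := fun x hx => by simpa [hU] using hx
  have hUc : U.card = Fintype.card α - 1 := by rw [hU, Finset.card_compl, Finset.card_singleton]
  set H := restr (pfix G {a}) U
  have hH : Ktr H 2 := by
    refine restr_ktr fun D f hDU hD hf hfU => ?_
    obtain ⟨x, y, hxy, rfl⟩ := Finset.card_eq_two.1 hD
    obtain ⟨g, hg, g1, g2, g3⟩ := h3.map_triple (Ne.symm (haU x (hDU (by simp)))) (Ne.symm (haU y (hDU (by simp))))
      hxy (a' := a) (b' := f x) (c' := f y) (Ne.symm (haU _ (hfU x (by simp)))) (Ne.symm (haU _ (hfU y (by simp))))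
      (fun e => hxy (hf (by simp) (by simp) e))
    refine ⟨g, ⟨hg, fun z hz => by rw [Finset.mem_singleton.1 hz, g1]⟩, fun z hz => ?_, fun z hz => ?_⟩
    · simp only [hU, Finset.mem_compl, Finset.mem_singleton] at hz ⊢
      exact fun e => hz (g.injective (e.trans g1.symm))
    · simp only [Finset.mem_insert, Finset.mem_singleton] at hz
      rcases hz with rfl | rfl <;> assumption
  have hsharp : ∀ e : Fin 2 ↪ U, MulAction.stabilizer H e = ⊥ := by
    intro e
    refine (Subgroup.eq_bot_iff_forall _).2 fun σ hσ => ?_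
    obtain ⟨σ, g, hg, hgσ⟩ := σ
    have hfix : ∀ i, σ (e i) = e i := fun i => DFunLike.congr_fun (MulAction.mem_stabilizer_iff.1 hσ) i
    have : g ∈ pfix G {a, (e 0 : α), (e 1 : α)} := ⟨hg.1, fun z hz => by
      simp only [Finset.mem_insert, Finset.mem_singleton] at hz
      rcases hz with rfl | rfl | rfl
      · exact hg.2 _ (Finset.mem_singleton_self _)
      · rw [hgσ, hfix]
      · rw [hgσ, hfix]⟩
    rw [hs _ (card_triple (Ne.symm (haU _ (e 0).2)) (Ne.symm (haU _ (e 1).2))
      (fun h => (e.injective.ne (show (0 : Fin 2) ≠ 1 by decide)) (Subtype.ext h))), Subgroup.mem_bot] at this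
    refine Subtype.ext (Perm.ext fun u => Subtype.ext ?_)
    show (σ u : α) = u
    rw [← hgσ, this]
    rfl
  obtain ⟨p, K, hp, -, -, hKp, -, hreg, -⟩ := CfsgLib.Perm.Groups.sharp_two_kernel (mpt_of hH) hsharp
    (by rw [Fintype.card_coe, hUc]; omega)
  haveI := Fact.mk hp
  obtain ⟨u⟩ := Fintype.card_pos_iff.1 (show 0 < Fintype.card U by rw [Fintype.card_coe, hUc]; omega)
  have hcard : Nat.card K = Fintype.card U := by
    rw [← Nat.card_eq_fintype_card]
    exact Nat.card_eq_of_bijective (fun k : K => (k : H) • u)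
      ⟨fun k k' e => (hreg u ((k' : H) • u)).unique e rfl, fun v => (hreg u v).exists⟩
  obtain ⟨e, he⟩ := IsPGroup.iff_card.1 (show IsPGroup p K from fun k => ⟨1, Subtype.ext (by
    rw [pow_one]; exact hKp _ k.2)⟩)
  rw [hcard, Fintype.card_coe, hUc] at he
  refine ⟨p, e, hp.prime, Nat.pos_of_ne_zero fun h0 => ?_, he.symm⟩
  rw [h0, pow_zero] at he
  omega

theorem not_isPrimePow_aux {n p q : ℕ} (hp : p.Prime) (hq : q.Prime) (hpq : p ≠ q) (h1 : p ∣ n) (h2 : q ∣ n) :
    ¬ IsPrimePow n := by
  rintro ⟨r, e, hr, he, rfl⟩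
  exact hpq (((Nat.prime_dvd_prime_iff_eq hp hr.nat_prime).1 (hp.dvd_of_dvd_pow h1)).trans
    ((Nat.prime_dvd_prime_iff_eq hq hr.nat_prime).1 (hq.dvd_of_dvd_pow h2)).symm)

/-- Six elements fixing a point of four form its stabiliser. -/
theorem exists_fixed_of_six (X : Subgroup (Perm (Fin 4))) (hX : Nat.card X = 6) :
    ∃ m, ∀ σ, σ ∈ X ↔ σ m = m := by
  classical
  haveI : Fact (Nat.Prime 3) := ⟨Nat.prime_three⟩
  obtain ⟨⟨u, huX⟩, hu⟩ := exists_prime_orderOf_dvd_card' (G := X) 3 (by rw [hX]; norm_num)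
  rw [Subgroup.orderOf_mk] at hu
  have hu3 : u * (u * u) = 1 := by
    have := pow_orderOf_eq_one u
    rw [hu, pow_succ', sq] at this
    exact this
  have hu1 : u ≠ 1 := fun e => by rw [e, orderOf_one] at hu; norm_num at hu
  have hone : ∀ v : Perm (Fin 4), v * (v * v) = 1 → v ≠ 1 → ∃ m, v m = m ∧ ∀ j, v j = j → j = m := by
    decide +kernel
  obtain ⟨m, hm, hmu⟩ := hone u hu3 hu1
  refine ⟨m, ?_⟩
  -- the cyclic subgroup is normal
  set C := (Subgroup.zpowers u).subgroupOf X
  have hC : C.index = 2 := by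
    have := C.card_mul_index
    rw [hX, Nat.card_congr (Subgroup.subgroupOfEquivOfLe (Subgroup.zpowers_le.2 huX)).toEquiv, Nat.card_zpowers,
      hu] at this
    omega
  haveI := Subgroup.normal_of_index_eq_two hC
  have hfix : ∀ σ ∈ X, σ m = m := by
    intro σ hσ
    refine hmu _ ?_
    have h1 := (inferInstance : C.Normal).conj_mem ⟨u, huX⟩ (Subgroup.mem_subgroupOf.2 (Subgroup.mem_zpowers u))
      ⟨σ⁻¹, inv_mem hσ⟩
    rw [Subgroup.mem_subgroupOf] at h1
    simp only [Subgroup.coe_mul, Subgroup.coe_inv, inv_inv] at h1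
    have h2 : σ⁻¹ * u * σ ∈ MulAction.stabilizer (Perm (Fin 4)) m := (Subgroup.zpowers_le.2 hm) h1
    have h3 : (σ⁻¹ * u * σ) m = m := h2
    rwa [Perm.mul_apply, Perm.mul_apply, Perm.inv_eq_iff_eq] at h3
  have hle : X ≤ MulAction.stabilizer (Perm (Fin 4)) m := fun σ hσ => hfix σ hσ
  have hcard : Nat.card (MulAction.stabilizer (Perm (Fin 4)) m) = 6 := by
    rw [Nat.card_congr (Equiv.subtypeEquivRight fun σ : Perm (Fin 4) =>
      (Iff.rfl : σ ∈ MulAction.stabilizer (Perm (Fin 4)) m ↔ σ m = m)), Nat.card_eq_fintype_card]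
    have key : ∀ j : Fin 4, Fintype.card {σ : Perm (Fin 4) // σ j = j} = 6 := by decide +kernel
    exact (Fintype.card_congr (Equiv.subtypeEquivRight fun σ => Iff.rfl)).trans (key m)
  intro σ
  rw [Subgroup.eq_of_le_of_card_ge hle (by rw [hcard, hX])]
  rfl

section main

variable (hn : 6 ≤ Fintype.card α) (h3 : Ktr G 3) (h4 : ¬ Ktr G 4) (hh4 : Hom G 4) (hh5 : Hom G 5)
  (q₀ : Fin 4 ↪ α) {L : ℕ}
  (hL : ∀ (s : Finset α) (x : α), s.card = 3 → x ∉ s → ∀ [DecidablePred fun y => ∃ g ∈ pfix G s, g x = y],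
    (Finset.univ.filter fun y => ∃ g ∈ pfix G s, g x = y).card = L)
include hn h3 h4 hh4 hh5

/-- An involution fixing three points gives four agreeing pairs. -/
theorem odd_triple (hX : Nat.card (Xgrp G q₀) = 8)
    (hw : ∀ B : Finset α, B.card = 5 → (agree G B).card < 4) (s : Finset α) (hs : s.card = 3) :
    Odd (Nat.card (pfix G s)) := by
  classical
  rw [← Nat.not_even_iff_odd, even_iff_two_dvd]
  intro hev
  haveI : Fact (Nat.Prime 2) := ⟨Nat.prime_two⟩
  obtain ⟨z, hz⟩ := exists_prime_orderOf_dvd_card' (G := pfix G s) 2 hev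
  have hz2 : (z : Perm α) * z = 1 := by
    rw [← sq]
    simpa [hz] using congrArg Subtype.val (pow_orderOf_eq_one z)
  obtain ⟨a, ha⟩ : ∃ a, (z : Perm α) a ≠ a := by
    by_contra h
    push_neg at h
    rw [show z = 1 from Subtype.ext (Perm.ext h), orderOf_one] at hz
    norm_num at hz
  obtain ⟨c, d, e, hcd, hce, hde, rfl⟩ := Finset.card_eq_three.1 hs
  have hfx : ∀ y ∈ ({c, d, e} : Finset α), (z : Perm α) y = y ∧ a ≠ y ∧ (z : Perm α) a ≠ y := fun y hy => by
    have := z.2.2 y hy
    exact ⟨this, fun e' => ha (e' ▸ this), fun e' => ha ((z : Perm α).injective (e'.trans this.symm) ▸ this)⟩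
  obtain ⟨c1, c2, c3⟩ := hfx c (by simp)
  obtain ⟨d1, d2, d3⟩ := hfx d (by simp)
  obtain ⟨e1, e2, e3⟩ := hfx e (by simp)
  have hnd : [a, (z : Perm α) a, c, d, e].Nodup := by
    simp [Ne.symm ha, c2, c3, d2, d3, e2, e3, hcd, hce, hde]
  have h := four_le_agree hh4 q₀ hX z.2.1 hnd rfl (Perm.ext_iff.1 hz2 a) c1 d1 e1
  have hB : ({a, (z : Perm α) a, c, d, e} : Finset α).card = 5 := by
    simp [Ne.symm ha, c2, c3, d2, d3, e2, e3, hcd, hce, hde]
  have := hw _ hB
  omega

/-- Degree twenty-four does not occur. -/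
theorem not_twentyfour (hX : Nat.card (Xgrp G q₀) = 8) (hcard : Fintype.card α = 24)
    (hw : ∀ B : Finset α, B.card = 5 → (agree G B).card < 4) {a b c : α} (hab : a ≠ b) (hac : a ≠ c) (hbc : b ≠ c)
    (h7 : 7 ∣ Nat.card (pfix G ({a, b, c} : Finset α))) : False := by
  classical
  haveI : Fact (Nat.Prime 2) := ⟨Nat.prime_two⟩
  haveI : Fact (Nat.Prime 23) := ⟨by norm_num⟩
  set t := Nat.card (pfix G ({a, b, c} : Finset α))
  have htodd : Odd t := odd_triple hn h3 h4 hh4 hh5 q₀ hX hw _ (card_triple hab hac hbc)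
  let e1 : Fin 1 ↪ α := ⟨fun _ => a, fun i j _ => Subsingleton.elim i j⟩
  let e3 : Fin 3 ↪ α := ⟨![a, b, c], fun i j e => by fin_cases i <;> fin_cases j <;> simp_all [eq_comm]⟩
  have hG3 := h3.card_group e3
  have hG1 := (h3.mono (show 1 ≤ 3 by norm_num) (by omega)).card_group e1
  have s3 : Finset.univ.map e3 = {a, b, c} := by
    ext x
    simp only [Finset.mem_map, Finset.mem_univ, true_and, Finset.mem_insert, Finset.mem_singleton]
    constructor
    · rintro ⟨i, rfl⟩
      fin_cases i
      exacts [Or.inl rfl, Or.inr (Or.inl rfl), Or.inr (Or.inr rfl)]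
    · rintro (rfl | rfl | rfl)
      exacts [⟨0, rfl⟩, ⟨1, rfl⟩, ⟨2, rfl⟩]
  have s1 : Finset.univ.map e1 = {a} := by
    ext x
    simp only [Finset.mem_map, Finset.mem_univ, true_and, Finset.mem_singleton]
    exact ⟨fun ⟨_, h⟩ => h.symm, fun h => ⟨0, h.symm⟩⟩
  rw [s3] at hG3
  rw [s1] at hG1
  set K := pfix G ({a} : Finset α)
  have hK : Nat.card K = 506 * t := by
    have : Nat.descFactorial 24 3 = 24 * 506 := rfl
    rw [hcard] at hG1 hG3
    rw [this, ← hG1, Nat.descFactorial_one] at hG3
    change 24 * 506 * t = 24 * Nat.card K at hG3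
    linarith
  obtain ⟨z, hz⟩ := exists_prime_orderOf_dvd_card' (G := K) 2 (by rw [hK]; exact Dvd.dvd.mul_right (by norm_num) t)
  have hzord : orderOf (z : Perm α) = 2 := by rw [Subgroup.orderOf_coe, hz]
  have hz2 : (z : Perm α) * z = 1 := by rw [← sq, ← hzord, pow_orderOf_eq_one]
  have hfa : a ∈ fxp (z : Perm α) := mem_fxp.2 (z.2.2 a (Finset.mem_singleton_self a))
  have hf2 : (fxp (z : Perm α)).card = 2 := by
    have hpar := card_fxp_mod_two hz2
    have hpos := Finset.card_pos.2 ⟨a, hfa⟩
    by_contra hne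
    obtain ⟨s, hs, hsc⟩ := Finset.exists_subset_card_eq (show 3 ≤ (fxp (z : Perm α)).card by omega)
    have hmem : (z : Perm α) ∈ pfix G s := ⟨z.2.1, fun x hx => mem_fxp.1 (hs hx)⟩
    have h1 := eq_one_of_sq (odd_triple hn h3 h4 hh4 hh5 q₀ hX hw s hsc) hmem hz2
    rw [h1, orderOf_one] at hzord
    norm_num at hzord
  have hsign : Perm.sign (z : Perm α) = -1 := by
    obtain ⟨m, hm⟩ := Perm.cycleType_prime_order (σ := (z : Perm α)) (hzord ▸ Nat.prime_two)
    rw [hzord] at hm
    have hsupp : (z : Perm α).support.card = 22 := by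
      have : (z : Perm α).support = (fxp (z : Perm α))ᶜ := by ext x; simp [mem_fxp]
      rw [this, Finset.card_compl, hf2, hcard]
    have hsum := Perm.sum_cycleType (z : Perm α)
    rw [hm, Multiset.sum_replicate, hsupp, smul_eq_mul] at hsum
    rw [Perm.sign_of_cycleType, hm, Multiset.sum_replicate, Multiset.card_replicate, smul_eq_mul,
      show (m + 1) * 2 + (m + 1) = 2 * 16 + 1 by omega, pow_succ, pow_mul]
    simp
  set M := K ⊓ alternatingGroup α
  have hidx : 2 * Nat.card M = Nat.card K := by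
    rw [← card_image_mul K M inf_le_left (fun g => Perm.sign g) (fun g hg g' hg' => ?_)]
    · congr 1
      rw [show (Finset.univ.filter (· ∈ K)).image (fun g => Perm.sign g) = {1, -1} from ?_]
      · rfl
      refine Finset.Subset.antisymm (fun s _ => ?_) (fun s hs => ?_)
      · rcases Int.units_eq_one_or s with e | e <;> simp [e]
      · simp only [Finset.mem_insert, Finset.mem_singleton] at hs
        rcases hs with rfl | rfl
        · exact Finset.mem_image.2 ⟨1, by simp [one_mem], by simp⟩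
        · exact Finset.mem_image.2 ⟨z, by simp, hsign⟩
    · rw [Subgroup.mem_inf, Perm.mem_alternatingGroup, map_mul, Perm.sign_inv]
      constructor
      · exact fun e => ⟨mul_mem (inv_mem hg) hg', by rw [e, Int.units_mul_self]⟩
      · rintro ⟨-, e⟩
        rcases Int.units_eq_one_or (Perm.sign g) with h | h <;> rcases Int.units_eq_one_or (Perm.sign g') with h' | h' <;>
          simp_all
  have hMcard : Nat.card M = 253 * t := by omega
  have h := card_le_sq (p := 23) M (by rw [hMcard]; exact Odd.mul (by decide) htodd) (by norm_num) hcard a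
    (fun g hg => hg.1.2 a (Finset.mem_singleton_self a)) (by rw [hMcard]; exact Dvd.dvd.mul_right (by norm_num) t)
  have := Nat.le_of_dvd Nat.card_pos h7
  change 7 ≤ t at this
  omega

end main

theorem ktr_four_of_alternating (hn : 6 ≤ Fintype.card α) (h : alternatingGroup α ≤ G) : Ktr G 4 := by
  haveI := alternatingGroup.isMultiplyPretransitive α
  intro D f hD hf
  obtain ⟨g, hg, hgf⟩ := ktr_of (G := alternatingGroup α) 4 (MulAction.isMultiplyPretransitive_of_le
    (n := Nat.card α - 2) (by rw [Nat.card_eq_fintype_card]; omega) (Nat.sub_le _ _)) D f hD hf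
  exact ⟨g, h hg, hgf⟩

theorem extends_first : ∀ σ : Perm (Fin 5), (σ 3 = 3 ∨ σ 3 = 4) ∧ (σ 4 = 3 ∨ σ 4 = 4) →
    ∃ ρ : Perm (Fin 4), ρ 3 = 3 ∧ ∀ i : Fin 4, i ≠ 3 → (ρ i).castSucc = σ i.castSucc := by
  decide +kernel

theorem choose_nineteen : Nat.choose 19 4 = 3876 ∧ Nat.choose 19 5 = 11628 := by decide +kernel

/-- Degree nineteen does not occur. -/
theorem not_nineteen (hh4 : Hom G 4) (hh5 : Hom G 5) (q₀ : Fin 4 ↪ α) {L : ℕ}
    (hL : ∀ (s : Finset α) (x : α), s.card = 3 → x ∉ s → ∀ [DecidablePred fun y => ∃ g ∈ pfix G s, g x = y],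
      (Finset.univ.filter fun y => ∃ g ∈ pfix G s, g x = y).card = L)
    (hX : Nat.card (Xgrp G q₀) = 6) (h19 : Fintype.card α = 19) (hL4 : L = 4) {B : Finset α} (hB : B.card = 5) :
    False := by
  classical
  obtain ⟨m, hm⟩ := exists_fixed_of_six _ hX
  set π : Perm (Fin 4) := swap 3 m
  set p : Fin 4 ↪ α := π.toEmbedding.trans q₀
  have hπm : π⁻¹ m = 3 := by simp [π]
  have hπ3 : π 3 = m := by simp [π]
  have hperm : ∀ (q : Fin 4 ↪ α) (ρ : Perm (Fin 4)), ρ 3 = 3 → Same G p q → Same G p (ρ.toEmbedding.trans q) := by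
    intro q ρ hρ hq
    obtain ⟨g, hg, hgq⟩ := hq
    have hπρ : π * ρ * π⁻¹ ∈ Xgrp G q₀ := by
      rw [hm, Perm.mul_apply, Perm.mul_apply, hπm, hρ, hπ3]
    obtain ⟨h, hh, hhq⟩ := hπρ
    refine ⟨g * h, mul_mem hg hh, fun i => ?_⟩
    simp only [p, Function.Embedding.trans_apply, Equiv.coe_toEmbedding, Perm.mul_apply, hhq,
      show π⁻¹ (π i) = i from π.symm_apply_apply i]
    exact hgq (ρ i)
  set Rel : (Fin 5 ↪ α) → Prop := fun q => Same G p (init4 q) ∧
    Same G p (init4 ((swap 3 4 : Perm (Fin 5)).toEmbedding.trans q))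
  have hcount : (Finset.univ.filter Rel).card = (Finset.univ.filter (Same G p)).card * (L - 1) := by
    rw [Finset.card_eq_sum_card_fiberwise (f := init4) (t := Finset.univ.filter (Same G p))
      (fun q hq => by
        simp only [Finset.coe_filter, Finset.mem_univ, true_and, Set.mem_setOf_eq] at hq ⊢
        exact hq.1), ← smul_eq_mul, ← Finset.sum_const]
    refine Finset.sum_congr rfl fun r hr => ?_
    have hr' : Same G p r := (Finset.mem_filter.1 hr).2
    have hs : ({r 0, r 1, r 2} : Finset α).card = 3 :=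
      card_triple (r.injective.ne (by decide)) (r.injective.ne (by decide)) (r.injective.ne (by decide))
    have hx : r 3 ∉ ({r 0, r 1, r 2} : Finset α) := by
      simp only [Finset.mem_insert, Finset.mem_singleton, not_or]
      exact ⟨r.injective.ne (by decide), r.injective.ne (by decide), r.injective.ne (by decide)⟩
    rw [← hL _ _ hs hx, ← Finset.card_erase_of_mem (show r 3 ∈ _ from
      Finset.mem_filter.2 ⟨Finset.mem_univ _, 1, one_mem _, rfl⟩)]
    refine Finset.card_bij (fun q _ => q 4) ?_ ?_ ?_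
    · intro q hq
      simp only [Finset.mem_filter, Finset.mem_univ, true_and] at hq
      obtain ⟨⟨hq1, hq2⟩, rfl⟩ := hq
      obtain ⟨g, hg, hgq⟩ := hq1.symm.trans hq2
      refine Finset.mem_erase.2 ⟨q.injective.ne (show (4 : Fin 5) ≠ 3 by decide),
        Finset.mem_filter.2 ⟨Finset.mem_univ _, g, ⟨hg, fun z hz => ?_⟩, ?_⟩⟩
      · simp only [Finset.mem_insert, Finset.mem_singleton] at hz
        rcases hz with rfl | rfl | rfl
        exacts [hgq 0, hgq 1, hgq 2]
      · exact hgq 3
    · intro q hq q' hq' e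
      simp only [Finset.mem_filter, Finset.mem_univ, true_and] at hq hq'
      ext i
      fin_cases i
      exacts [DFunLike.congr_fun (hq.2.trans hq'.2.symm) 0, DFunLike.congr_fun (hq.2.trans hq'.2.symm) 1,
        DFunLike.congr_fun (hq.2.trans hq'.2.symm) 2, DFunLike.congr_fun (hq.2.trans hq'.2.symm) 3, e]
    · intro y hy
      obtain ⟨hne, hy⟩ := Finset.mem_erase.1 hy
      obtain ⟨g, hg, hgy⟩ := (Finset.mem_filter.1 hy).2
      have hout : ∀ z ∈ ({r 0, r 1, r 2} : Finset α), y ≠ z := fun z hz e => hx (by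
        rw [g.injective (hgy.trans (e.trans (hg.2 z hz).symm))]
        exact hz)
      have hnd : [r 0, r 1, r 2, r 3, y].Nodup := by
        simp [Ne.symm hne, Ne.symm (hout _ (show r 0 ∈ _ by simp)), Ne.symm (hout _ (show r 1 ∈ _ by simp)),
          Ne.symm (hout _ (show r 2 ∈ _ by simp))]
      have hinit : init4 (quint _ _ _ _ _ hnd) = r := by
        ext i
        fin_cases i <;> rfl
      refine ⟨quint _ _ _ _ _ hnd, Finset.mem_filter.2 ⟨Finset.mem_filter.2 ⟨Finset.mem_univ _, ?_⟩, hinit⟩, rfl⟩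
      refine ⟨by rw [hinit]; exact hr', hr'.trans ⟨g, hg.1, fun i => ?_⟩⟩
      fin_cases i
      exacts [hg.2 _ (by simp), hg.2 _ (by simp), hg.2 _ (by simp), hgy]
  have hRinv : ∀ g ∈ G, ∀ q, Rel q → Rel (q.trans g.toEmbedding) := fun g hg q hq =>
    ⟨hq.1.trans ⟨g, hg, fun i => rfl⟩, hq.2.trans ⟨g, hg, fun i => rfl⟩⟩
  have hXp : Nat.card (Xgrp G p) = 6 := by
    rw [← hX]
    refine Nat.card_congr (Equiv.subtypeEquiv (Equiv.mulLeft π |>.trans (Equiv.mulRight π⁻¹)) fun σ => ?_)
    show (∃ g ∈ G, ∀ i, g (p i) = p (σ i)) ↔ (∃ g ∈ G, ∀ i, g (q₀ i) = q₀ ((π * σ * π⁻¹) i))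
    refine exists_congr fun g => and_congr_right fun _ => ⟨fun h i => ?_, fun h i => ?_⟩
    · have := h (π⁻¹ i)
      simp only [p, Function.Embedding.trans_apply, Equiv.coe_toEmbedding,
        show π (π⁻¹ i) = i from π.apply_symm_apply i] at this
      exact this
    · have := h (π i)
      simp only [Perm.mul_apply, show π⁻¹ (π i) = i from π.symm_apply_apply i] at this
      exact this
  have hcnt := hom_count hh5 Rel hRinv hB
  rw [hcount, card_same hh4 p, hXp, h19, hL4, choose_nineteen.1, choose_nineteen.2] at hcnt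
  set S := Finset.univ.filter fun q => Rel q ∧ Finset.univ.map q = B
  have hS6 : S.card = 6 := by omega
  obtain ⟨q, hq⟩ := Finset.card_pos.1 (show 0 < S.card by omega)
  obtain ⟨hqR, hqB⟩ := (Finset.mem_filter.1 hq).2
  have hle : (Finset.univ.filter fun σ : Perm (Fin 5) => (σ 3 = 3 ∨ σ 3 = 4) ∧ (σ 4 = 3 ∨ σ 4 = 4)).card
      ≤ S.card := by
    refine Finset.card_le_card_of_injOn (fun σ => σ.toEmbedding.trans q) ?_ fun σ _ σ' _ e => ?_
    · intro σ hσ
      obtain ⟨-, k3, k4⟩ := Finset.mem_filter.1 hσ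
      refine Finset.mem_filter.2 ⟨Finset.mem_univ _, ?_, by rw [← Finset.map_map, Finset.map_univ_equiv, hqB]⟩
      obtain ⟨ρ, hρ3, hρ⟩ := extends_first σ ⟨k3, k4⟩
      have r1 := hperm _ ρ hρ3 hqR.1
      have r2 := hperm _ ρ hρ3 hqR.2
      have hlt : ∀ i : Fin 4, i ≠ 3 →
          swap (3 : Fin 5) 4 i.castSucc = i.castSucc ∧ swap (3 : Fin 5) 4 (σ i.castSucc) = σ i.castSucc := by
        intro i hi
        have key : ∀ j : Fin 4, j ≠ 3 → j.castSucc ≠ 3 ∧ j.castSucc ≠ (4 : Fin 5) := by decide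
        have hρi : ρ i ≠ 3 := fun e => hi (ρ.injective (e.trans hρ3.symm))
        exact ⟨swap_apply_of_ne_of_ne (key i hi).1 (key i hi).2,
          by rw [← hρ i hi]; exact swap_apply_of_ne_of_ne (key _ hρi).1 (key _ hρi).2⟩
      have c3 : (Fin.castSucc (3 : Fin 4) : Fin 5) = 3 := rfl
      have hne : σ 3 ≠ σ 4 := σ.injective.ne (by decide)
      rcases k3 with e | e <;> rcases k4 with e' | e'
      · exact absurd (e.trans e'.symm) hne
      · constructor
        · convert r1 using 1
          ext i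
          by_cases hi : i = 3
          · simp [init4, hi, hρ3, c3, e]
          · simp [init4, hρ i hi]
        · convert r2 using 1
          ext i
          by_cases hi : i = 3
          · simp [init4, hi, hρ3, c3, e']
          · simp [init4, hρ i hi, hlt i hi]
      · constructor
        · convert r2 using 1
          ext i
          by_cases hi : i = 3
          · simp [init4, hi, hρ3, c3, e]
          · simp [init4, hρ i hi, hlt i hi]
        · convert r1 using 1
          ext i
          by_cases hi : i = 3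
          · simp [init4, hi, hρ3, c3, e']
          · simp [init4, hρ i hi, hlt i hi]
      · exact absurd (e.trans e'.symm) hne
    · ext i
      exact congrArg Fin.val (q.injective (DFunLike.congr_fun e i))
  rw [show (Finset.univ.filter fun σ : Perm (Fin 5) => (σ 3 = 3 ∨ σ 3 = 4) ∧ (σ 4 = 3 ∨ σ 4 = 4)).card = 12 by
    decide +kernel, hS6] at hle
  omega

theorem solutions {i L n w : ℕ} (hi : i = 2 ∨ i = 3 ∨ i = 4 ∨ i = 6 ∨ i = 8 ∨ i = 12 ∨ i = 24) (hL : 2 ≤ L)
    (hw : w ≤ 10) (hn : n - 3 = i * L) (h : 10 * (L - 1) = w * (i * L - 1)) :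
    (i = 2 ∧ L = 3 ∧ n = 9) ∨ (i = 3 ∧ L = 2 ∧ n = 9 ∧ w = 2) ∨ (i = 3 ∧ L = 7 ∧ n = 24 ∧ w = 3) ∨
      (i = 4 ∧ L = 4 ∧ n = 19) := by
  have hw1 : 1 ≤ w := Nat.pos_of_ne_zero fun h0 => by rw [h0, zero_mul] at h; omega
  have hbound : w * i ≤ 9 := by
    obtain ⟨M, rfl⟩ : ∃ M, L = M + 1 := ⟨L - 1, by omega⟩
    obtain ⟨j, rfl⟩ : ∃ j, i = j + 1 := ⟨i - 1, by omega⟩
    rw [show (j + 1) * (M + 1) - 1 = (j + 1) * M + j by rw [Nat.mul_succ]; omega, Nat.add_sub_cancel] at h
    by_contra hc
    have h1 : 10 * M ≤ w * (j + 1) * M := Nat.mul_le_mul_right M (by omega)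
    have h2 : 1 ≤ j := by omega
    have h3 : 0 < w * j := Nat.mul_pos hw1 h2
    rw [Nat.mul_add, ← Nat.mul_assoc] at h
    omega
  rcases hi with rfl | rfl | rfl | rfl | rfl | rfl | rfl
  · obtain rfl | rfl | rfl | rfl : w = 1 ∨ w = 2 ∨ w = 3 ∨ w = 4 := by omega
    all_goals omega
  · obtain rfl | rfl | rfl : w = 1 ∨ w = 2 ∨ w = 3 := by omega
    all_goals omega
  · obtain rfl | rfl : w = 1 ∨ w = 2 := by omega
    all_goals omega
  all_goals
    obtain rfl : w = 1 := by omega
    omega

/-- Transitive on sets of four and five, triply but not quadruply transitive. -/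
theorem k_five (hn : 6 ≤ Fintype.card α) (h3 : Ktr G 3) (h4 : ¬ Ktr G 4) (hh4 : Hom G 4) (hh5 : Hom G 5) :
    (Fintype.card α = 6 ∧ Nat.card G = 120) ∨
      (Fintype.card α = 9 ∧ (Nat.card G = 504 ∨ Nat.card G = 1512)) := by
  classical
  obtain ⟨D, -, hD⟩ := Finset.exists_subset_card_eq (s := (Finset.univ : Finset α)) (n := 4)
    (by rw [Finset.card_univ]; omega)
  let q₀ : Fin 4 ↪ α := ((Finset.equivFinOfCardEq hD).symm.toEmbedding).trans (Function.Embedding.subtype _)
  set X := Xgrp G q₀
  set t4 := Nat.card (pfix G (Finset.univ.map q₀))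
  set s₀ : Finset α := {q₀ 0, q₀ 1, q₀ 2}
  have hs₀ : s₀.card = 3 :=
    card_triple (q₀.injective.ne (by decide)) (q₀.injective.ne (by decide)) (q₀.injective.ne (by decide))
  set t := Nat.card (pfix G s₀)
  have ht : ∀ s : Finset α, s.card = 3 → Nat.card (pfix G s) = t := fun s hs => h3.hom.card_pfix hs hs₀
  have ht4 : ∀ s : Finset α, s.card = 4 → Nat.card (pfix G s) = t4 := fun s hs => hh4.card_pfix hs (by simp)
  obtain ⟨L, hLdef⟩ : ∃ L, L = (Finset.univ.filter fun y => ∃ g ∈ pfix G s₀, g (q₀ 3) = y).card := ⟨_, rfl⟩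
  have hq3 : q₀ 3 ∉ s₀ := by
    simp only [s₀, Finset.mem_insert, Finset.mem_singleton, not_or]
    exact ⟨q₀.injective.ne (by decide), q₀.injective.ne (by decide), q₀.injective.ne (by decide)⟩
  have hLt : L * t4 = t := by
    have := card_orbit_point (G := G) s₀ (q₀ 3)
    rw [ht4 _ (by rw [Finset.card_insert_of_notMem hq3, hs₀]), ← hLdef] at this
    exact this
  have hL : ∀ (s : Finset α) (x : α), s.card = 3 → x ∉ s → ∀ [DecidablePred fun y => ∃ g ∈ pfix G s, g x = y],
      (Finset.univ.filter fun y => ∃ g ∈ pfix G s, g x = y).card = L := by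
    intro s x hs hx _
    have h := card_orbit_point (G := G) s x
    rw [ht4 _ (by rw [Finset.card_insert_of_notMem hx, hs]), ht s hs, ← hLt] at h
    exact Nat.eq_of_mul_eq_mul_right (Nat.card_pos) h
  have hLpos : 1 ≤ L := by
    rw [hLdef]
    exact Finset.card_pos.2 ⟨q₀ 3, Finset.mem_filter.2 ⟨Finset.mem_univ _, 1, one_mem _, rfl⟩⟩
  -- the group order
  let e3 : Fin 3 ↪ α := (⟨Fin.castSucc, Fin.castSucc_injective 3⟩ : Fin 3 ↪ Fin 4).trans q₀
  have se3 : Finset.univ.map e3 = s₀ := by
    ext x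
    simp [e3, s₀, Fin.exists_fin_succ, eq_comm]
  have hG3 := h3.card_group e3
  rw [se3] at hG3
  have hG4 := card_orbit_emb (G := G) q₀
  rw [card_same hh4 q₀] at hG4
  have hnL : (Fintype.card α - 3) * Nat.card X = 24 * L := by
    have hd := Nat.descFactorial_eq_factorial_mul_choose (Fintype.card α) 4
    rw [Nat.descFactorial_succ, show Nat.factorial 4 = 24 from rfl] at hd
    have hpos : 0 < (Fintype.card α).descFactorial 3 := Nat.pos_of_ne_zero fun e =>
      absurd (Nat.descFactorial_eq_zero_iff_lt.1 e) (by omega)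
    have ht4pos : 0 < t4 := Nat.card_pos
    refine Nat.eq_of_mul_eq_mul_left (Nat.mul_pos hpos ht4pos) ?_
    change (Fintype.card α).descFactorial 3 * t = Nat.card G at hG3
    change (Fintype.card α).choose 4 * Nat.card X * t4 = Nat.card G at hG4
    calc (Fintype.card α).descFactorial 3 * t4 * ((Fintype.card α - 3) * Nat.card X)
        = ((Fintype.card α - 3) * (Fintype.card α).descFactorial 3) * Nat.card X * t4 := by ring
      _ = 24 * ((Fintype.card α).choose 4 * Nat.card X * t4) := by rw [hd]; ring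
      _ = _ := by rw [hG4, ← hG3, ← hLt]; ring
  -- the index of the induced group
  have hX24 : Nat.card X * X.index = 24 := by
    rw [Subgroup.card_mul_index, Nat.card_perm, Nat.card_eq_fintype_card, Fintype.card_fin]
    rfl
  have hi1 : X.index ≠ 1 := by
    intro h
    have htop : ∀ σ, σ ∈ X := by rw [Subgroup.index_eq_one.1 h]; exact fun σ => trivial
    refine h4 (ktr_of 4 ⟨fun p p' => ?_⟩)
    obtain ⟨a, ha⟩ := hh4.exists_reindex q₀ p
    obtain ⟨b, hb⟩ := hh4.exists_reindex q₀ p'
    obtain ⟨g, hg, hgp⟩ := ha.symm.trans (((same_reindex q₀ a b).2 (htop _)).trans hb)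
    exact ⟨⟨g, hg⟩, Function.Embedding.ext hgp⟩
  have hiL : Fintype.card α - 3 = X.index * L := by
    refine Nat.eq_of_mul_eq_mul_right (Nat.card_pos (α := X)) ?_
    rw [hnL, ← hX24]; ring
  have hquint : ∀ B : Finset α, B.card = 5 → 10 * (L - 1) = (agree G B).card * (X.index * L - 1) := by
    intro B hB
    rw [quint_equation (by omega) hh5 hL hB, show Fintype.card α - 4 = X.index * L - 1 by omega]
  obtain ⟨B, -, hB⟩ := Finset.exists_subset_card_eq (s := (Finset.univ : Finset α)) (n := 5)
    (by rw [Finset.card_univ]; omega)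
  have hwB := hquint B hB
  have hw10 : (agree G B).card ≤ 10 := by
    refine (Finset.card_le_card (agree_subset B)).trans (le_of_eq ?_)
    rw [Finset.card_powersetCard, hB]
    rfl
  have hidx : X.index ∈ ({2, 3, 4, 6, 8, 12, 24} : Finset ℕ) := by
    have : X.index ∈ Nat.divisors 24 := Nat.mem_divisors.2 ⟨hX24 ▸ Dvd.intro_left _ rfl, by norm_num⟩
    rw [show Nat.divisors 24 = {1, 2, 3, 4, 6, 8, 12, 24} from by decide] at this
    simp only [Finset.mem_insert, Finset.mem_singleton] at this ⊢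
    omega
  simp only [Finset.mem_insert, Finset.mem_singleton] at hidx
  rcases eq_or_ne L 1 with hL1 | hL1
  · -- sharply triply transitive
    have hbot : ∀ s : Finset α, s.card = 3 → pfix G s = ⊥ := by
      intro s hs
      refine (Subgroup.eq_bot_iff_forall _).2 fun g hg => Perm.ext fun x => ?_
      by_cases hx : x ∈ s
      · exact hg.2 x hx
      · have h := hL s x hs hx
        rw [hL1] at h
        exact Finset.card_le_one.1 h.le _ (Finset.mem_filter.2 ⟨Finset.mem_univ _, g, hg, rfl⟩) _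
          (Finset.mem_filter.2 ⟨Finset.mem_univ _, 1, one_mem _, rfl⟩)
    have ht1 : t = 1 := by
      show Nat.card (pfix G s₀) = 1
      rw [hbot s₀ hs₀, Subgroup.card_bot]
    change (Fintype.card α).descFactorial 3 * t = Nat.card G at hG3
    rw [ht1, mul_one] at hG3
    have hpp := isPrimePow_of_sharp (by omega) h3 hbot
    rw [hL1, mul_one] at hiL
    rcases hidx with e | e | e | e | e | e | e
    · omega
    · refine Or.inl ⟨by omega, ?_⟩
      rw [← hG3, show Fintype.card α = 6 by omega]; rfl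
    · rw [show Fintype.card α - 1 = 6 by omega] at hpp
      exact absurd hpp (not_isPrimePow_aux Nat.prime_two Nat.prime_three (by norm_num) (by norm_num) (by norm_num))
    · refine Or.inr ⟨by omega, Or.inl ?_⟩
      rw [← hG3, show Fintype.card α = 9 by omega]; rfl
    · rw [show Fintype.card α - 1 = 10 by omega] at hpp
      exact absurd hpp (not_isPrimePow_aux Nat.prime_two Nat.prime_five (by norm_num) (by norm_num) (by norm_num))
    · rw [show Fintype.card α - 1 = 14 by omega] at hpp
      exact absurd hpp (not_isPrimePow_aux Nat.prime_two (by norm_num : Nat.Prime 7) (by norm_num) (by norm_num)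
        (by norm_num))
    · rw [show Fintype.card α - 1 = 26 by omega] at hpp
      exact absurd hpp (not_isPrimePow_aux Nat.prime_two (by norm_num : Nat.Prime 13) (by norm_num) (by norm_num)
        (by norm_num))
  -- the remaining solutions
  have hsol : (X.index = 2 ∧ L = 3 ∧ Fintype.card α = 9) ∨ (X.index = 3 ∧ L = 2 ∧ Fintype.card α = 9 ∧
      (agree G B).card = 2) ∨ (X.index = 3 ∧ L = 7 ∧ Fintype.card α = 24 ∧ (agree G B).card = 3) ∨
      (X.index = 4 ∧ L = 4 ∧ Fintype.card α = 19) := by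
    exact solutions hidx (by omega) hw10 hiL hwB
  rcases hsol with ⟨hi, hL3, h9⟩ | ⟨hi, hL2, h9, hw⟩ | ⟨hi, hL7, h24, hw⟩ | ⟨hi, hL4, h19⟩
  · -- degree nine, the alternating group of degree four induced
    refine Or.inr ⟨h9, Or.inr ?_⟩
    have hXA : X = alternatingGroup (Fin 4) := Equiv.Perm.eq_alternatingGroup_of_index_eq_two hi
    have hodd : Odd t := by
      rw [← Nat.not_even_iff_odd, even_iff_two_dvd]
      intro hev
      haveI : Fact (Nat.Prime 2) := ⟨Nat.prime_two⟩
      obtain ⟨z, hz⟩ := exists_prime_orderOf_dvd_card' (G := pfix G s₀) 2 hev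
      have hz2 : (z : Perm α) * z = 1 := by
        rw [← sq]
        simpa [hz] using congrArg Subtype.val (pow_orderOf_eq_one z)
      obtain ⟨a, ha⟩ : ∃ a, (z : Perm α) a ≠ a := by
        by_contra h
        push_neg at h
        rw [show z = 1 from Subtype.ext (Perm.ext h), orderOf_one] at hz
        norm_num at hz
      have f0 : (z : Perm α) (q₀ 0) = q₀ 0 := z.2.2 _ (by simp [s₀])
      have f1 : (z : Perm α) (q₀ 1) = q₀ 1 := z.2.2 _ (by simp [s₀])
      have hza : (z : Perm α) ((z : Perm α) a) = a := Perm.ext_iff.1 hz2 a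
      set p : Fin 4 ↪ α := quad a ((z : Perm α) a) (q₀ 0) (q₀ 1) ⟨Ne.symm ha, fun e => ha (by rw [e, f0]),
        fun e => ha (by rw [e, f1]), fun e => ha (by have := congrArg (z : Perm α) e; rw [hza, f0] at this; rw [e, this]),
        fun e => ha (by have := congrArg (z : Perm α) e; rw [hza, f1] at this; rw [e, this]),
        q₀.injective.ne (by decide)⟩
      obtain ⟨π, g, hg, hgp⟩ := hh4.exists_reindex q₀ p
      have hmem : π * swap 0 1 * π⁻¹ ∈ X := by
        refine ⟨g⁻¹ * z * g, mul_mem (mul_mem (inv_mem hg) z.2.1) hg, fun i => ?_⟩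
        have hp : ∀ j, (z : Perm α) (p j) = p (swap 0 1 j) := fun j => by
          fin_cases j <;> simp [p, quad, hza, f0, f1, swap_apply_def]
        have h1 := hgp (π⁻¹ i)
        simp only [Function.Embedding.trans_apply, Equiv.coe_toEmbedding] at h1
        rw [show π (π⁻¹ i) = i from π.apply_symm_apply i] at h1
        have h2 := hgp (swap 0 1 (π⁻¹ i))
        simp only [Function.Embedding.trans_apply, Equiv.coe_toEmbedding] at h2
        simp only [Perm.mul_apply]
        rw [h1, hp, ← h2, iaa]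
      rw [hXA, Perm.mem_alternatingGroup] at hmem
      simp at hmem
    have ht4one : t4 = 1 := by
      by_contra hne
      obtain ⟨g, hg, hg1⟩ : ∃ g ∈ pfix G (insert (q₀ 3) s₀), g ≠ 1 := by
        by_contra hall
        push_neg at hall
        refine hne ?_
        rw [← ht4 (insert (q₀ 3) s₀) (by rw [Finset.card_insert_of_notMem hq3, hs₀]), Subgroup.card_eq_one,
          Subgroup.eq_bot_iff_forall]
        exact hall
      set O := Finset.univ.filter fun y => ∃ g ∈ pfix G s₀, g (q₀ 3) = y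
      have hO3 : O.card = 3 := hLdef.symm.trans hL3
      have hgT : g ∈ pfix G s₀ := ⟨hg.1, fun y hy => hg.2 y (Finset.mem_insert_of_mem hy)⟩
      have hgO : ∀ y ∈ O, g y ∈ O := by
        intro y hy
        obtain ⟨h, hh, rfl⟩ := (Finset.mem_filter.1 hy).2
        exact Finset.mem_filter.2 ⟨Finset.mem_univ _, g * h, mul_mem hgT hh, rfl⟩
      have hg3 : g (q₀ 3) = q₀ 3 := hg.2 _ (Finset.mem_insert_self _ _)
      have hgg : ∀ y ∈ O, g (g y) = y := by
        intro y hy
        rcases eq_or_ne y (q₀ 3) with rfl | hy3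
        · rw [hg3, hg3]
        have hsub : O.erase (q₀ 3) = {y, g y} ∨ g y = y := by
          by_cases hgy : g y = y
          · exact Or.inr hgy
          refine Or.inl (Finset.eq_of_subset_of_card_le (fun x hx => ?_) ?_).symm
          · simp only [Finset.mem_insert, Finset.mem_singleton] at hx
            rcases hx with rfl | rfl
            · exact Finset.mem_erase.2 ⟨hy3, hy⟩
            · exact Finset.mem_erase.2 ⟨fun e => hy3 (g.injective (e.trans hg3.symm)), hgO _ hy⟩
          · rw [Finset.card_pair (Ne.symm hgy), Finset.card_erase_of_mem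
              (Finset.mem_filter.2 ⟨Finset.mem_univ _, 1, one_mem _, rfl⟩), hO3]
        rcases hsub with h | h
        · have : g (g y) ∈ O.erase (q₀ 3) := Finset.mem_erase.2
            ⟨fun e => hy3 (g.injective (g.injective (by rw [e, hg3, hg3]))), hgO _ (hgO _ hy)⟩
          rw [h] at this
          simp only [Finset.mem_insert, Finset.mem_singleton] at this
          rcases this with e | e
          · exact e
          · rw [g.injective e, g.injective e]
        · rw [h, h]
      obtain ⟨m, hm⟩ := exists_sqrt hodd hgT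
      have hfixO : ∀ y ∈ O, g y = y := by
        intro y hy
        have h1 : g * g ∈ MulAction.stabilizer (Perm α) y := hgg y hy
        have h2 : (g * g) ^ m ∈ MulAction.stabilizer (Perm α) y := Subgroup.pow_mem _ h1 _
        rw [(Commute.refl g).mul_pow, hm] at h2
        exact h2
      have hcardsupp : g.support.card ≤ 3 := by
        have hdis : Disjoint s₀ O := Finset.disjoint_left.2 fun y hy hyO => by
          obtain ⟨h, hh, rfl⟩ := (Finset.mem_filter.1 hyO).2
          exact hq3 (h.injective (hh.2 _ hy).symm ▸ hy)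
        have hsub : g.support ⊆ (s₀ ∪ O)ᶜ := fun y hy => by
          rw [Finset.mem_compl, Finset.mem_union]
          rintro (h | h)
          · exact Perm.mem_support.1 hy (hgT.2 y h)
          · exact Perm.mem_support.1 hy (hfixO y h)
        refine (Finset.card_le_card hsub).trans ?_
        rw [Finset.card_compl, Finset.card_union_of_disjoint hdis, hs₀, hO3, h9]
      have h2 : g.support.card ≠ 2 := fun e => by
        obtain ⟨u, v, huv, hgs⟩ := Perm.card_support_eq_two.1 e
        exact hg1 (eq_one_of_sq hodd hgT (by rw [hgs, swap_mul_self]))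
      have h3' : g.support.card = 3 := by
        have := Perm.two_le_card_support_of_ne_one hg1
        omega
      haveI : MulAction.IsMultiplyPretransitive G α 2 := mpt_of (h3.mono (by norm_num) (by omega))
      have hprim : MulAction.IsPreprimitive G α := MulAction.isPreprimitive_of_is_two_pretransitive inferInstance
      exact h4 (ktr_four_of_alternating hn (Perm.alternatingGroup_le_of_isPreprimitive_of_isThreeCycle_mem hprim
        (card_support_eq_three_iff.1 h3') hg.1))
    change (Fintype.card α).descFactorial 3 * t = Nat.card G at hG3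
    rw [← hG3, ← hLt, ht4one, hL3, h9]
    rfl
  · -- degree nine, pairings
    exfalso
    have hX8 : Nat.card X = 8 := by rw [hi] at hX24; omega
    have hw' : ∀ B' : Finset α, B'.card = 5 → (agree G B').card < 4 := fun B' hB' => by
      have := hquint B' hB'
      rw [hi, hL2] at this
      omega
    have hodd : Odd t := odd_triple hn h3 h4 hh4 hh5 q₀ hX8 hw' s₀ hs₀
    rw [← hLt, hL2, Nat.odd_mul] at hodd
    exact absurd hodd.1 (by decide)
  · exfalso
    have hX8 : Nat.card X = 8 := by rw [hi] at hX24; omega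
    have hw' : ∀ B' : Finset α, B'.card = 5 → (agree G B').card < 4 := fun B' hB' => by
      have := hquint B' hB'
      rw [hi, hL7] at this
      omega
    refine not_twentyfour hn h3 h4 hh4 hh5 q₀ hX8 h24 hw' (q₀.injective.ne (show (0 : Fin 4) ≠ 1 by decide))
      (q₀.injective.ne (show (0 : Fin 4) ≠ 2 by decide)) (q₀.injective.ne (show (1 : Fin 4) ≠ 2 by decide)) ?_
    exact ⟨t4, by rw [← hL7]; exact hLt.symm⟩
  · exact (not_nineteen hh4 hh5 q₀ hL (by rw [hi] at hX24; show Nat.card X = 6; omega) h19 hL4 hB).elim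

end CfsgLib.Char.Homogeneous
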