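import Cfsg.Agent.Lib.Char.Homogeneous.Counting
import Cfsg.Agent.Lib.Char.Homogeneous.Coset

/-!
Quadruply transitive groups in which only the identity fixes five points.
-/

set_option autoImplicit false
set_option linter.unusedSectionVars false

namespace CfsgLib.Char.Homogeneous

open Equiv

variable {α : Type*} [Fintype α] [DecidableEq α] {G : Subgroup (Perm α)}

/-- The fixed points. -/
def fxp (z : Perm α) : Finset α := Finset.univ.filter fun x => z x = x

theorem mem_fxp {z : Perm α} {x : α} : x ∈ fxp z ↔ z x = x := by simp [fxp]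

theorem card_fxp_mod {z : Perm α} {p e : ℕ} [Fact p.Prime] (h : z ^ p ^ e = 1) :
    (fxp z).card % p = Fintype.card α % p := by
  have h1 := Perm.card_compl_support_modEq h
  have e : z.supportᶜ = fxp z := by ext x; simp [mem_fxp]
  rw [e] at h1
  exact h1

theorem card_fxp_mod_two {z : Perm α} (h : z * z = 1) : (fxp z).card % 2 = Fintype.card α % 2 := by
  haveI : Fact (Nat.Prime 2) := ⟨Nat.prime_two⟩
  exact card_fxp_mod (p := 2) (e := 1) (by rw [pow_one, sq, h])

theorem card_fxp_conj (g z : Perm α) : (fxp (g * z * g⁻¹)).card = (fxp z).card := by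
  rw [show fxp (g * z * g⁻¹) = (fxp z).image g from ?_, Finset.card_image_of_injective _ g.injective]
  ext x
  simp only [mem_fxp, Finset.mem_image]
  constructor
  · intro h
    refine ⟨g⁻¹ x, g.injective ?_, aia g x⟩
    simpa using h
  · rintro ⟨y, hy, rfl⟩
    simp [hy]

variable (G) in
/-- The involutions with exactly `f` fixed points. -/
noncomputable def involSet (f : ℕ) : Finset (Perm α) := by
  classical
  exact Finset.univ.filter fun z => z ∈ G ∧ z * z = 1 ∧ z ≠ 1 ∧ (fxp z).card = f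

theorem mem_involSet {f : ℕ} {z : Perm α} :
    z ∈ involSet G f ↔ z ∈ G ∧ z * z = 1 ∧ z ≠ 1 ∧ (fxp z).card = f := by
  simp [involSet]

theorem involSet_conj {f : ℕ} : ∀ g ∈ G, ∀ z ∈ involSet G f, g * z * g⁻¹ ∈ involSet G f := by
  intro g hg z hz
  rw [mem_involSet] at hz ⊢
  obtain ⟨h1, h2, h3, h4⟩ := hz
  exact ⟨mul_mem (mul_mem hg h1) (inv_mem hg),
    by rw [show g * z * g⁻¹ * (g * z * g⁻¹) = g * (z * z) * g⁻¹ by group, h2, mul_one, mul_inv_cancel],
    fun e => h3 (conj_eq_one_iff.1 e), (card_fxp_conj g z).trans h4⟩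

/-- The set of four points. -/
def pts (q : Fin 4 ↪ α) : Finset α := Finset.univ.map q

theorem card_pts (q : Fin 4 ↪ α) : (pts q).card = 4 := by simp [pts]

theorem mem_pts (q : Fin 4 ↪ α) (i : Fin 4) : q i ∈ pts q := by simp [pts]

theorem forall_pts {q : Fin 4 ↪ α} {P : α → Prop} (h : ∀ i, P (q i)) : ∀ x ∈ pts q, P x := by
  intro x hx
  simp only [pts, Finset.mem_map, Finset.mem_univ, true_and] at hx
  obtain ⟨i, rfl⟩ := hx
  exact h i

/-- The three counting equations. -/
theorem swap22_eq (hG : Ktr G 4) (f : ℕ) (q : Fin 4 ↪ α) :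
    (involSet G f).card * ((Fintype.card α - f) * (f * f - f)) =
      Fintype.card (Fin 4 ↪ α) * ((involSet G f).filter fun z => Swap22 z q).card := by
  rw [← count hG _ involSet_conj Swap22 swap22_conj q, ← smul_eq_mul, ← Finset.sum_const]
  refine Finset.sum_congr rfl fun z hz => ?_
  obtain ⟨-, h2, -, h4⟩ := mem_involSet.1 hz
  rw [card_swap22 h2, show (Finset.univ.filter fun x => z x = x).card = f from h4]

theorem double_eq (hG : Ktr G 4) (f : ℕ) (q : Fin 4 ↪ α) :
    (involSet G f).card * ((Fintype.card α - f) * (Fintype.card α - f - 2)) =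
      Fintype.card (Fin 4 ↪ α) * ((involSet G f).filter fun z => Double z q).card := by
  rw [← count hG _ involSet_conj Double double_conj q, ← smul_eq_mul, ← Finset.sum_const]
  refine Finset.sum_congr rfl fun z hz => ?_
  obtain ⟨-, h2, -, h4⟩ := mem_involSet.1 hz
  rw [card_double h2, show (Finset.univ.filter fun x => z x = x).card = f from h4]

theorem fix4_eq (hG : Ktr G 4) (q : Fin 4 ↪ α) :
    (involSet G 4).card * 24 = Fintype.card (Fin 4 ↪ α) * ((involSet G 4).filter fun z => Fix4 z q).card := by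
  rw [← count hG _ involSet_conj Fix4 fix4_conj q, ← smul_eq_mul, ← Finset.sum_const]
  refine Finset.sum_congr rfl fun z hz => ?_
  exact (card_fix4 (mem_involSet.1 hz).2.2.2).symm

theorem exists_swap22 (hG : Ktr G 4) (q : Fin 4 ↪ α) : ∃ g ∈ G, Swap22 g q := by
  obtain ⟨g, hg, h⟩ := hG (pts q) (swap (q 0) (q 1)) (card_pts q) (Equiv.injective _).injOn
  refine ⟨g, hg, ?_, ?_, ?_, ?_⟩ <;> rw [h _ (mem_pts q _)]
  · exact swap_apply_left _ _
  · exact swap_apply_right _ _
  · exact swap_apply_of_ne_of_ne (emb_ne q (by decide)) (emb_ne q (by decide))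
  · exact swap_apply_of_ne_of_ne (emb_ne q (by decide)) (emb_ne q (by decide))

theorem swap22_maps {z : Perm α} {q : Fin 4 ↪ α} (h : Swap22 z q) : ∀ x ∈ pts q, z x ∈ pts q := by
  obtain ⟨h1, h2, h3, h4⟩ := h
  refine forall_pts fun i => ?_
  fin_cases i <;> simp [h1, h2, h3, h4, mem_pts]

theorem double_maps {z : Perm α} {q : Fin 4 ↪ α} (h : Double z q) : ∀ x ∈ pts q, z x ∈ pts q := by
  obtain ⟨h1, h2, h3, h4⟩ := h
  refine forall_pts fun i => ?_
  fin_cases i <;> simp [h1, h2, h3, h4, mem_pts]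

theorem swap22_coset {z x : Perm α} {q : Fin 4 ↪ α} (hz : z ∈ G) (hx : x ∈ G) (h : Swap22 z q)
    (h' : Swap22 x q) : x⁻¹ * z ∈ pfix G (pts q) := by
  refine ⟨mul_mem (inv_mem hx) hz, forall_pts fun i => ?_⟩
  obtain ⟨h1, h2, h3, h4⟩ := h
  obtain ⟨g1, g2, g3, g4⟩ := h'
  rw [Perm.mul_apply, Perm.inv_eq_iff_eq]
  fin_cases i <;> simp [h1, h2, h3, h4, g1, g2, g3, g4]

theorem double_coset {z x : Perm α} {q : Fin 4 ↪ α} (hz : z ∈ G) (hx : x ∈ G) (h : Double z q)
    (h' : Double x q) : x⁻¹ * z ∈ pfix G (pts q) := by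
  refine ⟨mul_mem (inv_mem hx) hz, forall_pts fun i => ?_⟩
  obtain ⟨h1, h2, h3, h4⟩ := h
  obtain ⟨g1, g2, g3, g4⟩ := h'
  rw [Perm.mul_apply, Perm.inv_eq_iff_eq]
  fin_cases i <;> simp [h1, h2, h3, h4, g1, g2, g3, g4]

theorem swap22_mul {t z : Perm α} {q : Fin 4 ↪ α} (h : Swap22 z q) (ht : t ∈ pfix G (pts q)) :
    Swap22 (z * t) q := by
  obtain ⟨h1, h2, h3, h4⟩ := h
  refine ⟨?_, ?_, ?_, ?_⟩ <;> rw [Perm.mul_apply, ht.2 _ (mem_pts q _)] <;> assumption

theorem card_le_of_coset {T : Subgroup (Perm α)} {x : Perm α} (s : Finset (Perm α))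
    (hs : ∀ z ∈ s, x⁻¹ * z ∈ T) : s.card ≤ Nat.card T := by
  classical
  rw [← Nat.card_eq_finsetCard]
  refine Nat.card_le_card_of_injective (fun z => (⟨x⁻¹ * (z : Perm α), hs z z.2⟩ : T)) fun a b e => ?_
  exact Subtype.ext (mul_left_cancel (congrArg Subtype.val e))

/-- A lift of a transposition which is an involution, when the pointwise stabiliser has odd order. -/
theorem exists_invol_swap22 (hG : Ktr G 4) (q : Fin 4 ↪ α) (hT : Odd (Nat.card (pfix G (pts q)))) :
    ∃ x ∈ G, x * x = 1 ∧ Swap22 x q := by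
  obtain ⟨g, hg, h⟩ := exists_swap22 hG q
  have h2 : g * g ∈ pfix G (pts q) := by
    refine ⟨mul_mem hg hg, forall_pts fun i => ?_⟩
    obtain ⟨h1, h2, h3, h4⟩ := h
    rw [Perm.mul_apply]
    fin_cases i <;> simp [h1, h2, h3, h4]
  obtain ⟨l, hl⟩ := hT
  refine ⟨g * (g * g) ^ l, mul_mem hg (pow_mem (mul_mem hg hg) l), ?_, swap22_mul h (pow_mem h2 l)⟩
  have hT1 := congrArg Subtype.val (pow_card_eq_one' (G := pfix G (pts q)) (x := ⟨_, h2⟩))
  simp only [SubmonoidClass.coe_pow, OneMemClass.coe_one] at hT1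
  rw [hl] at hT1
  have hc : Commute g ((g * g) ^ l) := ((Commute.refl g).mul_right (Commute.refl g)).pow_right l
  calc g * (g * g) ^ l * (g * (g * g) ^ l) = g * g * ((g * g) ^ l * (g * g) ^ l) := by
        rw [mul_assoc g ((g * g) ^ l), ← mul_assoc ((g * g) ^ l) g, ← hc.eq]; group
    _ = 1 := by rw [← pow_add, ← pow_succ', show l + l + 1 = 2 * l + 1 by omega, hT1]

theorem conj_pfix_swap22 {x t : Perm α} {q : Fin 4 ↪ α} (hx : x ∈ G) (h : Swap22 x q)
    (ht : t ∈ pfix G (pts q)) : x * t * x⁻¹ ∈ pfix G (pts q) :=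
  conj_mem_pfix' hx (swap22_maps h) ht

/-- Reordering four points. -/
def reord (q : Fin 4 ↪ α) (σ : Perm (Fin 4)) : Fin 4 ↪ α := σ.toEmbedding.trans q

theorem pts_reord (q : Fin 4 ↪ α) (σ : Perm (Fin 4)) : pts (reord q σ) = pts q := by
  rw [pts, reord, ← Finset.map_map, Finset.map_univ_equiv, ← pts]

section main

variable (hG : Ktr G 4) (hfree : ∀ g ∈ G, g ≠ 1 → (fxp g).card ≤ 4)
include hG hfree

theorem free_pfix {q : Fin 4 ↪ α} {t : Perm α} (ht : t ∈ pfix G (pts q)) {u : α} (hu : u ∉ pts q)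
    (htu : t u = u) : t = 1 := by
  by_contra h
  have h1 := Finset.card_le_card (show insert u (pts q) ⊆ fxp t from by
    intro x hx
    rw [mem_fxp]
    rcases Finset.mem_insert.1 hx with rfl | hx
    exacts [htu, ht.2 x hx])
  rw [Finset.card_insert_of_notMem hu, card_pts] at h1
  have := hfree t ht.1 h
  omega

theorem dvd_outside (q : Fin 4 ↪ α) : Nat.card (pfix G (pts q)) ∣ Fintype.card α - 4 ∧
    ((∀ x y, x ∉ pts q → y ∉ pts q → ∃ g ∈ pfix G (pts q), g x = y) ∨
      2 * Nat.card (pfix G (pts q)) ≤ Fintype.card α - 4) := by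
  classical
  set T := pfix G (pts q)
  let O : α → Finset α := fun x => (Finset.univ.filter (· ∈ T)).image fun t => t x
  have hmem : ∀ x y, y ∈ O x ↔ ∃ t ∈ T, t x = y := fun x y => by simp [O]
  have hout : ∀ x ∈ (pts q)ᶜ, ∀ y ∈ O x, y ∈ (pts q)ᶜ := by
    intro x hx y hy
    obtain ⟨t, ht, rfl⟩ := (hmem x y).1 hy
    rw [Finset.mem_compl] at hx ⊢
    exact fun hc => hx (by have := ht.2 _ hc; rwa [← t.injective this])
  have hcard : ∀ x ∈ (pts q)ᶜ, (O x).card = Nat.card T := by
    intro x hx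
    rw [Finset.card_image_of_injOn, Nat.card_eq_fintype_card, Fintype.card_subtype]
    intro s hs s' hs' e
    simp only [Finset.coe_filter, Finset.mem_univ, true_and, Set.mem_setOf_eq] at hs hs'
    refine (inv_mul_eq_one.1 (free_pfix hG hfree (mul_mem (inv_mem hs') hs) (Finset.mem_compl.1 hx) ?_)).symm
    rw [Perm.mul_apply, Perm.inv_eq_iff_eq]
    exact e
  have hsame : ∀ x y, y ∈ O x → O y = O x := by
    intro x y hy
    obtain ⟨t, ht, rfl⟩ := (hmem x y).1 hy
    ext w
    rw [hmem, hmem]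
    exact ⟨fun ⟨s, hs, e⟩ => ⟨s * t, mul_mem hs ht, e⟩,
      fun ⟨s, hs, e⟩ => ⟨s * t⁻¹, mul_mem hs (inv_mem ht), by rw [Perm.mul_apply, iaa, e]⟩⟩
  have hself : ∀ x, x ∈ O x := fun x => (hmem x x).2 ⟨1, one_mem _, rfl⟩
  have hsum : (pts q)ᶜ.card = ((pts q)ᶜ.image O).card * Nat.card T := by
    rw [Finset.card_eq_sum_card_image O, ← smul_eq_mul, ← Finset.sum_const]
    refine Finset.sum_congr rfl fun o ho => ?_
    obtain ⟨x, hx, rfl⟩ := Finset.mem_image.1 ho
    rw [← hcard x hx]
    congr 1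
    ext y
    simp only [Finset.mem_filter]
    exact ⟨fun ⟨_, e⟩ => e ▸ hself y, fun hy => ⟨hout x hx y hy, hsame x y hy⟩⟩
  rw [Finset.card_compl, card_pts] at hsum
  refine ⟨hsum ▸ Dvd.intro_left _ rfl, ?_⟩
  rcases Nat.lt_or_ge ((pts q)ᶜ.image O).card 2 with h | h
  · left
    intro x y hx hy
    have := Finset.card_le_one.1 (show ((pts q)ᶜ.image O).card ≤ 1 by omega) (O x)
      (Finset.mem_image_of_mem _ (Finset.mem_compl.2 hx)) (O y)
      (Finset.mem_image_of_mem _ (Finset.mem_compl.2 hy))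
    obtain ⟨t, ht, e⟩ := (hmem x y).1 (this ▸ hself y)
    exact ⟨t, ht, e⟩
  · right
    rw [hsum]
    exact Nat.mul_le_mul_right _ h

theorem no_even (hn : 7 ≤ Fintype.card α) (q : Fin 4 ↪ α)
    (hev : 2 ∣ Nat.card (pfix G (pts q))) (h2t : 2 * Nat.card (pfix G (pts q)) ≤ Fintype.card α - 4) :
    False := by
  classical
  set T := pfix G (pts q)
  set n := Fintype.card α
  haveI : Fact (Nat.Prime 2) := ⟨Nat.prime_two⟩
  obtain ⟨z, hz⟩ := exists_prime_orderOf_dvd_card' (G := T) 2 hev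
  have hz2 : (z : Perm α) * z = 1 := by
    rw [← sq]
    simpa [hz] using congrArg Subtype.val (pow_orderOf_eq_one z)
  have hz1 : (z : Perm α) ≠ 1 := fun e => by
    rw [show z = 1 from Subtype.ext e, orderOf_one] at hz
    norm_num at hz
  have hzf : (fxp (z : Perm α)).card = 4 := le_antisymm (hfree _ z.2.1 hz1)
    (card_pts q ▸ Finset.card_le_card fun x hx => mem_fxp.2 (z.2.2 x hx))
  set i := ((involSet G 4).filter fun z => Fix4 z q).card
  set a := ((involSet G 4).filter fun z => Swap22 z q).card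
  set b := ((involSet G 4).filter fun z => Double z q).card
  have hi1 : 1 ≤ i := Finset.card_pos.2 ⟨z, Finset.mem_filter.2
    ⟨mem_involSet.2 ⟨z.2.1, hz2, hz1, hzf⟩, fun j => z.2.2 _ (mem_pts q j)⟩⟩
  have hN : 0 < Fintype.card (Fin 4 ↪ α) := Fintype.card_pos_iff.2 ⟨q⟩
  have hS : 0 < (involSet G 4).card := Finset.card_pos.2 ⟨z, mem_involSet.2 ⟨z.2.1, hz2, hz1, hzf⟩⟩
  have e0 := fix4_eq hG q
  have e1 := swap22_eq hG 4 q
  have e2 := double_eq hG 4 q
  obtain ⟨x, hx, hxq⟩ := exists_swap22 hG q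
  have hat : a ≤ Nat.card T := card_le_of_coset (x := x) _ fun w hw => by
    obtain ⟨h1, h2⟩ := Finset.mem_filter.1 hw
    exact swap22_coset (mem_involSet.1 h1).1 hx h2 hxq
  have ha : a * 2 = i * (n - 4) := by
    refine Nat.eq_of_mul_eq_mul_left hN ?_
    change (involSet G 4).card * ((n - 4) * 12) = _ * a at e1
    change (involSet G 4).card * 24 = _ * i at e0
    rw [← mul_assoc, ← e1, ← mul_assoc _ i, ← e0]
    ring
  have hb : 24 * b = i * ((n - 4) * (n - 6)) := by
    refine Nat.eq_of_mul_eq_mul_left hN ?_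
    rw [show n - 4 - 2 = n - 6 by omega] at e2
    change (involSet G 4).card * ((n - 4) * (n - 6)) = _ * b at e2
    change (involSet G 4).card * 24 = _ * i at e0
    rw [← mul_assoc _ i, ← e0, mul_left_comm, ← e2]
    ring
  have hi : i = 1 := by
    by_contra hc
    have : 2 * (n - 4) ≤ i * (n - 4) := Nat.mul_le_mul_right _ (by omega)
    omega
  rw [hi, one_mul] at ha hb
  have hat' : a = Nat.card T := by omega
  -- every element of the coset is an involution
  have hall : ∀ w ∈ G, Swap22 w q → w * w = 1 := by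
    have hx' : ∀ t ∈ T, x * t ∈ ((involSet G 4).filter fun z => Swap22 z q) := by
      have heq : ((involSet G 4).filter fun z => Swap22 z q) =
          (Finset.univ.filter (· ∈ T)).image (x * ·) := by
        refine Finset.eq_of_subset_of_card_le (fun w hw => ?_) ?_
        · obtain ⟨h1, h2⟩ := Finset.mem_filter.1 hw
          exact Finset.mem_image.2 ⟨x⁻¹ * w,
            Finset.mem_filter.2 ⟨Finset.mem_univ _, swap22_coset (mem_involSet.1 h1).1 hx h2 hxq⟩,
            mul_inv_cancel_left x w⟩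
        · rw [Finset.card_image_of_injective _ (mul_right_injective x)]
          refine (Eq.le ?_).trans hat'.ge
          rw [Nat.card_eq_fintype_card, Fintype.card_subtype]
      intro t ht
      rw [heq]
      exact Finset.mem_image_of_mem _ (Finset.mem_filter.2 ⟨Finset.mem_univ _, ht⟩)
    intro w hw hwq
    have := (mem_involSet.1 (Finset.mem_filter.1 (hx' _ (swap22_coset hw hx hwq hxq))).1).2.1
    rwa [mul_inv_cancel_left] at this
  have hinv : ∀ w ∈ G, Swap22 w q → ∀ t ∈ T, w * t * w⁻¹ = t⁻¹ := by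
    intro w hw hwq t ht
    have h1 := hall (w * t) (mul_mem hw ht.1) (swap22_mul hwq ht)
    have h2 : w⁻¹ = w := inv_eq_of_mul_eq_one_right (hall w hw hwq)
    rw [h2]
    exact eq_inv_of_mul_eq_one_left (by rw [← h1]; group)
  -- another transposition on the same points
  set q' := reord q (swap 0 2 * swap 1 3)
  obtain ⟨x', hx', hxq'⟩ := exists_swap22 hG q'
  have hT' : pts q' = pts q := pts_reord q _
  have hswap : ∀ t ∈ T, x' * t * x'⁻¹ = t⁻¹ := by
    -- conjugate back to the first quadruple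
    obtain ⟨g, hg, hgq⟩ := hG.exists_emb q' q
    have hgpts : ∀ y ∈ pts q, g y ∈ pts q := by
      rw [← hT']
      refine forall_pts fun j => ?_
      rw [hT', show g (q' j) = q j from DFunLike.congr_fun hgq j]
      exact mem_pts q j
    intro t ht
    have h1 := hinv (g * x' * g⁻¹) (mul_mem (mul_mem hg hx') (inv_mem hg))
      (hgq ▸ swap22_conj g x' q' hxq') (g * t * g⁻¹) (conj_mem_pfix' hg hgpts ht)
    have h2 : g * (x' * t * x'⁻¹) * g⁻¹ = g * t⁻¹ * g⁻¹ := by
      calc g * (x' * t * x'⁻¹) * g⁻¹ = g * x' * g⁻¹ * (g * t * g⁻¹) * (g * x' * g⁻¹)⁻¹ := by group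
        _ = (g * t * g⁻¹)⁻¹ := h1
        _ = _ := by group
    exact mul_left_cancel (mul_right_cancel h2)
  have hxx : Double (x * x') q := by
    obtain ⟨h1, h2, h3, h4⟩ := hxq
    obtain ⟨k1, k2, k3, k4⟩ := hxq'
    have e0' : q' 0 = q 2 := by simp [q', reord, swap_apply_def]
    have e1' : q' 1 = q 3 := by simp [q', reord, swap_apply_def]
    have e2' : q' 2 = q 0 := by simp [q', reord, swap_apply_def]
    have e3' : q' 3 = q 1 := by simp [q', reord, swap_apply_def]
    rw [e0', e1'] at k1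
    rw [e0', e1'] at k2
    rw [e2'] at k3
    rw [e3'] at k4
    refine ⟨?_, ?_, ?_, ?_⟩ <;> rw [Perm.mul_apply]
    · rw [k3, h1]
    · rw [k4, h2]
    · rw [k1, h4]
    · rw [k2, h3]
  have hcent : ∀ t ∈ T, x * x' * t = t * (x * x') := by
    intro t ht
    have h1 := hswap t ht
    have h2 := hinv x hx hxq t⁻¹ (inv_mem ht)
    rw [inv_inv] at h2
    calc x * x' * t = x * (x' * t * x'⁻¹) * x' := by group
      _ = (x * t⁻¹ * x⁻¹) * (x * x') := by rw [h1]; group
      _ = _ := by rw [h2]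
  have hb2 : b ≤ 2 := by
    by_contra hc
    obtain ⟨w1, w2, w3, hw1, hw2, hw3, h12, h13, h23⟩ := Finset.two_lt_card_iff.1 (show 2 < b by omega)
    have hdiff : ∀ w w' : Perm α, w ∈ (involSet G 4).filter (fun z => Double z q) →
        w' ∈ (involSet G 4).filter (fun z => Double z q) → w ≠ w' →
        w⁻¹ * w' ∈ (involSet G 4).filter fun z => Fix4 z q := by
      intro w w' hw hw' hne
      obtain ⟨hwS, hwd⟩ := Finset.mem_filter.1 hw
      obtain ⟨hwS', hwd'⟩ := Finset.mem_filter.1 hw'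
      obtain ⟨g1, g2, -, -⟩ := mem_involSet.1 hwS
      obtain ⟨g1', g2', -, -⟩ := mem_involSet.1 hwS'
      set s := w⁻¹ * w'
      have hs : s ∈ T := double_coset g1' g1 hwd' hwd
      have hu : (x * x')⁻¹ * w ∈ T := double_coset g1 (mul_mem hx hx') hwd hxx
      set u := (x * x')⁻¹ * w
      have hab : ∀ r r' : Perm α, r ∈ T → r' ∈ T → r * r' = r' * r := by
        intro r r' hr hr'
        have e1 := hinv x hx hxq (r * r') (mul_mem hr hr')
        have e2 := hinv x hx hxq r hr
        have e3 := hinv x hx hxq r' hr'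
        have : r'⁻¹ * r⁻¹ = r⁻¹ * r'⁻¹ := by
          rw [← mul_inv_rev, ← e1, ← e2, ← e3]; group
        have h5 := congrArg Inv.inv this
        simp only [mul_inv_rev, inv_inv] at h5
        exact h5
      have hws : w * s = s * w := by
        have e : w = x * x' * u := (mul_inv_cancel_left _ _).symm
        rw [e, mul_assoc, hab u s hu hs, ← mul_assoc, hcent s hs, mul_assoc]
      have hw' : w' = w * s := by simp [s]
      have hss : s * s = 1 := by
        have : w' * w' = w * w * (s * s) := by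
          rw [hw']
          calc w * s * (w * s) = w * (s * w) * s := by group
            _ = _ := by rw [← hws]; group
        rwa [g2', g2, one_mul, eq_comm] at this
      have hs1 : s ≠ 1 := fun e => hne (inv_mul_eq_one.1 e)
      refine Finset.mem_filter.2 ⟨mem_involSet.2 ⟨hs.1, hss, hs1, le_antisymm (hfree s hs.1 hs1) ?_⟩,
        fun j => hs.2 _ (mem_pts q j)⟩
      exact card_pts q ▸ Finset.card_le_card fun y hy => mem_fxp.2 (hs.2 y hy)
    have := Finset.card_le_one.1 (show i ≤ 1 by omega) _ (hdiff w1 w2 hw1 hw2 h12) _ (hdiff w1 w3 hw1 hw3 h13)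
    exact h23 (mul_left_cancel this)
  -- n = 12 and the stabiliser has order four
  have hn4 : n - 4 ≤ 8 := by
    by_contra hc
    have : 9 * (n - 6) ≤ (n - 4) * (n - 6) := Nat.mul_le_mul_right _ (by omega)
    omega
  have hnev : n % 2 = 0 := by
    have := card_fxp_mod_two hz2
    rw [hzf] at this
    omega
  have h8 : n = 12 := by
    rcases (show n = 8 ∨ n = 10 ∨ n = 12 by omega) with h | h | h
    · rw [h] at hb; omega
    · rw [h] at hb; omega
    · exact h
  have ht4 : Nat.card T = 4 := by omega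
  -- a lift of a three-cycle centralises the stabiliser
  set q'' := reord q (swap 0 1 * swap 1 2)
  obtain ⟨x'', hx'', hxq''⟩ := exists_swap22 hG q''
  have hT'' : pts q'' = pts q := pts_reord q _
  have hswap'' : ∀ t ∈ T, x'' * t * x''⁻¹ = t⁻¹ := by
    obtain ⟨g, hg, hgq⟩ := hG.exists_emb q'' q
    have hgpts : ∀ y ∈ pts q, g y ∈ pts q := by
      rw [← hT'']
      refine forall_pts fun j => ?_
      rw [hT'', show g (q'' j) = q j from DFunLike.congr_fun hgq j]
      exact mem_pts q j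
    intro t ht
    have h1 := hinv (g * x'' * g⁻¹) (mul_mem (mul_mem hg hx'') (inv_mem hg))
      (hgq ▸ swap22_conj g x'' q'' hxq'') (g * t * g⁻¹) (conj_mem_pfix' hg hgpts ht)
    have h2 : g * (x'' * t * x''⁻¹) * g⁻¹ = g * t⁻¹ * g⁻¹ := by
      calc g * (x'' * t * x''⁻¹) * g⁻¹ = g * x'' * g⁻¹ * (g * t * g⁻¹) * (g * x'' * g⁻¹)⁻¹ := by group
        _ = (g * t * g⁻¹)⁻¹ := h1
        _ = _ := by group
    exact mul_left_cancel (mul_right_cancel h2)
  set u := x * x''
  have hu : u (q 3) = q 3 := by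
    have e3 : q'' 3 = q 3 := by simp [q'', reord, swap_apply_def]
    have k4 := hxq''.2.2.2
    rw [e3] at k4
    rw [Perm.mul_apply, k4, hxq.2.2.2]
  have hu0 : u (q 0) ≠ q 0 ∧ u (q 1) ≠ q 1 ∧ u (q 2) ≠ q 2 ∧
      (u * (u * u)) ∈ T := by
    obtain ⟨k1, k2, k3, k4⟩ := hxq''
    obtain ⟨h1, h2, h3, h4⟩ := hxq
    have e0' : q'' 0 = q 1 := by simp [q'', reord, swap_apply_def]
    have e1' : q'' 1 = q 2 := by simp [q'', reord, swap_apply_def]
    have e2' : q'' 2 = q 0 := by simp [q'', reord, swap_apply_def]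
    rw [e0', e1'] at k1
    rw [e0', e1'] at k2
    rw [e2'] at k3
    have u0 : u (q 0) = q 1 := by rw [Perm.mul_apply, k3, h1]
    have u1 : u (q 1) = q 2 := by rw [Perm.mul_apply, k1, h3]
    have u2 : u (q 2) = q 0 := by rw [Perm.mul_apply, k2, h2]
    refine ⟨?_, ?_, ?_, mul_mem (mul_mem hx hx'') (mul_mem (mul_mem hx hx'') (mul_mem hx hx'')),
      forall_pts fun j => ?_⟩
    · rw [u0]; exact emb_ne q (by decide)
    · rw [u1]; exact emb_ne q (by decide)
    · rw [u2]; exact emb_ne q (by decide)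
    fin_cases j <;> simp only [Perm.mul_apply] <;>
      simp [u0, u1, u2, hu]
  have hucent : ∀ t ∈ T, u * t = t * u := by
    intro t ht
    have h1 := hswap'' t ht
    have h2 := hinv x hx hxq t⁻¹ (inv_mem ht)
    rw [inv_inv] at h2
    calc u * t = x * (x'' * t * x''⁻¹) * x'' := by simp only [u]; group
      _ = (x * t⁻¹ * x⁻¹) * u := by rw [h1]; simp only [u]; group
      _ = _ := by rw [h2]
  set w := u ^ 4
  have hw3 : w ^ 3 ^ 1 = 1 := by
    have := congrArg Subtype.val (pow_card_eq_one' (G := T) (x := ⟨_, hu0.2.2.2⟩))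
    simp only [SubmonoidClass.coe_pow, OneMemClass.coe_one] at this
    rw [ht4] at this
    rw [pow_one, ← pow_mul]
    rw [show u * (u * u) = u ^ 3 by rw [pow_succ', sq], ← pow_mul] at this
    exact this
  haveI : Fact (Nat.Prime 3) := ⟨Nat.prime_three⟩
  have hwm := card_fxp_mod hw3
  have hu3 : ∀ j, (u ^ 3) (q j) = q j := fun j => by
    rw [show u ^ 3 = u * (u * u) by rw [pow_succ', sq]]
    exact hu0.2.2.2.2 _ (mem_pts q j)
  have hwne : w ≠ 1 := fun e => hu0.1 (by
    have h1 : w (q 0) = q 0 := by rw [e]; rfl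
    rw [show w = u * u ^ 3 from pow_succ' u 3, Perm.mul_apply, hu3] at h1
    exact h1)
  have hwG : w ∈ G := pow_mem (mul_mem hx hx'') 4
  have hwap : ∀ j, w (q j) = u (q j) := fun j => by
    rw [show w = u * u ^ 3 from pow_succ' u 3, Perm.mul_apply, hu3]
  have hfour := hfree w hwG hwne
  have hone : fxp w = {q 3} := by
    refine Finset.eq_singleton_iff_unique_mem.2 ⟨mem_fxp.2 ((hwap 3).trans hu), fun y hy => ?_⟩
    by_contra hy3
    have hyq : y ∉ pts q := by
      intro hm
      simp only [pts, Finset.mem_map, Finset.mem_univ, true_and] at hm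
      obtain ⟨j, rfl⟩ := hm
      rw [mem_fxp, hwap] at hy
      fin_cases j
      exacts [hu0.1 hy, hu0.2.1 hy, hu0.2.2.1 hy, hy3 rfl]
    -- the orbit of `y` is fixed
    have hsub : insert (q 3) ((Finset.univ.filter (· ∈ T)).image fun t => t y) ⊆ fxp w := by
      intro v hv
      rcases Finset.mem_insert.1 hv with rfl | hv
      · exact mem_fxp.2 ((hwap 3).trans hu)
      obtain ⟨t, ht, rfl⟩ := Finset.mem_image.1 hv
      rw [Finset.mem_filter] at ht
      have hc : Commute w t := Commute.pow_left (hucent t ht.2) 4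
      rw [mem_fxp, ← Perm.mul_apply, hc.eq, Perm.mul_apply, mem_fxp.1 hy]
    have hc := Finset.card_le_card hsub
    rw [Finset.card_insert_of_notMem (fun hm => by
        obtain ⟨t, ht, e⟩ := Finset.mem_image.1 hm
        rw [Finset.mem_filter] at ht
        exact hy3 (t.injective (e.trans (ht.2.2 _ (mem_pts q 3)).symm))),
      Finset.card_image_of_injOn, ← Fintype.card_subtype, ← Nat.card_eq_fintype_card] at hc
    · change Nat.card T + 1 ≤ _ at hc
      omega
    intro s hs s' hs' e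
    simp only [Finset.coe_filter, Finset.mem_univ, true_and, Set.mem_setOf_eq] at hs hs'
    refine (inv_mul_eq_one.1 (free_pfix hG hfree (mul_mem (inv_mem hs') hs) hyq ?_)).symm
    rw [Perm.mul_apply, Perm.inv_eq_iff_eq]
    exact e
  change (fxp w).card % 3 = n % 3 at hwm
  rw [hone, h8, Finset.card_singleton] at hwm
  omega

end main

end CfsgLib.Char.Homogeneous
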