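import Cfsg.Agent.Lib.Char.Homogeneous.Free

/-!
Quadruply transitive groups in which only the identity fixes five points: the conclusion.
-/

set_option autoImplicit false
set_option linter.unusedSectionVars false

namespace CfsgLib.Char.Homogeneous

open Equiv

variable {α : Type*} [Fintype α] [DecidableEq α] {G : Subgroup (Perm α)}

theorem ne_one_of_swap22 {z : Perm α} {q : Fin 4 ↪ α} (h : Swap22 z q) : z ≠ 1 := fun e =>
  emb_ne q (show (0 : Fin 4) ≠ 1 by decide) (by rw [← h.1, e]; rfl)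

theorem ne_one_of_double {z : Perm α} {q : Fin 4 ↪ α} (h : Double z q) : z ≠ 1 := fun e =>
  emb_ne q (show (0 : Fin 4) ≠ 1 by decide) (by rw [← h.1, e]; rfl)

/-- The involutions in the coset of a transposition lift. -/
theorem card_swap22_mul (hG : Ktr G 4) {f : ℕ} (q : Fin 4 ↪ α) (hT : Odd (Nat.card (pfix G (pts q))))
    (hf : ∀ g ∈ G, g * g = 1 → Swap22 g q → (fxp g).card = f) {x : Perm α} (hx : x ∈ G) (hx2 : x * x = 1)
    (hxq : Swap22 x q) :
    ((involSet G f).filter fun z => Swap22 z q).card *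
        Nat.card {t : Perm α // t ∈ pfix G (pts q) ∧ Commute t x} = Nat.card (pfix G (pts q)) := by
  classical
  rw [← card_invol_coset hT hx2 (fun t ht => conj_pfix_swap22 hx hxq ht), ← Nat.card_eq_finsetCard]
  congr 1
  refine Nat.card_congr (Equiv.subtypeEquivRight fun g => ?_)
  rw [Finset.mem_filter, mem_involSet]
  constructor
  · rintro ⟨⟨h1, h2, -, -⟩, h5⟩
    exact ⟨h2, swap22_coset h1 hx h5 hxq⟩
  · rintro ⟨h2, h3⟩
    have h1 : g ∈ G := by simpa using mul_mem hx h3.1
    have h5 : Swap22 g q := by simpa using swap22_mul hxq h3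
    exact ⟨⟨h1, h2, ne_one_of_swap22 h5, hf g h1 h2 h5⟩, h5⟩

theorem two_le_fxp {g : Perm α} {q : Fin 4 ↪ α} (h : Swap22 g q) : 2 ≤ (fxp g).card := by
  rw [← Finset.card_pair (emb_ne q (show (2 : Fin 4) ≠ 3 by decide))]
  refine Finset.card_le_card fun x hx => ?_
  simp only [Finset.mem_insert, Finset.mem_singleton] at hx
  rcases hx with rfl | rfl
  exacts [mem_fxp.2 h.2.2.1, mem_fxp.2 h.2.2.2]

theorem commute_maps_fxp {t x : Perm α} (h : Commute t x) {u : α} (hu : u ∈ fxp x) : t u ∈ fxp x := by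
  rw [mem_fxp, ← Perm.mul_apply, ← h.eq, Perm.mul_apply, mem_fxp.1 hu]

theorem card_pfix_conj (hG : Ktr G 4) (q q' : Fin 4 ↪ α) :
    Nat.card (pfix G (pts q)) = Nat.card (pfix G (pts q')) := by
  obtain ⟨g, hg, hgq⟩ := hG.exists_emb q q'
  have himg : (pts q).image g = pts q' := by
    rw [← hgq, pts, pts, ← Finset.map_map, Finset.map_eq_image g.toEmbedding]
    rfl
  refine Nat.card_congr
    { toFun := fun t => ⟨g * t * g⁻¹, himg ▸ conj_mem_pfix hg t.2⟩
      invFun := fun t => ⟨g⁻¹ * t * g, ?_⟩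
      left_inv := fun t => Subtype.ext (by simp only; group)
      right_inv := fun t => Subtype.ext (by simp only; group) }
  refine ⟨mul_mem (mul_mem (inv_mem hg) t.2.1) hg, fun x hx => ?_⟩
  rw [Perm.mul_apply, Perm.mul_apply, t.2.2 _ (himg ▸ Finset.mem_image_of_mem g hx), iaa]

variable (hG : Ktr G 4) (hfree : ∀ g ∈ G, g ≠ 1 → (fxp g).card ≤ 4)
include hG hfree

/-- No involution fixes four points. -/
theorem fxp_ne_four {q : Fin 4 ↪ α} (hT : Odd (Nat.card (pfix G (pts q)))) {g : Perm α} (hg : g ∈ G)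
    (h2 : g * g = 1) (h1 : g ≠ 1) : (fxp g).card ≠ 4 := by
  intro h4
  let q' : Fin 4 ↪ α := ((Finset.equivFinOfCardEq h4).symm.toEmbedding).trans (Function.Embedding.subtype _)
  have hmem : g ∈ pfix G (pts q') :=
    ⟨hg, forall_pts fun i => mem_fxp.1 ((Finset.equivFinOfCardEq h4).symm i).2⟩
  exact h1 (eq_one_of_sq (card_pfix_conj hG q q' ▸ hT) hmem h2)

theorem fxp_swap22 {q : Fin 4 ↪ α} (hT : Odd (Nat.card (pfix G (pts q)))) {g : Perm α} (hg : g ∈ G)
    (h2 : g * g = 1) (h : Swap22 g q) : (fxp g).card = 2 + Fintype.card α % 2 := by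
  have h1 := two_le_fxp h
  have h3 := hfree g hg (ne_one_of_swap22 h)
  have h4 := fxp_ne_four hG hfree hT hg h2 (ne_one_of_swap22 h)
  have h5 := card_fxp_mod_two h2
  omega

theorem odd_case (hn : 7 ≤ Fintype.card α) (q : Fin 4 ↪ α) (hT : Odd (Nat.card (pfix G (pts q))))
    (hpar : Fintype.card α % 2 = 1) :
    Nat.card (pfix G (pts q)) * (Fintype.card α - 5) =
        6 * ((involSet G 3).filter fun z => Double z q).card ∧
      ((involSet G 3).filter fun z => Double z q).card ≤ 1 := by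
  classical
  set T := pfix G (pts q)
  have hf : ∀ q' : Fin 4 ↪ α, pts q' = pts q → ∀ g ∈ G, g * g = 1 → Swap22 g q' → (fxp g).card = 3 :=
    fun q' he g hg h2 h => by
      have := fxp_swap22 hG hfree (q := q') (he.symm ▸ hT) hg h2 h
      rw [hpar] at this
      exact this
  have htriv : ∀ q' : Fin 4 ↪ α, pts q' = pts q → ∀ x ∈ G, x * x = 1 → Swap22 x q' →
      ∀ t ∈ T, Commute t x → t = 1 := by
    intro q' he x hx hx2 hxq t ht hc
    obtain ⟨h1, h2, h3, h4⟩ := hxq
    have hT' : t ∈ pfix G (pts q') := he.symm ▸ ht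
    obtain ⟨u, hu, hu'⟩ := Finset.exists_mem_notMem_of_card_lt_card
      (show ({q' 2, q' 3} : Finset α).card < (fxp x).card by
        rw [hf q' he x hx hx2 ⟨h1, h2, h3, h4⟩]
        exact lt_of_le_of_lt Finset.card_le_two (by norm_num))
    simp only [Finset.mem_insert, Finset.mem_singleton, not_or] at hu'
    have hout : u ∉ pts q' := by
      intro hm
      simp only [pts, Finset.mem_map, Finset.mem_univ, true_and] at hm
      obtain ⟨j, rfl⟩ := hm
      rw [mem_fxp] at hu
      fin_cases j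
      · exact emb_ne q' (show (1 : Fin 4) ≠ 0 by decide) (h1.symm.trans hu)
      · exact emb_ne q' (show (0 : Fin 4) ≠ 1 by decide) (h2.symm.trans hu)
      · exact hu'.1 rfl
      · exact hu'.2 rfl
    refine free_pfix hG hfree hT' hout ?_
    have hall : fxp x = {q' 2, q' 3, u} := by
      refine (Finset.eq_of_subset_of_card_le ?_ ?_).symm
      · intro v hv
        simp only [Finset.mem_insert, Finset.mem_singleton] at hv
        rcases hv with rfl | rfl | rfl
        exacts [mem_fxp.2 h3, mem_fxp.2 h4, hu]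
      · rw [hf q' he x hx hx2 ⟨h1, h2, h3, h4⟩, Finset.card_insert_of_notMem, Finset.card_pair (Ne.symm hu'.2)]
        simp only [Finset.mem_insert, Finset.mem_singleton, not_or]
        exact ⟨emb_ne q' (by decide), Ne.symm hu'.1⟩
    have := commute_maps_fxp hc hu
    rw [hall] at this
    simp only [Finset.mem_insert, Finset.mem_singleton] at this
    rcases this with e | e | e
    · exact absurd (t.injective (e.trans (hT'.2 _ (mem_pts q' 2)).symm)) hu'.1
    · exact absurd (t.injective (e.trans (hT'.2 _ (mem_pts q' 3)).symm)) hu'.2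
    · exact e
  have hinv : ∀ q' : Fin 4 ↪ α, pts q' = pts q → ∀ x ∈ G, x * x = 1 → Swap22 x q' →
      ∀ t ∈ T, x * t * x⁻¹ = t⁻¹ := fun q' he x hx hx2 hxq => by
    refine inverts_of_fixedPointFree hT hx2 (fun t ht => ?_) (htriv q' he x hx hx2 hxq)
    have := conj_pfix_swap22 hx hxq (he.symm ▸ ht : t ∈ pfix G (pts q'))
    rwa [he] at this
  obtain ⟨x, hx, hx2, hxq⟩ := exists_invol_swap22 hG q hT
  have ha : ((involSet G 3).filter fun z => Swap22 z q).card = Nat.card T := by
    have h := card_swap22_mul hG q hT (hf q rfl) hx hx2 hxq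
    rwa [show Nat.card {t : Perm α // t ∈ T ∧ Commute t x} = 1 from Nat.card_eq_one_iff_unique.2
      ⟨⟨fun a b => Subtype.ext ((htriv q rfl x hx hx2 hxq _ a.2.1 a.2.2).trans
        (htriv q rfl x hx hx2 hxq _ b.2.1 b.2.2).symm)⟩, ⟨⟨1, one_mem _, Commute.one_left x⟩⟩⟩, mul_one] at h
  constructor
  · have e1 := swap22_eq hG 3 q
    have e2 := double_eq hG 3 q
    rw [ha] at e1
    refine Nat.eq_of_mul_eq_mul_left (Fintype.card_pos_iff.2 ⟨q⟩ : 0 < Fintype.card (Fin 4 ↪ α)) ?_
    rw [← mul_assoc, ← e1, mul_left_comm _ 6, ← e2,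
      show Fintype.card α - 3 - 2 = Fintype.card α - 5 by omega]
    ring
  · set q' := reord q (swap 0 2 * swap 1 3)
    have hT' : pts q' = pts q := pts_reord q _
    obtain ⟨x', hx', hx2', hxq'⟩ := exists_invol_swap22 hG q' (hT'.symm ▸ hT)
    have hab : ∀ r r' : Perm α, r ∈ T → r' ∈ T → r * r' = r' * r := by
      intro r r' hr hr'
      have e1 := hinv q rfl x hx hx2 hxq (r * r') (mul_mem hr hr')
      have e2 := hinv q rfl x hx hx2 hxq r hr
      have e3 := hinv q rfl x hx hx2 hxq r' hr'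
      have : r'⁻¹ * r⁻¹ = r⁻¹ * r'⁻¹ := by rw [← mul_inv_rev, ← e1, ← e2, ← e3]; group
      have h5 := congrArg Inv.inv this
      simp only [mul_inv_rev, inv_inv] at h5
      exact h5
    have hxx : Double (x * x') q := by
      obtain ⟨h1, h2, h3, h4⟩ := hxq
      obtain ⟨k1, k2, k3, k4⟩ := hxq'
      have e0' : q' 0 = q 2 := by simp [q', reord, swap_apply_def]
      have e1' : q' 1 = q 3 := by simp [q', reord, swap_apply_def]
      have e2' : q' 2 = q 0 := by simp [q', reord, swap_apply_def]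
      have e3' : q' 3 = q 1 := by simp [q', reord, swap_apply_def]
      rw [e0', e1'] at k1
      rw [e0', e1'] at k2
      rw [e2'] at k3
      rw [e3'] at k4
      refine ⟨?_, ?_, ?_, ?_⟩ <;> rw [Perm.mul_apply]
      · rw [k3, h1]
      · rw [k4, h2]
      · rw [k1, h4]
      · rw [k2, h3]
    refine Finset.card_le_one.2 fun w hw w' hw' => ?_
    obtain ⟨hwS, hwd⟩ := Finset.mem_filter.1 hw
    obtain ⟨hwS', hwd'⟩ := Finset.mem_filter.1 hw'
    obtain ⟨g1, g2, -, -⟩ := mem_involSet.1 hwS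
    obtain ⟨g1', g2', -, -⟩ := mem_involSet.1 hwS'
    have hs : w⁻¹ * w' ∈ T := double_coset g1' g1 hwd' hwd
    have hu : (x * x')⁻¹ * w ∈ T := double_coset g1 (mul_mem hx hx') hwd hxx
    set s := w⁻¹ * w'
    set u := (x * x')⁻¹ * w
    have hcent : x * x' * s = s * (x * x') := by
      have h1 := hinv q' hT' x' hx' hx2' hxq' s hs
      have h2 := hinv q rfl x hx hx2 hxq s⁻¹ (inv_mem hs)
      rw [inv_inv] at h2
      calc x * x' * s = x * (x' * s * x'⁻¹) * x' := by group
        _ = (x * s⁻¹ * x⁻¹) * (x * x') := by rw [h1]; group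
        _ = _ := by rw [h2]
    have hws : w * s = s * w := by
      have e : w = x * x' * u := (mul_inv_cancel_left _ _).symm
      rw [e, mul_assoc, hab u s hu hs, ← mul_assoc, hcent, mul_assoc]
    have hss : s * s = 1 := by
      have : w' * w' = w * w * (s * s) := by
        rw [show w' = w * s by simp [s]]
        calc w * s * (w * s) = w * (s * w) * s := by group
          _ = _ := by rw [← hws]; group
      rwa [g2', g2, one_mul, eq_comm] at this
    exact inv_mul_eq_one.1 (eq_one_of_sq hT hs hss)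

theorem even_case (hn : 7 ≤ Fintype.card α) (q : Fin 4 ↪ α) (hT : Odd (Nat.card (pfix G (pts q))))
    (hpar : Fintype.card α % 2 = 0) : False := by
  classical
  set T := pfix G (pts q)
  obtain ⟨x, hx, hx2, hxq⟩ := exists_invol_swap22 hG q hT
  have hfx : (fxp x).card = 2 := by
    have := fxp_swap22 hG hfree hT hx hx2 hxq
    omega
  have hS : 0 < (involSet G 2).card :=
    Finset.card_pos.2 ⟨x, mem_involSet.2 ⟨hx, hx2, ne_one_of_swap22 hxq, hfx⟩⟩
  have hy : ∀ q' : Fin 4 ↪ α, ∃ y ∈ involSet G 2, Double y q' := fun q' => by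
    have e := double_eq hG 2 q'
    have hpos : 0 < (involSet G 2).card * ((Fintype.card α - 2) * (Fintype.card α - 2 - 2)) :=
      Nat.mul_pos hS (Nat.mul_pos (by omega) (by omega))
    rw [e] at hpos
    obtain ⟨y, hy⟩ := Finset.card_pos.1 (Nat.pos_of_mul_pos_left hpos)
    exact ⟨y, Finset.mem_filter.1 hy⟩
  have hinv : ∀ q' : Fin 4 ↪ α, pts q' = pts q → ∀ y ∈ involSet G 2, Double y q' →
      ∀ t ∈ T, y * t * y⁻¹ = t⁻¹ := by
    intro q' he y hy hyq
    obtain ⟨hyG, hy2, hy1, hyf⟩ := mem_involSet.1 hy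
    refine inverts_of_fixedPointFree hT hy2 (fun t ht => ?_) fun t ht hc => ?_
    · exact conj_mem_pfix' hyG (he ▸ double_maps hyq) ht
    obtain ⟨u, v, huv, hfx'⟩ := Finset.card_eq_two.1 hyf
    have hout : u ∉ pts q' := by
      intro hm
      simp only [pts, Finset.mem_map, Finset.mem_univ, true_and] at hm
      obtain ⟨j, rfl⟩ := hm
      have hu : y (q' j) = q' j := mem_fxp.1 (by rw [hfx']; simp)
      obtain ⟨h1, h2, h3, h4⟩ := hyq
      fin_cases j
      · exact emb_ne q' (show (1 : Fin 4) ≠ 0 by decide) (h1.symm.trans hu)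
      · exact emb_ne q' (show (0 : Fin 4) ≠ 1 by decide) (h2.symm.trans hu)
      · exact emb_ne q' (show (3 : Fin 4) ≠ 2 by decide) (h3.symm.trans hu)
      · exact emb_ne q' (show (2 : Fin 4) ≠ 3 by decide) (h4.symm.trans hu)
    have hT' : t ∈ pfix G (pts q') := he.symm ▸ ht
    have h1 : t (t u) = u := by
      have a1 := commute_maps_fxp hc (show u ∈ fxp y by rw [hfx']; simp)
      have a2 := commute_maps_fxp hc (show v ∈ fxp y by rw [hfx']; simp)
      rw [hfx'] at a1 a2
      simp only [Finset.mem_insert, Finset.mem_singleton] at a1 a2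
      rcases a1 with e | e
      · rw [e, e]
      · rw [e]
        exact a2.resolve_right fun e' => huv (t.injective (e.trans e'.symm))
    exact eq_one_of_sq hT ht (free_pfix hG hfree (mul_mem hT' hT') hout h1)
  set q1 := reord q (swap 1 2)
  set q2 := reord q (swap 1 3)
  obtain ⟨y, hy0, hyq⟩ := hy q
  obtain ⟨y1, hy1, hyq1⟩ := hy q1
  obtain ⟨y2, hy2, hyq2⟩ := hy q2
  have hs : y2⁻¹ * (y * y1) ∈ T := by
    refine ⟨mul_mem (inv_mem (mem_involSet.1 hy2).1) (mul_mem (mem_involSet.1 hy0).1 (mem_involSet.1 hy1).1),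
      forall_pts fun i => ?_⟩
    obtain ⟨h1, h2, h3, h4⟩ := hyq
    obtain ⟨a1, a2, a3, a4⟩ := hyq1
    obtain ⟨b1, b2, b3, b4⟩ := hyq2
    simp only [q1, q2, reord, Function.Embedding.trans_apply, Equiv.coe_toEmbedding, swap_apply_def] at a1 a2 a3 a4 b1 b2 b3 b4
    simp (config := { decide := true }) at a1 a2 a3 a4 b1 b2 b3 b4
    rw [Perm.mul_apply, Perm.mul_apply, Perm.inv_eq_iff_eq]
    fin_cases i <;> simp [a1, a2, a3, a4, b1, b2, b3, b4, h1, h2, h3, h4]
  have hbot : ∀ t ∈ T, t = 1 := by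
    intro t ht
    set s := y2⁻¹ * (y * y1)
    have i0 := hinv q rfl y hy0 hyq
    have i1 := hinv q1 (pts_reord q _) y1 hy1 hyq1
    have i2 := hinv q2 (pts_reord q _) y2 hy2 hyq2
    have hab : ∀ r r' : Perm α, r ∈ T → r' ∈ T → r * r' = r' * r := by
      intro r r' hr hr'
      have : r'⁻¹ * r⁻¹ = r⁻¹ * r'⁻¹ := by
        rw [← mul_inv_rev, ← i0 _ (mul_mem hr hr'), ← i0 r hr, ← i0 r' hr']; group
      have h5 := congrArg Inv.inv this
      simp only [mul_inv_rev, inv_inv] at h5
      exact h5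
    have e1 : y * y1 * t * (y * y1)⁻¹ = t := by
      calc y * y1 * t * (y * y1)⁻¹ = y * (y1 * t * y1⁻¹) * y⁻¹ := by group
        _ = t := by rw [i1 t ht, i0 _ (inv_mem ht), inv_inv]
    have e2 : y * y1 * t * (y * y1)⁻¹ = t⁻¹ := by
      calc y * y1 * t * (y * y1)⁻¹ = y2 * (s * t * s⁻¹) * y2⁻¹ := by simp only [s]; group
        _ = t⁻¹ := by rw [hab s t hs ht, mul_inv_cancel_right, i2 t ht]
    exact eq_one_of_sq hT ht (eq_inv_iff_mul_eq_one.1 (e1.symm.trans e2))
  have hb1 : ((involSet G 2).filter fun z => Double z q).card ≤ 1 := Finset.card_le_one.2 fun w hw w' hw' => by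
    obtain ⟨hw1, hw2⟩ := Finset.mem_filter.1 hw
    obtain ⟨hw1', hw2'⟩ := Finset.mem_filter.1 hw'
    exact inv_mul_eq_one.1 (hbot _ (double_coset (mem_involSet.1 hw1').1 (mem_involSet.1 hw1).1 hw2' hw2))
  have ha : 1 ≤ ((involSet G 2).filter fun z => Swap22 z q).card :=
    Finset.card_pos.2 ⟨x, Finset.mem_filter.2 ⟨mem_involSet.2 ⟨hx, hx2, ne_one_of_swap22 hxq, hfx⟩, hxq⟩⟩
  have h : 2 * ((involSet G 2).filter fun z => Double z q).card =
      ((involSet G 2).filter fun z => Swap22 z q).card * (Fintype.card α - 4) := by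
    have e1 := swap22_eq hG 2 q
    have e2 := double_eq hG 2 q
    refine Nat.eq_of_mul_eq_mul_left (Fintype.card_pos_iff.2 ⟨q⟩ : 0 < Fintype.card (Fin 4 ↪ α)) ?_
    rw [mul_left_comm _ 2, ← e2, ← mul_assoc (Fintype.card _), ← e1,
      show Fintype.card α - 2 - 2 = Fintype.card α - 4 by omega]
    ring
  have := Nat.le_mul_of_pos_left (Fintype.card α - 4) ha
  omega

/-- The free quadruply transitive groups. -/
theorem free_four (q : Fin 4 ↪ α) :
    (∀ x y, x ∉ pts q → y ∉ pts q → ∃ g ∈ pfix G (pts q), g x = y) ∨ Fintype.card α ≤ 6 ∨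
      (Fintype.card α = 11 ∧ pfix G (pts q) = ⊥) := by
  rcases Nat.lt_or_ge (Fintype.card α) 7 with h | hn
  · exact Or.inr (Or.inl (by omega))
  obtain ⟨-, h | h2t⟩ := dvd_outside hG hfree q
  · exact Or.inl h
  right; right
  rcases Nat.even_or_odd (Nat.card (pfix G (pts q))) with hev | hT
  · exact (no_even hG hfree hn q (even_iff_two_dvd.1 hev) h2t).elim
  rcases Nat.mod_two_eq_zero_or_one (Fintype.card α) with hpar | hpar
  · exact (even_case hG hfree hn q hT hpar).elim
  obtain ⟨h1, h2⟩ := odd_case hG hfree hn q hT hpar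
  have hpos : 0 < Nat.card (pfix G (pts q)) := Nat.card_pos
  have hle : Fintype.card α - 5 ≤ 6 := by
    have := Nat.le_mul_of_pos_left (Fintype.card α - 5) hpos
    omega
  have h11 : Fintype.card α = 11 := by
    rcases (show Fintype.card α = 7 ∨ Fintype.card α = 9 ∨ Fintype.card α = 11 by omega) with h | h | h
    · rw [h] at h1 h2t; omega
    · rw [h] at h1; omega
    · exact h
  refine ⟨h11, Subgroup.eq_bot_of_card_eq _ ?_⟩
  rw [h11] at h1
  omega

end CfsgLib.Char.Homogeneous
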