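import Cfsg.Agent.Lib.Char.Homogeneous.Parity
import Cfsg.Agent.Lib.Char.Homogeneous.Five
import Cfsg.Agent.S0736

/-!
Set-transitive permutation groups (Livingstone–Wagner).
-/

set_option autoImplicit false
set_option linter.unusedSectionVars false

namespace CfsgLib.Char.Homogeneous

open Equiv

universe u

variable {α : Type u} [Fintype α] [DecidableEq α] {G : Subgroup (Perm α)}

theorem eq_alternating_of_le {k : ℕ} (h : Ktr G k) (hn : Fintype.card α = k + 2) (h' : ¬ Ktr G (k + 1)) :
    G = alternatingGroup α := by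
  classical
  have hA := alternating_le h (by omega) (by omega)
  haveI : Nontrivial α := Fintype.one_lt_card_iff_nontrivial.1 (by omega)
  rcases Nat.lt_or_ge G.index 2 with h2 | h2
  · exfalso
    have : G.index = 1 := by
      have : 0 < G.index := Nat.pos_of_ne_zero Subgroup.FiniteIndex.index_ne_zero
      omega
    refine h' fun D f hD hf => ?_
    have htop : MulAction.IsMultiplyPretransitive (⊤ : Subgroup (Perm α)) α (k + 1) := by
      haveI := Equiv.Perm.isMultiplyPretransitive α (k + 1)
      exact ⟨fun e e' => by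
        obtain ⟨g, hg⟩ := MulAction.exists_smul_eq (Perm α) e e'
        exact ⟨⟨g, Subgroup.mem_top g⟩, hg⟩⟩
    obtain ⟨f', hf', hf''⟩ := ktr_of (k + 1) htop D f hD hf
    exact ⟨f', by rw [Subgroup.index_eq_one.1 this]; trivial, hf''⟩
  · refine le_antisymm ?_ hA
    have hd := Subgroup.index_dvd_of_le hA
    rw [alternatingGroup.index_eq_two] at hd
    have := Nat.le_of_dvd (by norm_num) hd
    rw [Equiv.Perm.eq_alternatingGroup_of_index_eq_two (show G.index = 2 by omega)]

theorem card_of_five (hn : Fintype.card α = 5) (h2 : Ktr G 2) (h3 : ¬ Ktr G 3) : Nat.card G = 20 := by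
  classical
  obtain ⟨a, b, hab⟩ := Fintype.exists_pair_of_one_lt_card (show 1 < Fintype.card α by omega)
  let e : Fin 2 ↪ α := ⟨![a, b], fun i j h => by fin_cases i <;> fin_cases j <;> simp_all [eq_comm]⟩
  have hG := h2.card_group e
  rw [hn, show Nat.descFactorial 5 2 = 20 from rfl] at hG
  have hS : Nat.card (Perm α) = 120 := by
    rw [Nat.card_perm, Nat.card_eq_fintype_card, hn]
    rfl
  have hmul := G.card_mul_index
  rw [hS, ← hG] at hmul
  set t := Nat.card (pfix G (Finset.univ.map e))
  by_contra hne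
  have ht : 2 ≤ t := by
    have : 0 < t := Nat.card_pos
    rcases (show t = 1 ∨ 2 ≤ t by omega) with h | h
    · rw [h, mul_one] at hG; exact absurd hG.symm hne
    · exact h
  refine h3 ?_
  suffices hA : alternatingGroup α ≤ G by
    haveI := alternatingGroup.isMultiplyPretransitive α
    intro D f hD hf
    obtain ⟨g, hg, hgf⟩ := ktr_of (G := alternatingGroup α) 3 (MulAction.isMultiplyPretransitive_of_le
      (n := Nat.card α - 2) (by rw [Nat.card_eq_fintype_card]; omega) (Nat.sub_le _ _)) D f hD hf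
    exact ⟨g, hA hg, hgf⟩
  have hidx3 : G.index ≤ 3 := by nlinarith
  rcases Nat.lt_or_ge G.index 3 with h | h
  · exact Equiv.Perm.alternatingGroup_le_of_index_le_two (by omega)
  refine (Equiv.Perm.alternatingGroup_le_of_normal (by rw [Nat.card_eq_fintype_card]; omega) ?_).trans
    G.normalCore_le
  set φ := MulAction.toPermHom (Perm α) (Perm α ⧸ G)
  have hcore : G.normalCore = φ.ker := Subgroup.normalCore_eq_ker G
  have h1 := φ.ker.card_mul_index
  rw [Subgroup.index_ker, hS] at h1
  have h4 : Nat.card φ.range ≤ 6 := by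
    refine (Nat.le_of_dvd Nat.card_pos (Subgroup.card_subgroup_dvd_card _)).trans ?_
    rw [Nat.card_perm, ← Subgroup.index_eq_card]
    exact Nat.factorial_le (n := 3) hidx3
  rw [← Finite.one_lt_card_iff_nontrivial, hcore]
  nlinarith

/-- Livingstone–Wagner: the exceptions. -/
theorem exceptions {k : ℕ} (hk : 3 ≤ k) (hkn : k ≤ Fintype.card α) (ht : Ktr G (k - 2)) (hnt : ¬ Ktr G (k - 1))
    (hh1 : Hom G (k - 1)) (hh : Hom G k) :
    (k = Fintype.card α ∧ G = alternatingGroup α) ∨ (Fintype.card α = 5 ∧ k = 4 ∧ Nat.card G = 20) ∨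
      (Fintype.card α = 6 ∧ k = 5 ∧ Nat.card G = 120) ∨
      (Fintype.card α = 9 ∧ k = 5 ∧ (Nat.card G = 504 ∨ Nat.card G = 1512)) := by
  rcases eq_or_lt_of_le hkn with hk' | hk'
  · refine Or.inl ⟨hk', eq_alternating_of_le ht (by omega) ?_⟩
    rwa [show k - 2 + 1 = k - 1 by omega]
  right
  obtain rfl | rfl | rfl | hk6 : k = 3 ∨ k = 4 ∨ k = 5 ∨ 6 ≤ k := by omega
  · exact (k_three (by omega) ht hnt hh1 hh).elim
  · have h5 := k_four (by omega) ht hnt hh1 hh
    exact Or.inl ⟨h5, rfl, card_of_five h5 ht hnt⟩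
  · rcases k_five (by omega) ht hnt hh1 hh with ⟨h, h'⟩ | ⟨h, h'⟩
    · exact Or.inr (Or.inl ⟨h, rfl, h'⟩)
    · exact Or.inr (Or.inr ⟨h, rfl, h'⟩)
  · exfalso
    obtain ⟨B, hB, hA⟩ := exists_altOn G (k := k - 2) (by omega) (by omega) ht
    have hns : NoSwap G (k - 1) := (ktr_or_noSwap hh1 ⟨B, by omega, hA⟩).resolve_left hnt
    have := noSwap_bound (k - 1) (by omega) G (by rwa [show k - 1 - 1 = k - 2 by omega]) hns
    omega

theorem pred_homogeneous {k : ℕ} (hk : 2 ≤ k) (hkn : 2 * k ≤ Fintype.card α)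
    (hh : MulAction.IsPretransitive G (Set.powersetCard α k)) :
    MulAction.IsPretransitive G (Set.powersetCard α (k - 1)) :=
  Cfsg.Agent.S0736.result G hk hh fun q hq hqd => by
    have := Nat.le_of_dvd (by omega) hqd
    omega

/-- Livingstone–Wagner: homogeneous groups are almost transitive. -/
theorem pred_transitive : ∀ {k : ℕ}, 2 ≤ k → 2 * k ≤ Fintype.card α →
    MulAction.IsPretransitive G (Set.powersetCard α k) → Ktr G (k - 1) := by
  intro k hk
  induction k, hk using Nat.le_induction with
  | base =>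
    intro hkn hh
    intro D f hD _
    obtain ⟨x, rfl⟩ := Finset.card_eq_one.1 hD
    obtain ⟨g, hg, hgD⟩ := hom_of 1 (pred_homogeneous le_rfl hkn hh) {x} {f x} (Finset.card_singleton _)
      (Finset.card_singleton _)
    refine ⟨g, hg, fun y hy => ?_⟩
    rw [Finset.mem_singleton] at hy
    subst hy
    simpa using hgD
  | succ k hk ih =>
    intro hkn hh
    have h1 := pred_homogeneous (by omega) hkn hh
    have ht : Ktr G (k + 1 - 2) := by
      rw [show k + 1 - 2 = k - 1 by omega]
      exact ih (by omega) h1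
    by_contra hnt
    rcases exceptions (by omega) (by omega) ht hnt (hom_of _ h1) (hom_of _ hh) with h | h | h | h <;>
      omega

/-- Livingstone–Wagner: transitivity from five on. -/
theorem transitive_of_five {k : ℕ} (hk : 5 ≤ k) (hkn : 2 * k ≤ Fintype.card α)
    (hh : MulAction.IsPretransitive G (Set.powersetCard α k)) : Ktr G k := by
  have ht := pred_transitive (by omega) hkn hh
  obtain ⟨B, hB, hA⟩ := exists_altOn G (k := k - 1) (by omega) (by omega) ht
  refine (ktr_or_noSwap (hom_of k hh) ⟨B, by omega, hA⟩).resolve_right fun hns => ?_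
  have := noSwap_bound k hk G ht hns
  omega

end CfsgLib.Char.Homogeneous
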