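import Cfsg.Agent.Lib.Char.Homogeneous.Quints

/-!
Induced groups of order eight on four points: pairings.
-/

set_option autoImplicit false
set_option linter.unusedSectionVars false

namespace CfsgLib.Char.Homogeneous

open Equiv

variable {α : Type*} [Fintype α] [DecidableEq α] {G : Subgroup (Perm α)}

theorem d8_key : ∀ a b : Perm (Fin 4),
    a * swap 0 1 * a⁻¹ * (swap 0 1 * swap 2 3) = swap 0 1 * swap 2 3 * (a * swap 0 1 * a⁻¹) →
    b * swap 0 1 * b⁻¹ * (swap 0 1 * swap 2 3) = swap 0 1 * swap 2 3 * (b * swap 0 1 * b⁻¹) →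
    b * a⁻¹ * (swap 0 1 * swap 2 3) = swap 0 1 * swap 2 3 * (b * a⁻¹) := by
  decide +kernel

theorem pairing_key (X : Subgroup (Perm (Fin 4))) (hX : Nat.card X = 8) (a b : Perm (Fin 4))
    (ha : a * swap 0 1 * a⁻¹ ∈ X) (hb : b * swap 0 1 * b⁻¹ ∈ X) : b * a⁻¹ ∈ X := by
  classical
  haveI : Fact (Nat.Prime 2) := ⟨Nat.prime_two⟩
  set v : Perm (Fin 4) := swap 0 1 * swap 2 3
  set D := Subgroup.centralizer ({v} : Set (Perm (Fin 4)))
  have hmem : ∀ σ : Perm (Fin 4), σ ∈ D ↔ σ * v = v * σ := fun σ => Subgroup.mem_centralizer_singleton_iff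
  have hD : Nat.card D = 2 ^ 3 := by
    rw [Nat.card_congr (Equiv.subtypeEquivRight hmem), Nat.card_eq_fintype_card]
    decide +kernel
  have hfac : (Nat.card (Perm (Fin 4))).factorization 2 = 3 := by
    rw [Nat.card_perm, Nat.card_eq_fintype_card, Fintype.card_fin,
      show Nat.factorial 4 = 2 ^ 3 * 3 from rfl, Nat.factorization_mul (by norm_num) (by norm_num),
      Nat.Prime.factorization_pow Nat.prime_two, Nat.Prime.factorization Nat.prime_three]
    simp
  obtain ⟨P, hP⟩ := (IsPGroup.of_card (n := 3) hD).exists_le_sylow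
  obtain ⟨Q, hQ⟩ := (IsPGroup.of_card (p := 2) (G := X) (n := 3) (hX.trans rfl)).exists_le_sylow
  have hPe : (P : Subgroup (Perm (Fin 4))) = D :=
    (Subgroup.eq_of_le_of_card_ge hP (by rw [P.card_eq_multiplicity, hfac, hD])).symm
  have hQe : (Q : Subgroup (Perm (Fin 4))) = X :=
    (Subgroup.eq_of_le_of_card_ge hQ (by rw [Q.card_eq_multiplicity, hfac, hX]; norm_num)).symm
  obtain ⟨u, hu⟩ := MulAction.exists_smul_eq (Perm (Fin 4)) Q P
  have hconj : ∀ σ, σ ∈ X ↔ u * σ * u⁻¹ ∈ D := by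
    intro σ
    rw [← hPe, ← hu, ← hQe, Sylow.coe_subgroup_smul]
    constructor
    · exact fun h => ⟨σ, h, rfl⟩
    · rintro ⟨τ, hτ, e⟩
      rwa [← mul_left_cancel (mul_right_cancel (show u * τ * u⁻¹ = u * σ * u⁻¹ from e))]
  rw [hconj, hmem] at ha hb ⊢
  have e1 : u * (a * swap 0 1 * a⁻¹) * u⁻¹ = u * a * swap 0 1 * (u * a)⁻¹ := by group
  have e2 : u * (b * swap 0 1 * b⁻¹) * u⁻¹ = u * b * swap 0 1 * (u * b)⁻¹ := by group
  have e3 : u * (b * a⁻¹) * u⁻¹ = u * b * (u * a)⁻¹ := by group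
  rw [e1] at ha
  rw [e2] at hb
  rw [e3]
  exact d8_key _ _ ha hb

theorem same_of_swap (hh4 : Hom G 4) (q₀ : Fin 4 ↪ α) (hX : Nat.card (Xgrp G q₀) = 8) {q q' : Fin 4 ↪ α}
    {z : Perm α} (hz : z ∈ G) (hq : ∀ i, z (q i) = q (swap 0 1 i)) (hq' : ∀ i, z (q' i) = q' (swap 0 1 i)) :
    Same G q q' := by
  obtain ⟨a, ha⟩ := hh4.exists_reindex q₀ q
  obtain ⟨b, hb⟩ := hh4.exists_reindex q₀ q'
  have key : ∀ (c : Perm (Fin 4)) (p : Fin 4 ↪ α), Same G (c.toEmbedding.trans q₀) p →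
      (∀ i, z (p i) = p (swap 0 1 i)) → c * swap 0 1 * c⁻¹ ∈ Xgrp G q₀ := by
    rintro c p ⟨g, hg, hgp⟩ hp
    refine ⟨g⁻¹ * z * g, mul_mem (mul_mem (inv_mem hg) hz) hg, fun i => ?_⟩
    have h1 := hgp (c⁻¹ i)
    simp only [Function.Embedding.trans_apply, Equiv.coe_toEmbedding] at h1
    rw [show c (c⁻¹ i) = i from c.apply_symm_apply i] at h1
    have h2 := hgp (swap 0 1 (c⁻¹ i))
    simp only [Function.Embedding.trans_apply, Equiv.coe_toEmbedding] at h2
    simp only [Perm.mul_apply]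
    rw [h1, hp, ← h2, iaa]
  have h := (same_reindex q₀ a b).2 (pairing_key _ hX a b (key a q ha hq) (key b q' hb hq'))
  exact ha.symm.trans (h.trans hb)

theorem four_le_agree (hh4 : Hom G 4) (q₀ : Fin 4 ↪ α) (hX : Nat.card (Xgrp G q₀) = 8) {z : Perm α} (hz : z ∈ G)
    {a b c d e : α} (hnd : [a, b, c, d, e].Nodup) (h1 : z a = b) (h2 : z b = a) (h3 : z c = c) (h4 : z d = d)
    (h5 : z e = e) : 4 ≤ (agree G ({a, b, c, d, e} : Finset α)).card := by
  classical
  simp only [List.nodup_cons, List.mem_cons, List.not_mem_nil, or_false, not_or, List.nodup_nil, and_true,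
    not_false_eq_true] at hnd
  obtain ⟨⟨hab, hac, had, hae⟩, ⟨hbc, hbd, hbe⟩, ⟨hcd, hce⟩, hde⟩ := hnd
  have hfix : ∀ (x y w : α), a ≠ w → b ≠ w → x ≠ y → a ≠ x → b ≠ x → a ≠ y → b ≠ y → w ≠ x → w ≠ y →
      z w = w → z x = x → z y = y → ∃ g ∈ pfix G ({a, b, w} : Finset α), g x = y := by
    intro x y w k1 k2 _ k4 k5 k6 k7 k8 k9 zw zx zy
    set q := quad a b w x ⟨hab, k1, k4, k2, k5, k8⟩
    set q' := quad a b w y ⟨hab, k1, k6, k2, k7, k9⟩
    obtain ⟨g, hg, hgq⟩ := same_of_swap hh4 q₀ hX (q := q) (q' := q') hz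
      (fun i => by fin_cases i <;> simp [q, quad, h1, h2, zw, zx, swap_apply_def])
      (fun i => by fin_cases i <;> simp [q', quad, h1, h2, zw, zy, swap_apply_def])
    refine ⟨g, ⟨hg, fun t ht => ?_⟩, hgq 3⟩
    simp only [Finset.mem_insert, Finset.mem_singleton] at ht
    rcases ht with rfl | rfl | rfl
    exacts [hgq 0, hgq 1, hgq 2]
  obtain ⟨g1, hg1, e1⟩ := hfix c d e hae hbe hcd hac hbc had hbd (Ne.symm hce) (Ne.symm hde) h5 h3 h4
  obtain ⟨g2, hg2, e2⟩ := hfix c e d had hbd hce hac hbc hae hbe (Ne.symm hcd) hde h4 h3 h5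
  obtain ⟨g3, hg3, e3⟩ := hfix d e c hac hbc hde had hbd hae hbe hcd hce h3 h4 h5
  have m0 : ({a, b} : Finset α) ∈ agree G ({a, b, c, d, e} : Finset α) := by
    refine mem_agree (a := c) (b := d) (c := e) (by simp [hcd, hce, hde, Ne.symm hac, Ne.symm hbc, Ne.symm had,
      Ne.symm hbd, Ne.symm hae, Ne.symm hbe, hab]) (by ext; simp; tauto) (g := z) ⟨hz, fun t ht => ?_⟩ h1
    simp only [Finset.mem_insert, Finset.mem_singleton] at ht
    rcases ht with rfl | rfl | rfl <;> assumption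
  have m1 : ({c, d} : Finset α) ∈ agree G ({a, b, c, d, e} : Finset α) :=
    mem_agree (by simp [hab, hac, had, hae, hbc, hbd, hbe, hcd, Ne.symm hce, Ne.symm hde])
      (by ext; simp; tauto) hg1 e1
  have m2 : ({c, e} : Finset α) ∈ agree G ({a, b, c, d, e} : Finset α) :=
    mem_agree (by simp [hab, hac, had, hae, hbc, hbd, hbe, Ne.symm hcd, hde, hce])
      (by ext; simp; tauto) hg2 e2
  have m3 : ({d, e} : Finset α) ∈ agree G ({a, b, c, d, e} : Finset α) :=
    mem_agree (by simp [hab, hac, had, hae, hbc, hbd, hbe, hcd, hce, hde]) (by ext; simp) hg3 e3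
  refine le_trans (le_of_eq ?_) (Finset.card_le_card (show ({{a, b}, {c, d}, {c, e}, {d, e}} : Finset (Finset α)) ⊆
    agree G {a, b, c, d, e} from fun E hE => by
      simp only [Finset.mem_insert, Finset.mem_singleton] at hE
      rcases hE with rfl | rfl | rfl | rfl <;> assumption))
  have k1 : ({a, b} : Finset α) ≠ {c, d} := fun h => by
    have : a ∈ ({c, d} : Finset α) := h ▸ Finset.mem_insert_self a _
    simp [hac, had] at this
  have k2 : ({a, b} : Finset α) ≠ {c, e} := fun h => by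
    have : a ∈ ({c, e} : Finset α) := h ▸ Finset.mem_insert_self a _
    simp [hac, hae] at this
  have k3 : ({a, b} : Finset α) ≠ {d, e} := fun h => by
    have : a ∈ ({d, e} : Finset α) := h ▸ Finset.mem_insert_self a _
    simp [had, hae] at this
  have k4 : ({c, d} : Finset α) ≠ {c, e} := fun h => by
    have : d ∈ ({c, e} : Finset α) := h ▸ Finset.mem_insert_of_mem (Finset.mem_singleton_self d)
    simp [Ne.symm hcd, hde] at this
  have k5 : ({c, d} : Finset α) ≠ {d, e} := fun h => by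
    have : c ∈ ({d, e} : Finset α) := h ▸ Finset.mem_insert_self c _
    simp [hcd, hce] at this
  have k6 : ({c, e} : Finset α) ≠ {d, e} := fun h => by
    have : c ∈ ({d, e} : Finset α) := h ▸ Finset.mem_insert_self c _
    simp [hcd, hce] at this
  simp [k1, k2, k3, k4, k5, k6]

end CfsgLib.Char.Homogeneous
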