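import Cfsg.Agent.Lib.Char.Homogeneous.AltSet

/-!
Groups inducing no transposition on any `k`-set.
-/

set_option autoImplicit false
set_option linter.unusedSectionVars false

namespace CfsgLib.Char.Homogeneous

open Equiv

universe u

variable {α : Type u} [Fintype α] [DecidableEq α] {G : Subgroup (Perm α)}

theorem noSwap_restr {F : Finset α} {k : ℕ} (h : NoSwap G k) : NoSwap (restr G F) k := by
  rintro B hB a ha b hb hab ⟨-, σ, ⟨g, hg, hgσ⟩, hσ⟩
  refine not_noSwap_of (B := B.map (Function.Embedding.subtype _)) (by rw [Finset.card_map, hB])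
    (Finset.mem_map_of_mem _ ha) (Finset.mem_map_of_mem _ hb) (fun e => hab (Subtype.ext e)) hg ?_ ?_ ?_ h
  · show g (a : α) = b
    rw [hgσ, hσ a ha, swap_apply_left]
  · show g (b : α) = a
    rw [hgσ, hσ b hb, swap_apply_right]
  · intro x hx hxa hxb
    obtain ⟨u, hu, rfl⟩ := Finset.mem_map.1 hx
    show g (u : α) = u
    rw [hgσ, hσ u hu, swap_apply_of_ne_of_ne (fun e => hxa (by rw [e])) (fun e => hxb (by rw [e]))]

theorem not_five {a b c d e : α} (hab : a ≠ b) (hcd : c ≠ d) (hce : c ≠ e) (hde : d ≠ e) {g : Perm α}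
    (hg : g ∈ G) (h1 : g a = b) (h2 : g b = a) (h3 : g c = c) (h4 : g d = d) (h5 : g e = e) :
    ¬ NoSwap G 5 := by
  have key : ∀ {y}, g y = y → y ≠ a ∧ y ≠ b := fun {y} hy =>
    ⟨fun e => hab (by rw [← e, ← hy, e, h1]), fun e => hab (by rw [← e, ← hy, e, h2])⟩
  refine not_noSwap_of (B := {a, b, c, d, e}) ?_ (by simp) (by simp) hab hg h1 h2 ?_
  · obtain ⟨ca, cb⟩ := key h3
    obtain ⟨da, db⟩ := key h4
    obtain ⟨ea, eb⟩ := key h5
    simp [Finset.card_insert_of_notMem, Finset.card_singleton, hab, Ne.symm ca, Ne.symm cb, Ne.symm da,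
      Ne.symm db, Ne.symm ea, Ne.symm eb, hcd, hce, hde]
  · intro x hx hxa hxb
    simp only [Finset.mem_insert, Finset.mem_singleton] at hx
    rcases hx with rfl | rfl | rfl | rfl | rfl
    exacts [absurd rfl hxa, absurd rfl hxb, h3, h4, h5]

theorem double_mul {t z : Perm α} {q : Fin 4 ↪ α} (h : Double z q) (ht : t ∈ pfix G (pts q)) :
    Double (z * t) q := by
  obtain ⟨h1, h2, h3, h4⟩ := h
  refine ⟨?_, ?_, ?_, ?_⟩ <;> rw [Perm.mul_apply, ht.2 _ (mem_pts q _)] <;> assumption

theorem card_double_mul {f : ℕ} (q : Fin 4 ↪ α) (hT : Odd (Nat.card (pfix G (pts q)))) {y : Perm α}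
    (hy : y ∈ involSet G f) (hyq : Double y q) :
    ((involSet G f).filter fun z => Double z q).card *
        Nat.card {t : Perm α // t ∈ pfix G (pts q) ∧ Commute t y} = Nat.card (pfix G (pts q)) := by
  classical
  obtain ⟨hyG, hy2, hy1, hyf⟩ := mem_involSet.1 hy
  have hn : ∀ t ∈ pfix G (pts q), y * t * y⁻¹ ∈ pfix G (pts q) := fun t ht =>
    conj_mem_pfix' hyG (double_maps hyq) ht
  rw [← card_invol_coset hT hy2 hn, ← Nat.card_eq_finsetCard]
  congr 1
  refine Nat.card_congr (Equiv.subtypeEquivRight fun g => ?_)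
  rw [Finset.mem_filter, mem_involSet]
  constructor
  · rintro ⟨⟨h1, h2, -, -⟩, h5⟩
    exact ⟨h2, double_coset h1 hyG h5 hyq⟩
  · rintro ⟨h2, h3⟩
    obtain ⟨s, hs, e⟩ := exists_conj_of_invol hT hy2 h2 h3
    have h5 : Double g q := by simpa using double_mul hyq h3
    refine ⟨⟨by simpa using mul_mem hyG h3.1, h2, ne_one_of_double h5, ?_⟩, h5⟩
    rw [← e, card_fxp_conj, hyf]

theorem five_step (hG : Ktr G 4) (hns : NoSwap G 5) (hn : 7 ≤ Fintype.card α)
    (ih : ∀ F : Finset α, F.card < Fintype.card α → 4 < F.card → Ktr (restr G F) 4 → F.card ≤ 6) :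
    False := by
  classical
  obtain ⟨D, -, hD⟩ := Finset.exists_subset_card_eq (s := (Finset.univ : Finset α)) (n := 4)
    (by rw [Finset.card_univ]; omega)
  let q : Fin 4 ↪ α := ((Finset.equivFinOfCardEq hD).symm.toEmbedding).trans (Function.Embedding.subtype _)
  set T := pfix G (pts q)
  have hT : Odd (Nat.card T) := by
    rw [← Nat.not_even_iff_odd, even_iff_two_dvd]
    intro hev
    haveI : Fact (Nat.Prime 2) := ⟨Nat.prime_two⟩
    obtain ⟨z, hz⟩ := exists_prime_orderOf_dvd_card' (G := T) 2 hev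
    have hz2 : (z : Perm α) * z = 1 := by
      rw [← sq]
      simpa [hz] using congrArg Subtype.val (pow_orderOf_eq_one z)
    obtain ⟨u, hu⟩ : ∃ u, (z : Perm α) u ≠ u := by
      by_contra h
      push_neg at h
      rw [show z = 1 from Subtype.ext (Perm.ext h), orderOf_one] at hz
      norm_num at hz
    exact not_five hu.symm (emb_ne q (show (0 : Fin 4) ≠ 1 by decide)) (emb_ne q (show (0 : Fin 4) ≠ 2 by decide))
      (emb_ne q (show (1 : Fin 4) ≠ 2 by decide)) z.2.1 rfl (Perm.ext_iff.1 hz2 u) (z.2.2 _ (mem_pts q 0))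
      (z.2.2 _ (mem_pts q 1)) (z.2.2 _ (mem_pts q 2)) hns
  have hf : ∀ q' : Fin 4 ↪ α, ∀ g ∈ G, g * g = 1 → Swap22 g q' → (fxp g).card = 2 := by
    intro q' g hg hg2 h
    refine le_antisymm ?_ (two_le_fxp h)
    by_contra hc
    obtain ⟨e, he, he'⟩ := Finset.exists_mem_notMem_of_card_lt_card
      (show ({q' 2, q' 3} : Finset α).card < (fxp g).card from
        lt_of_le_of_lt Finset.card_le_two (not_le.1 hc))
    simp only [Finset.mem_insert, Finset.mem_singleton, not_or] at he'
    exact not_five (emb_ne q' (show (0 : Fin 4) ≠ 1 by decide)) (emb_ne q' (show (2 : Fin 4) ≠ 3 by decide))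
      (Ne.symm he'.1) (Ne.symm he'.2) hg h.1 h.2.1 h.2.2.1 h.2.2.2 (mem_fxp.1 he) hns
  have hTodd : Odd (Nat.card T) := hT
  obtain ⟨x, hx, hx2, hxq⟩ := exists_invol_swap22 hG q hT
  have hpar : Fintype.card α % 2 = 0 := by
    have := card_fxp_mod_two hx2
    rw [hf q x hx hx2 hxq] at this
    omega
  set a := ((involSet G 2).filter fun z => Swap22 z q).card
  set cx := Nat.card {t : Perm α // t ∈ T ∧ Commute t x}
  have hS : 0 < (involSet G 2).card :=
    Finset.card_pos.2 ⟨x, mem_involSet.2 ⟨hx, hx2, ne_one_of_swap22 hxq, hf q x hx hx2 hxq⟩⟩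
  have hN : 0 < Fintype.card (Fin 4 ↪ α) := Fintype.card_pos_iff.2 ⟨q⟩
  have hy : ∀ q' : Fin 4 ↪ α, ∃ y ∈ involSet G 2, Double y q' := fun q' => by
    have e := double_eq hG 2 q'
    have hpos : 0 < (involSet G 2).card * ((Fintype.card α - 2) * (Fintype.card α - 2 - 2)) :=
      Nat.mul_pos hS (Nat.mul_pos (by omega) (by omega))
    rw [e] at hpos
    obtain ⟨y, hy⟩ := Finset.card_pos.1 (Nat.pos_of_mul_pos_left hpos)
    exact ⟨y, Finset.mem_filter.1 hy⟩
  obtain ⟨y₀, hy₀, hyq₀⟩ := hy q
  set b := ((involSet G 2).filter fun z => Double z q).card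
  set cy := Nat.card {t : Perm α // t ∈ T ∧ Commute t y₀}
  have hat : a * cx = Nat.card T := card_swap22_mul hG q hT (hf q) hx hx2 hxq
  have hbt : b * cy = Nat.card T := card_double_mul q hT hy₀ hyq₀
  have hab : a * (Fintype.card α - 4) = 2 * b := by
    refine Nat.eq_of_mul_eq_mul_left hN ?_
    rw [← mul_assoc, ← swap22_eq hG 2 q, mul_left_comm _ 2, ← double_eq hG 2 q,
      show Fintype.card α - 2 - 2 = Fintype.card α - 4 by omega]
    ring
  obtain ⟨L, hL⟩ : ∃ L, Fintype.card α - 4 = 2 * L := ⟨(Fintype.card α - 4) / 2, by omega⟩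
  have hbL : b = a * L := by rw [hL] at hab; linarith
  have hcx : cx = L * cy := by
    refine Nat.eq_of_mul_eq_mul_left (Nat.pos_of_ne_zero fun h0 => ?_) (?_ : a * cx = a * (L * cy))
    · rw [h0, zero_mul] at hat
      exact (Nat.card_pos (α := T)).ne hat
    · rw [hat, ← hbt, hbL, mul_assoc]
  obtain ⟨p, hp, hpL⟩ := Nat.exists_prime_and_dvd (show L ≠ 1 by omega)
  haveI := Fact.mk hp
  have hpT : p ∣ Nat.card T := hat ▸ Dvd.dvd.mul_left (hcx ▸ hpL.mul_right _) a
  have hp2 : p ≠ 2 := fun e => (Nat.not_even_iff_odd.2 hT) (even_iff_two_dvd.2 (e ▸ hpT))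
  -- no `p`-element fixes five points
  have hno : ∀ r ∈ G, orderOf r = p → (fxp r).card ≤ 4 := by
    intro r hr hrp
    by_contra hc
    obtain ⟨F, hF, hFn, hFp, hFG⟩ := exists_restr (by norm_num) hG hr hrp (not_le.1 hc)
    have h6 := ih F hFn hF hFG
    have hnp : (Fintype.card α - 4) % p = 0 := Nat.mod_eq_zero_of_dvd (hL ▸ hpL.mul_left 2)
    have h2p := hp.two_le
    have : (F.card - 4) % p = 0 := by
      have e1 : F.card ≡ Fintype.card α [MOD p] := hFp
      have e2 : Fintype.card α ≡ 4 [MOD p] :=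
        ((Nat.modEq_iff_dvd' (by omega)).2 (Nat.dvd_of_mod_eq_zero hnp)).symm
      exact Nat.sub_mod_eq_zero_of_mod_eq (e1.trans e2)
    rcases (show F.card - 4 = 1 ∨ F.card - 4 = 2 by omega) with e | e <;> rw [e] at this
    · rw [Nat.one_mod_eq_zero_iff] at this; omega
    · have := Nat.le_of_dvd (by norm_num) (Nat.dvd_of_mod_eq_zero this); omega
  obtain ⟨P⟩ := (inferInstance : Nonempty (Sylow p T))
  set P' := (P : Subgroup T).map T.subtype with hP'
  have hP'T : P' ≤ T := Subgroup.map_subtype_le _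
  have hP'odd : Odd (Nat.card P') := hT.of_dvd_nat (Subgroup.card_dvd_of_le hP'T)
  have hlift : ∀ q' : Fin 4 ↪ α, pts q' = pts q → ∃ y ∈ G, y * y = 1 ∧ Double y q' ∧
      (∀ r ∈ P', y * r * y⁻¹ ∈ P') ∧ ∀ r ∈ P', Commute r y → r = 1 := by
    intro q' he
    obtain ⟨y, hy, hyq⟩ := hy q'
    obtain ⟨hyG, hy2, hy1, hyf⟩ := mem_involSet.1 hy
    have hn : ∀ t ∈ T, y * t * y⁻¹ ∈ T := fun t ht => conj_mem_pfix' hyG (he ▸ double_maps hyq) ht
    let φ : T →* T :=
      { toFun := fun t => ⟨y * t * y⁻¹, hn t t.2⟩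
        map_one' := Subtype.ext (by simp)
        map_mul' := fun s t => Subtype.ext (by simp [mul_assoc]) }
    have hφ : Function.Injective φ := fun s t e =>
      Subtype.ext (mul_left_cancel (mul_right_cancel (congrArg Subtype.val e)))
    have hcardφ : Nat.card ((P : Subgroup T).map φ) = p ^ (Nat.card T).factorization p := by
      rw [Subgroup.card_map_of_injective hφ, P.card_eq_multiplicity]
    obtain ⟨Q, hQ⟩ := (P.2.map φ).exists_le_sylow
    have hQe : (Q : Subgroup T) = (P : Subgroup T).map φ :=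
      (Subgroup.eq_of_le_of_card_ge hQ (by rw [Q.card_eq_multiplicity, hcardφ])).symm
    obtain ⟨s, hs⟩ := MulAction.exists_smul_eq T Q P
    set g := (s : Perm α) * y
    have hgG : g ∈ G := mul_mem s.2.1 hyG
    have hgq : Double g q' := by
      obtain ⟨h1, h2, h3, h4⟩ := hyq
      have hs' : ∀ i, (s : Perm α) (q' i) = q' i := fun i => s.2.2 _ (he ▸ mem_pts q' i)
      refine ⟨?_, ?_, ?_, ?_⟩ <;> simp [g, h1, h2, h3, h4, hs']
    have hgP : ∀ r ∈ P', g * r * g⁻¹ ∈ P' := by
      rintro _ ⟨r, hr, rfl⟩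
      have h1 : s * φ r * s⁻¹ ∈ (P : Subgroup T) := by
        rw [← hs, Sylow.coe_subgroup_smul, hQe]
        exact ⟨_, ⟨r, hr, rfl⟩, rfl⟩
      refine ⟨_, h1, ?_⟩
      simp [g, φ, mul_assoc]
    have hgg : g * g ∈ T := by
      rw [show T = pfix G (pts q') from by rw [he]]
      refine ⟨mul_mem hgG hgG, forall_pts fun i => ?_⟩
      obtain ⟨h1, h2, h3, h4⟩ := hgq
      rw [Perm.mul_apply]
      fin_cases i <;> simp [h1, h2, h3, h4]
    obtain ⟨l, hl⟩ := id hTodd
    set g' := g * (g * g) ^ l with hg'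
    have hg'2 : g' * g' = 1 := by
      have hT1 := congrArg Subtype.val (pow_card_eq_one' (G := T) (x := ⟨_, hgg⟩))
      simp only [SubmonoidClass.coe_pow, OneMemClass.coe_one] at hT1
      rw [hl] at hT1
      have hc : Commute g ((g * g) ^ l) := ((Commute.refl g).mul_right (Commute.refl g)).pow_right l
      calc g * (g * g) ^ l * (g * (g * g) ^ l) = g * g * ((g * g) ^ l * (g * g) ^ l) := by
            rw [mul_assoc g ((g * g) ^ l), ← mul_assoc ((g * g) ^ l) g, ← hc.eq]; group
        _ = 1 := by rw [← pow_add, ← pow_succ', show l + l + 1 = 2 * l + 1 by omega, hT1]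
    have hg'q : Double g' q' := double_mul (G := G) hgq (he.symm ▸ pow_mem hgg l)
    have hg'G : g' ∈ G := mul_mem hgG (pow_mem (mul_mem hgG hgG) l)
    have hg'P : ∀ r ∈ P', g' * r * g'⁻¹ ∈ P' := by
      have hpow : ∀ (m : ℕ), ∀ r ∈ P', g ^ m * r * (g ^ m)⁻¹ ∈ P' := by
        intro m
        induction m with
        | zero => intro r hr; simpa using hr
        | succ m ih =>
          intro r hr
          rw [show g ^ (m + 1) * r * (g ^ (m + 1))⁻¹ = g * (g ^ m * r * (g ^ m)⁻¹) * g⁻¹ by
            rw [pow_succ']; group]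
          exact hgP _ (ih r hr)
      have e : g' = g ^ (2 * l + 1) := by rw [hg', ← sq, ← pow_mul, ← pow_succ']
      rw [e]
      exact hpow _
    refine ⟨g', hg'G, hg'2, hg'q, hg'P, fun r hr hc => ?_⟩
    -- the fixed points of the lift
    obtain ⟨v, hv, ev⟩ := exists_conj_of_invol (T := pfix G (pts q')) (he.symm ▸ hTodd) hy2 hg'2
      (double_coset hg'G hyG hg'q hyq)
    have hf' : (fxp g').card = 2 := by rw [← ev, card_fxp_conj, hyf]
    obtain ⟨u, w, huw, hfx'⟩ := Finset.card_eq_two.1 hf'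
    have hout : u ∉ pts q' := by
      intro hm
      simp only [pts, Finset.mem_map, Finset.mem_univ, true_and] at hm
      obtain ⟨j, rfl⟩ := hm
      have hu : g' (q' j) = q' j := mem_fxp.1 (by rw [hfx']; simp)
      obtain ⟨h1, h2, h3, h4⟩ := hg'q
      fin_cases j
      · exact emb_ne q' (show (1 : Fin 4) ≠ 0 by decide) (h1.symm.trans hu)
      · exact emb_ne q' (show (0 : Fin 4) ≠ 1 by decide) (h2.symm.trans hu)
      · exact emb_ne q' (show (3 : Fin 4) ≠ 2 by decide) (h3.symm.trans hu)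
      · exact emb_ne q' (show (2 : Fin 4) ≠ 3 by decide) (h4.symm.trans hu)
    have hrT : r ∈ pfix G (pts q') := he.symm ▸ hP'T hr
    have h1 : r (r u) = u := by
      have a1 := commute_maps_fxp hc (show u ∈ fxp g' by rw [hfx']; simp)
      have a2 := commute_maps_fxp hc (show w ∈ fxp g' by rw [hfx']; simp)
      rw [hfx'] at a1 a2
      simp only [Finset.mem_insert, Finset.mem_singleton] at a1 a2
      rcases a1 with e | e
      · rw [e, e]
      · rw [e]
        exact a2.resolve_right fun e' => huw (r.injective (e.trans e'.symm))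
    by_contra hr1
    -- a power of order `p`
    obtain ⟨e, he'⟩ := IsPGroup.iff_card.1 (P.2.map T.subtype)
    have hrr : r * r ≠ 1 := fun h => hr1 (eq_one_of_sq hP'odd hr h)
    have hd : orderOf (r * r) ∣ p ^ e := by
      rw [← he']
      exact Subgroup.orderOf_dvd_natCard _ (mul_mem hr hr)
    obtain ⟨j, -, hj⟩ := (Nat.dvd_prime_pow hp).1 hd
    rcases Nat.eq_zero_or_pos j with rfl | hj0
    · rw [pow_zero, orderOf_eq_one_iff] at hj; exact hrr hj
    have h5 := hno ((r * r) ^ (orderOf (r * r) / p)) (pow_mem (mul_mem (hP'T hr).1 (hP'T hr).1) _)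
      (orderOf_pow_orderOf_div (orderOf_pos _).ne' (hj ▸ dvd_pow_self p hj0.ne'))
    have h6 := Finset.card_le_card (show insert u (pts q') ⊆ fxp ((r * r) ^ (orderOf (r * r) / p)) from by
      intro z hz
      have hfix : r * r ∈ MulAction.stabilizer (Perm α) z := by
        show (r * r) z = z
        rw [Perm.mul_apply]
        rcases Finset.mem_insert.1 hz with rfl | hz
        · exact h1
        · rw [hrT.2 z hz, hrT.2 z hz]
      exact mem_fxp.2 (Subgroup.pow_mem _ hfix _))
    rw [Finset.card_insert_of_notMem hout, card_pts] at h6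
    omega
  set q1 := reord q (swap 1 2)
  set q2 := reord q (swap 1 3)
  obtain ⟨y, hyG, hy2, hyq, hyP, hyC⟩ := hlift q rfl
  obtain ⟨y1, hy1G, hy12, hyq1, hy1P, hy1C⟩ := hlift q1 (pts_reord q _)
  obtain ⟨y2, hy2G, hy22, hyq2, hy2P, hy2C⟩ := hlift q2 (pts_reord q _)
  have hs : y2⁻¹ * (y * y1) ∈ T := by
    refine ⟨mul_mem (inv_mem hy2G) (mul_mem hyG hy1G), forall_pts fun i => ?_⟩
    obtain ⟨h1, h2, h3, h4⟩ := hyq
    obtain ⟨a1, a2, a3, a4⟩ := hyq1
    obtain ⟨b1, b2, b3, b4⟩ := hyq2
    simp only [q1, q2, reord, Function.Embedding.trans_apply, Equiv.coe_toEmbedding, swap_apply_def] at a1 a2 a3 a4 b1 b2 b3 b4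
    simp (config := { decide := true }) at a1 a2 a3 a4 b1 b2 b3 b4
    rw [Perm.mul_apply, Perm.mul_apply, Perm.inv_eq_iff_eq]
    fin_cases i <;> simp [a1, a2, a3, a4, b1, b2, b3, b4, h1, h2, h3, h4]
  set s := y2⁻¹ * (y * y1)
  have i0 := inverts_of_fixedPointFree hP'odd hy2 hyP hyC
  have i1 := inverts_of_fixedPointFree hP'odd hy12 hy1P hy1C
  have i2 := inverts_of_fixedPointFree hP'odd hy22 hy2P hy2C
  have hbot : ∀ r ∈ P', r = 1 := by
    intro r hr
    have hconj : ∀ r ∈ P', s * r * s⁻¹ = r⁻¹ := by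
      intro r hr
      have e1 : y * y1 * r * (y * y1)⁻¹ = r := by
        calc y * y1 * r * (y * y1)⁻¹ = y * (y1 * r * y1⁻¹) * y⁻¹ := by group
          _ = r := by rw [i1 r hr, i0 _ (inv_mem hr), inv_inv]
      have hy2i : y2⁻¹ = y2 := inv_eq_of_mul_eq_one_right hy22
      calc s * r * s⁻¹ = y2⁻¹ * (y * y1 * r * (y * y1)⁻¹) * y2 := by simp only [s]; group
        _ = y2 * r * y2⁻¹ := by rw [e1, hy2i]
        _ = r⁻¹ := i2 r hr
    obtain ⟨m, hm⟩ := exists_sqrt hT hs
    have hsm : (s * s) ^ m = s := by rw [(Commute.refl s).mul_pow]; exact hm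
    have hc : Commute (s * s) r := by
      show s * s * r = r * (s * s)
      calc s * s * r = s * (s * r * s⁻¹) * s := by group
        _ = (s * r⁻¹ * s⁻¹) * (s * s) := by rw [hconj r hr]; group
        _ = _ := by rw [hconj _ (inv_mem hr), inv_inv]
    have hcs : Commute s r := hsm ▸ hc.pow_left m
    have h3 := hconj r hr
    rw [hcs.eq, mul_inv_cancel_right] at h3
    exact eq_one_of_sq hP'odd hr (eq_inv_iff_mul_eq_one.1 h3)
  have hcard : Nat.card P' = 1 := by
    rw [Subgroup.card_eq_one, Subgroup.eq_bot_iff_forall]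
    exact hbot
  rw [hP', Subgroup.card_map_of_injective T.subtype_injective, P.card_eq_multiplicity] at hcard
  exact absurd hcard (Nat.one_lt_pow (hp.factorization_pos_of_dvd Nat.card_pos.ne' hpT).ne' hp.one_lt).ne'

theorem noSwap_five : ∀ {α : Type u} [Fintype α] [DecidableEq α] (G : Subgroup (Perm α)),
    Ktr G 4 → NoSwap G 5 → Fintype.card α ≤ 6 := by
  intro α i1 i2 G hG hns
  induction hm : Fintype.card α using Nat.strong_induction_on generalizing α with
  | _ m ih =>
    subst hm
    by_contra hc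
    refine five_step hG hns (by omega) fun F hF _ hFG => ?_
    exact ih _ hF (restr G F) hFG (noSwap_restr hns) (Fintype.card_coe F)

theorem noSwap_bound : ∀ (k : ℕ), 5 ≤ k → ∀ {α : Type u} [Fintype α] [DecidableEq α] (G : Subgroup (Perm α)),
    Ktr G (k - 1) → NoSwap G k → Fintype.card α ≤ k + 1 := by
  intro k hk
  induction k, hk using Nat.le_induction with
  | base => intro α i1 i2 G hG hns; exact noSwap_five G hG hns
  | succ k hk ih =>
    intro α i1 i2 G hG hns
    by_contra hc
    obtain ⟨a⟩ := Fintype.card_pos_iff.1 (show 0 < Fintype.card α by omega)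
    set U := ({a} : Finset α)ᶜ with hU
    have hUc : U.card = Fintype.card α - 1 := by rw [hU, Finset.card_compl, Finset.card_singleton]
    have haU : a ∉ U := by simp [hU]
    set H := restr (pfix G {a}) U
    have hH : Ktr H (k - 1) := by
      refine restr_ktr fun D f hDU hD hf hfU => ?_
      have haD : a ∉ D := fun h => haU (hDU h)
      obtain ⟨g, hg, hgf⟩ := hG (insert a D) (fun x => if x = a then a else f x)
        (by rw [Finset.card_insert_of_notMem haD, hD]; omega) (by
          intro x hx y hy e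
          simp only [Finset.coe_insert, Set.mem_insert_iff, Finset.mem_coe] at hx hy
          rcases hx with rfl | hx <;> rcases hy with rfl | hy
          · rfl
          · have hyx : y ≠ x := fun h => haD (h ▸ hy)
            simp only [if_pos, if_neg hyx] at e
            exact absurd (hfU y hy) (e ▸ haU)
          · have hxy : x ≠ y := fun h => haD (h ▸ hx)
            simp only [if_pos, if_neg hxy] at e
            exact absurd (hfU x hx) (e.symm ▸ haU)
          · have hxa : x ≠ a := fun h => haD (h ▸ hx)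
            have hya : y ≠ a := fun h => haD (h ▸ hy)
            simp only [if_neg hxa, if_neg hya] at e
            exact hf hx hy e)
      have hga : g a = a := by rw [hgf a (Finset.mem_insert_self _ _), if_pos rfl]
      refine ⟨g, ⟨hg, fun x hx => by rw [Finset.mem_singleton.1 hx, hga]⟩, fun x hx => ?_, fun x hx => ?_⟩
      · simp only [hU, Finset.mem_compl, Finset.mem_singleton] at hx ⊢
        exact fun e => hx (g.injective (e.trans hga.symm))
      · rw [hgf x (Finset.mem_insert_of_mem hx), if_neg fun h : x = a => haD (h ▸ hx)]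
    have hns' : NoSwap H k := by
      rintro B hB u hu v hv huv ⟨-, σ, ⟨g, hg, hgσ⟩, hσ⟩
      refine not_noSwap_of (k := k + 1) (B := insert a (B.map (Function.Embedding.subtype _))) ?_
        (Finset.mem_insert_of_mem (Finset.mem_map_of_mem _ hu))
        (Finset.mem_insert_of_mem (Finset.mem_map_of_mem _ hv)) (fun e => huv (Subtype.ext e)) hg.1 ?_ ?_ ?_ hns
      · rw [Finset.card_insert_of_notMem, Finset.card_map, hB]
        intro hm
        obtain ⟨w, -, e⟩ := Finset.mem_map.1 hm
        exact haU (by rw [← e]; exact w.2)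
      · show g (u : α) = v
        rw [hgσ, hσ u hu, swap_apply_left]
      · show g (v : α) = u
        rw [hgσ, hσ v hv, swap_apply_right]
      · intro x hx hxu hxv
        rcases Finset.mem_insert.1 hx with rfl | hx
        · exact hg.2 _ (Finset.mem_singleton_self _)
        obtain ⟨w, hw, rfl⟩ := Finset.mem_map.1 hx
        show g (w : α) = w
        rw [hgσ, hσ w hw, swap_apply_of_ne_of_ne (fun e => hxu (by rw [e])) (fun e => hxv (by rw [e]))]
    have := ih H hH hns'
    rw [Fintype.card_coe, hUc] at this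
    omega

end CfsgLib.Char.Homogeneous
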