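import Cfsg.Agent.Lib.Char.Homogeneous.Counting

/-!
Transitivity on sets of size two and three, and on sets of size three and four.
-/

set_option autoImplicit false
set_option linter.unusedSectionVars false

namespace CfsgLib.Char.Homogeneous

open Equiv

variable {α : Type*} [Fintype α] [DecidableEq α] {G : Subgroup (Perm α)}

/-- Counting invariant tuples by their sets. -/
theorem hom_count {k : ℕ} (hh : Hom G k) (P : (Fin k ↪ α) → Prop) [DecidablePred P]
    (hP : ∀ g ∈ G, ∀ q, P q → P (q.trans g.toEmbedding)) {B₀ : Finset α} (hB₀ : B₀.card = k) :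
    (Finset.univ.filter P).card =
      (Fintype.card α).choose k * (Finset.univ.filter fun q => P q ∧ Finset.univ.map q = B₀).card := by
  classical
  rw [Finset.card_eq_sum_card_fiberwise (f := fun q : Fin k ↪ α => Finset.univ.map q)
    (t := Finset.univ.powersetCard k) (fun q _ => by simp [Finset.mem_powersetCard]),
    ← Finset.card_univ (α := α), ← Finset.card_powersetCard, ← smul_eq_mul, ← Finset.sum_const]
  refine Finset.sum_congr rfl fun B hB => ?_
  obtain ⟨g, hg, hgB⟩ := hh B B₀ (Finset.mem_powersetCard.1 hB).2 hB₀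
  have hmap : ∀ (h : Perm α) (q : Fin k ↪ α),
      Finset.univ.map (q.trans h.toEmbedding) = (Finset.univ.map q).image h := fun h q => by
    rw [← Finset.map_map, Finset.map_eq_image h.toEmbedding]
    rfl
  refine Finset.card_bij (fun q _ => q.trans g.toEmbedding) ?_ ?_ ?_
  · intro q hq
    simp only [Finset.mem_filter, Finset.mem_univ, true_and] at hq ⊢
    exact ⟨hP g hg q hq.1, by rw [hmap, hq.2, hgB]⟩
  · intro q _ q' _ e
    ext i
    exact g.injective (DFunLike.congr_fun e i)
  · intro q hq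
    simp only [Finset.mem_filter, Finset.mem_univ, true_and] at hq
    refine ⟨q.trans (g⁻¹).toEmbedding, ?_, Function.Embedding.ext fun i => aia g (q i)⟩
    simp only [Finset.mem_filter, Finset.mem_univ, true_and]
    refine ⟨hP _ (inv_mem hg) q hq.1, ?_⟩
    rw [hmap, hq.2, ← hgB, Finset.image_image]
    simp

/-- Pairs of third points for ordered pairs. -/
theorem card_quads (Rel : α → α → α → Prop) [∀ a b, DecidablePred (Rel a b)] (r : ℕ)
    (hr : ∀ a b, a ≠ b → (Finset.univ.filter (Rel a b)).card = r)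
    (hne : ∀ a b c, Rel a b c → c ≠ a ∧ c ≠ b) :
    (Finset.univ.filter fun q : Fin 4 ↪ α => Rel (q 0) (q 1) (q 2) ∧ Rel (q 0) (q 1) (q 3)).card =
      (Fintype.card α * Fintype.card α - Fintype.card α) * (r * r - r) := by
  classical
  rw [← Finset.card_univ (α := α), ← Finset.offDiag_card, ← smul_eq_mul, ← Finset.sum_const,
    Finset.sum_congr rfl (g := fun ab => (Finset.univ.filter (Rel ab.1 ab.2)).offDiag.card) fun ab hab => by
      rw [Finset.offDiag_card, hr _ _ (Finset.mem_offDiag.1 hab).2.2], ← Finset.card_sigma]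
  refine Finset.card_bij (fun q _ => ⟨(q 0, q 1), (q 2, q 3)⟩) ?_ ?_ ?_
  · intro q hq
    simp only [Finset.mem_filter, Finset.mem_univ, true_and] at hq
    simp [hq.1, hq.2, emb_ne q (show (0 : Fin 4) ≠ 1 by decide), emb_ne q (show (2 : Fin 4) ≠ 3 by decide)]
  · intro q _ q' _ e
    simp only [Sigma.mk.injEq, heq_eq_eq, Prod.mk.injEq] at e
    ext i
    fin_cases i
    exacts [e.1.1, e.1.2, e.2.1, e.2.2]
  · rintro ⟨⟨a, b⟩, c, d⟩ h
    simp only [Finset.mem_sigma, Finset.mem_offDiag, Finset.mem_univ, true_and, Finset.mem_filter] at h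
    obtain ⟨hab, hc, hd, hcd⟩ := h
    exact ⟨quad a b c d ⟨hab, (hne a b c hc).1.symm, (hne a b d hd).1.symm, (hne a b c hc).2.symm,
      (hne a b d hd).2.symm, hcd⟩, Finset.mem_filter.2 ⟨Finset.mem_univ _, hc, hd⟩, rfl⟩

theorem two_mul_image_le {S : Finset (Fin 4 ↪ α)}
    (h : ∀ q ∈ S, (swap 2 3 : Perm (Fin 4)).toEmbedding.trans q ∈ S) :
    2 * (S.image fun q => (q 0, q 1)).card ≤ S.card := by
  classical
  rw [Finset.card_eq_sum_card_image (fun q : Fin 4 ↪ α => (q 0, q 1)) S, mul_comm, ← smul_eq_mul,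
    ← Finset.sum_const]
  refine Finset.sum_le_sum fun ab hab => ?_
  obtain ⟨q, hq, rfl⟩ := Finset.mem_image.1 hab
  have hne : (swap 2 3 : Perm (Fin 4)).toEmbedding.trans q ≠ q := fun e => by
    have := DFunLike.congr_fun e 2
    simp at this
  rw [← Finset.card_pair hne]
  refine Finset.card_le_card fun x hx => ?_
  simp only [Finset.mem_insert, Finset.mem_singleton] at hx
  rcases hx with rfl | rfl
  · exact Finset.mem_filter.2 ⟨h q hq, by simp [swap_apply_def]⟩
  · exact Finset.mem_filter.2 ⟨hq, rfl⟩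

theorem descFactorial_four (n : ℕ) : n.descFactorial 4 = n * (n - 1) * (n - 2) * (n - 3) := by
  simp [Nat.descFactorial]
  ring

/-- A triple as a set. -/
theorem card_triple {a b c : α} (h1 : a ≠ b) (h2 : a ≠ c) (h3 : b ≠ c) : ({a, b, c} : Finset α).card = 3 := by
  simp [h1, h2, h3]

/-- Transitive on pairs but not doubly transitive: no more than three points. -/
theorem k_three (hn : 4 ≤ Fintype.card α) (h1 : Ktr G 1) (h2 : ¬ Ktr G 2) (hh2 : Hom G 2) (hh3 : Hom G 3) :
    False := by
  classical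
  obtain ⟨a₀, b₀, hab₀⟩ := Fintype.exists_pair_of_one_lt_card (show 1 < Fintype.card α by omega)
  set R : α → α → Prop := fun a b => ∃ g ∈ G, g a₀ = a ∧ g b₀ = b
  have hirr : ∀ a b, R a b → a ≠ b := fun a b ⟨g, _, e1, e2⟩ e => hab₀ (g.injective (by rw [e1, e2, e]))
  have htot : ∀ a b, a ≠ b → R a b ∨ R b a := by
    intro a b hab
    obtain ⟨g, hg, hgi⟩ := hh2 {a₀, b₀} {a, b} (Finset.card_pair hab₀) (Finset.card_pair hab)
    have m1 : g a₀ ∈ ({a, b} : Finset α) := hgi ▸ Finset.mem_image_of_mem g (by simp)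
    have m2 : g b₀ ∈ ({a, b} : Finset α) := hgi ▸ Finset.mem_image_of_mem g (by simp)
    simp only [Finset.mem_insert, Finset.mem_singleton] at m1 m2
    rcases m1 with e1 | e1 <;> rcases m2 with e2 | e2
    · exact absurd (g.injective (e1.trans e2.symm)) hab₀
    · exact Or.inl ⟨g, hg, e1, e2⟩
    · exact Or.inr ⟨g, hg, e1, e2⟩
    · exact absurd (g.injective (e1.trans e2.symm)) hab₀
  have hinv : ∀ g ∈ G, ∀ a b, R a b → R (g a) (g b) := fun g hg a b ⟨h, hh, e1, e2⟩ =>
    ⟨g * h, mul_mem hg hh, by rw [Perm.mul_apply, e1], by rw [Perm.mul_apply, e2]⟩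
  have hanti : ∀ a b, R a b → ¬ R b a := by
    rintro a b hab hba
    refine h2 (ktr_or_noSwap hh2 ⟨{a₀, b₀}, Finset.card_pair hab₀, fun σ hσ hs => ?_⟩ |>.resolve_right ?_)
    · have : σ = 1 := by
        by_contra hne
        have hsub : σ.support ⊆ {a₀, b₀} := fun x hx => by
          by_contra hc
          exact Perm.mem_support.1 hx (hσ x hc)
        have h3 := Finset.card_le_card hsub
        rw [Finset.card_pair hab₀] at h3
        have h4 : σ.IsSwap := Perm.card_support_eq_two.1 (le_antisymm h3 (Perm.two_le_card_support_of_ne_one hne))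
        rw [h4.sign_eq] at hs
        exact absurd hs (by decide)
      rw [this]
      exact one_mem _
    · obtain ⟨g, hg, e1, e2⟩ := hab
      obtain ⟨g', hg', e1', e2'⟩ := hba
      refine fun hns => not_noSwap_of (B := {a₀, b₀}) (Finset.card_pair hab₀) (Finset.mem_insert_self _ _)
        (Finset.mem_insert_of_mem (Finset.mem_singleton_self _)) hab₀ (mul_mem (inv_mem hg) hg') ?_ ?_ ?_ hns
      · rw [Perm.mul_apply, e1', ← e2, iaa]
      · rw [Perm.mul_apply, e2', ← e1, iaa]
      · intro x hx hxa hxb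
        simp only [Finset.mem_insert, Finset.mem_singleton] at hx
        exact absurd hx (not_or.2 ⟨hxa, hxb⟩)
  -- no cyclic triangle
  have hnc : ∀ a b c, R a b → R b c → ¬ R c a := by
    intro a b c hab hbc hca
    have hcyc : ∀ x y z, x ≠ y → x ≠ z → y ≠ z → ∃ g ∈ G, ({a, b, c} : Finset α).image g = {x, y, z} := fun x y z e1 e2 e3 =>
      hh3 _ _ (card_triple (hirr a b hab) (hirr c a hca).symm (hirr b c hbc)) (card_triple e1 e2 e3)
    have hout : ∀ x y z, y ≠ z → R x y → R x z → False := by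
      intro x y z hyz hxy hxz
      obtain ⟨g, hg, hgi⟩ := hcyc x y z (hirr x y hxy) (hirr x z hxz) hyz
      have g1 := hinv g hg _ _ hab
      have g2 := hinv g hg _ _ hbc
      have g3 := hinv g hg _ _ hca
      have m : x ∈ ({a, b, c} : Finset α).image g := by rw [hgi]; simp
      have ma : g a ∈ ({x, y, z} : Finset α) := hgi ▸ Finset.mem_image_of_mem g (by simp)
      have mb : g b ∈ ({x, y, z} : Finset α) := hgi ▸ Finset.mem_image_of_mem g (by simp)
      have mc : g c ∈ ({x, y, z} : Finset α) := hgi ▸ Finset.mem_image_of_mem g (by simp)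
      simp only [Finset.mem_image, Finset.mem_insert, Finset.mem_singleton] at m ma mb mc
      obtain ⟨w, hw, rfl⟩ := m
      rcases hw with rfl | rfl | rfl
      · rcases mc with e | e | e
        · exact hirr _ _ g3 e
        · exact hanti _ _ (e ▸ g3) hxy
        · exact hanti _ _ (e ▸ g3) hxz
      · rcases ma with e | e | e
        · exact hirr _ _ g1 e
        · exact hanti _ _ (e ▸ g1) hxy
        · exact hanti _ _ (e ▸ g1) hxz
      · rcases mb with e | e | e
        · exact hirr _ _ g2 e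
        · exact hanti _ _ (e ▸ g2) hxy
        · exact hanti _ _ (e ▸ g2) hxz
    obtain ⟨d, hd⟩ : ∃ d, d ∉ ({a, b, c} : Finset α) := by
      by_contra h
      push_neg at h
      have := Finset.card_le_card (show (Finset.univ : Finset α) ⊆ {a, b, c} from fun x _ => h x)
      rw [Finset.card_univ, card_triple (hirr a b hab) (hirr c a hca).symm (hirr b c hbc)] at this
      omega
    simp only [Finset.mem_insert, Finset.mem_singleton, not_or] at hd
    rcases htot a d (Ne.symm hd.1) with e | e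
    · exact hout a b d (Ne.symm hd.2.1) hab e
    · rcases htot b d (Ne.symm hd.2.1) with e' | e'
      · exact hout b c d (Ne.symm hd.2.2) hbc e'
      · exact hout d a b (hirr a b hab) e e'
  obtain ⟨a, -, hmax⟩ := (Finset.univ : Finset α).exists_max_image
    (fun x => (Finset.univ.filter (R x)).card) ⟨a₀, Finset.mem_univ _⟩
  have hsrc : ∀ x, ¬ R x a := by
    intro x hx
    have hss : Finset.univ.filter (R a) ⊂ Finset.univ.filter (R x) := by
      refine Finset.ssubset_iff_subset_ne.2 ⟨fun y hy => ?_, fun e => ?_⟩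
      · simp only [Finset.mem_filter, Finset.mem_univ, true_and] at hy ⊢
        have hne : x ≠ y := fun e => hanti _ _ hx (e ▸ hy)
        exact (htot x y hne).resolve_right fun h => hnc _ _ _ hx hy h
      · have : a ∈ Finset.univ.filter (R a) := by rw [e]; simp [hx]
        simp only [Finset.mem_filter, Finset.mem_univ, true_and] at this
        exact hirr a a this rfl
    exact absurd (hmax x (Finset.mem_univ x)) (not_le.2 (Finset.card_lt_card hss))
  obtain ⟨b, hb⟩ := Fintype.exists_ne_of_one_lt_card (show 1 < Fintype.card α by omega) a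
  obtain ⟨g, hg, hga⟩ := h1 {b} (fun _ => a) (Finset.card_singleton b) (by simp)
  have e := hga b (Finset.mem_singleton_self b)
  have h4 : R a b := (htot a b (Ne.symm hb)).resolve_right (hsrc b)
  exact hsrc (g a) (e ▸ hinv g hg a b h4)

theorem Ktr.map_pair (h : Ktr G 2) {a b a' b' : α} (hab : a ≠ b) (hab' : a' ≠ b') :
    ∃ g ∈ G, g a = a' ∧ g b = b' := by
  obtain ⟨g, hg, hgf⟩ := h {a, b} (fun x => if x = a then a' else b') (Finset.card_pair hab) (by
    intro x hx y hy e
    simp only [Finset.coe_insert, Finset.coe_singleton, Set.mem_insert_iff, Set.mem_singleton_iff] at hx hy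
    rcases hx with rfl | rfl <;> rcases hy with rfl | rfl <;> simp_all [eq_comm])
  exact ⟨g, hg, by rw [hgf a (by simp), if_pos rfl], by rw [hgf b (by simp), if_neg hab.symm]⟩

theorem count_quads_eq (hh4 : Hom G 4) (hn : 4 ≤ Fintype.card α) (Rel : α → α → α → Prop)
    [∀ a b, DecidablePred (Rel a b)] (r : ℕ)
    (hr : ∀ a b, a ≠ b → (Finset.univ.filter (Rel a b)).card = r)
    (hne : ∀ a b c, Rel a b c → c ≠ a ∧ c ≠ b)
    (hinv : ∀ g ∈ G, ∀ a b c, Rel a b c → Rel (g a) (g b) (g c)) {B₀ : Finset α} (hB₀ : B₀.card = 4) :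
    24 * (r * r - r) = (Fintype.card α - 2) * (Fintype.card α - 3) *
      (Finset.univ.filter fun q : Fin 4 ↪ α =>
        (Rel (q 0) (q 1) (q 2) ∧ Rel (q 0) (q 1) (q 3)) ∧ Finset.univ.map q = B₀).card := by
  classical
  have h := hom_count hh4 (fun q : Fin 4 ↪ α => Rel (q 0) (q 1) (q 2) ∧ Rel (q 0) (q 1) (q 3))
    (fun g hg q hq => ⟨hinv g hg _ _ _ hq.1, hinv g hg _ _ _ hq.2⟩) hB₀
  rw [card_quads Rel r hr hne] at h
  have hd := Nat.descFactorial_eq_factorial_mul_choose (Fintype.card α) 4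
  rw [descFactorial_four] at hd
  have hpos : 0 < Fintype.card α * (Fintype.card α - 1) := Nat.mul_pos (by omega) (by omega)
  refine Nat.eq_of_mul_eq_mul_left hpos ?_
  rw [show Fintype.card α * Fintype.card α - Fintype.card α = Fintype.card α * (Fintype.card α - 1) by
    rw [Nat.mul_sub, mul_one]] at h
  calc Fintype.card α * (Fintype.card α - 1) * (24 * (r * r - r))
      = 24 * (Fintype.card α * (Fintype.card α - 1) * (r * r - r)) := by ring
    _ = Nat.factorial 4 * ((Fintype.card α).choose 4 * _) := by rw [h]; rfl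
    _ = _ := by rw [← mul_assoc, ← hd]; ring

/-- A cyclic order on the triples forces four points. -/
theorem oriented (hn : 5 ≤ Fintype.card α) (h2 : Ktr G 2) (h3 : ¬ Ktr G 3) (hh3 : Hom G 3) (hh4 : Hom G 4)
    {a₀ b₀ c₀ : α} (hab : a₀ ≠ b₀) (hac : a₀ ≠ c₀) (hbc : b₀ ≠ c₀) {g₀ : Perm α} (hg₀ : g₀ ∈ G)
    (ea : g₀ a₀ = b₀) (eb : g₀ b₀ = c₀) (ec : g₀ c₀ = a₀) : False := by
  classical
  set pos : α → α → α → Prop := fun a b c => ∃ g ∈ G, g a₀ = a ∧ g b₀ = b ∧ g c₀ = c
  have hinv : ∀ g ∈ G, ∀ a b c, pos a b c → pos (g a) (g b) (g c) := fun g hg a b c ⟨h, hh, e1, e2, e3⟩ =>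
    ⟨g * h, mul_mem hg hh, by rw [Perm.mul_apply, e1], by rw [Perm.mul_apply, e2], by rw [Perm.mul_apply, e3]⟩
  have hdist : ∀ a b c, pos a b c → a ≠ b ∧ a ≠ c ∧ b ≠ c := fun a b c ⟨g, _, e1, e2, e3⟩ =>
    ⟨fun e => hab (g.injective (by rw [e1, e2, e])), fun e => hac (g.injective (by rw [e1, e3, e])),
      fun e => hbc (g.injective (by rw [e2, e3, e]))⟩
  have hrot : ∀ a b c, pos a b c → pos b c a := fun a b c ⟨g, hg, e1, e2, e3⟩ =>
    ⟨g * g₀, mul_mem hg hg₀, by rw [Perm.mul_apply, ea, e2], by rw [Perm.mul_apply, eb, e3],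
      by rw [Perm.mul_apply, ec, e1]⟩
  have htot : ∀ a b c, a ≠ b → a ≠ c → b ≠ c → pos a b c ∨ pos b a c := by
    intro a b c h1 h2' h3'
    obtain ⟨g, hg, hgi⟩ := hh3 {a₀, b₀, c₀} {a, b, c} (card_triple hab hac hbc) (card_triple h1 h2' h3')
    have p : pos (g a₀) (g b₀) (g c₀) := ⟨g, hg, rfl, rfl, rfl⟩
    have ma : g a₀ ∈ ({a, b, c} : Finset α) := hgi ▸ Finset.mem_image_of_mem g (by simp)
    have mb : g b₀ ∈ ({a, b, c} : Finset α) := hgi ▸ Finset.mem_image_of_mem g (by simp)
    have mc : g c₀ ∈ ({a, b, c} : Finset α) := hgi ▸ Finset.mem_image_of_mem g (by simp)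
    obtain ⟨d1, d2, d3⟩ := hdist _ _ _ p
    simp only [Finset.mem_insert, Finset.mem_singleton] at ma mb mc
    rcases ma with x | x | x <;> rcases mb with y | y | y <;> rcases mc with z | z | z <;>
      simp only [x, y, z] at p d1 d2 d3 <;>
      first
        | exact absurd rfl d1 | exact absurd rfl d2 | exact absurd rfl d3
        | exact Or.inl p | exact Or.inl (hrot _ _ _ p) | exact Or.inl (hrot _ _ _ (hrot _ _ _ p))
        | exact Or.inr p | exact Or.inr (hrot _ _ _ p) | exact Or.inr (hrot _ _ _ (hrot _ _ _ p))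
  have hexcl : ∀ a b c, pos a b c → ¬ pos b a c := by
    intro a b c p p'
    refine h3 (fun D f hD hf => ?_)
    -- every arrangement is positive
    have hall : ∀ x y z, x ≠ y → x ≠ z → y ≠ z → pos x y z := by
      obtain ⟨g, hg, e1, e2, e3⟩ := p
      obtain ⟨g', hg', e1', e2', e3'⟩ := p'
      have hb : pos b₀ a₀ c₀ := ⟨g⁻¹ * g', mul_mem (inv_mem hg) hg',
        by rw [Perm.mul_apply, e1', ← e2, iaa], by rw [Perm.mul_apply, e2', ← e1, iaa],
        by rw [Perm.mul_apply, e3', ← e3, iaa]⟩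
      intro x y z k1 k2 k3
      rcases htot x y z k1 k2 k3 with q | q
      · exact q
      · obtain ⟨h, hh, j1, j2, j3⟩ := q
        have := hinv h hh _ _ _ hb
        rwa [j1, j2, j3] at this
    obtain ⟨x, y, z, k1, k2, k3, rfl⟩ := Finset.card_eq_three.1 hD
    obtain ⟨g, hg, i1, i2, i3⟩ := hall x y z k1 k2 k3
    have f1 : f x ≠ f y := fun e => k1 (hf (by simp) (by simp) e)
    have f2 : f x ≠ f z := fun e => k2 (hf (by simp) (by simp) e)
    have f3 : f y ≠ f z := fun e => k3 (hf (by simp) (by simp) e)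
    obtain ⟨g', hg', j1, j2, j3⟩ := hall _ _ _ f1 f2 f3
    refine ⟨g' * g⁻¹, mul_mem hg' (inv_mem hg), fun w hw => ?_⟩
    simp only [Finset.mem_insert, Finset.mem_singleton] at hw
    rcases hw with rfl | rfl | rfl
    · rw [Perm.mul_apply, ← i1, iaa, j1, i1]
    · rw [Perm.mul_apply, ← i2, iaa, j2, i2]
    · rw [Perm.mul_apply, ← i3, iaa, j3, i3]
  set r := (Finset.univ.filter (pos a₀ b₀)).card
  have hr : ∀ a b, a ≠ b → (Finset.univ.filter (pos a b)).card = r := by
    intro a b h
    obtain ⟨g, hg, e1, e2⟩ := h2.map_pair h hab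
    refine Finset.card_bij (fun c _ => g c) ?_ ?_ ?_
    · intro c hc
      simp only [Finset.mem_filter, Finset.mem_univ, true_and] at hc ⊢
      have := hinv g hg _ _ _ hc
      rwa [e1, e2] at this
    · intro c _ c' _ e
      exact g.injective e
    · intro c hc
      simp only [Finset.mem_filter, Finset.mem_univ, true_and] at hc
      refine ⟨g⁻¹ c, ?_, aia g c⟩
      simp only [Finset.mem_filter, Finset.mem_univ, true_and]
      have := hinv g⁻¹ (inv_mem hg) _ _ _ hc
      rwa [← e1, ← e2, iaa, iaa] at this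
  have hn2 : Fintype.card α - 2 = 2 * r := by
    have e : (({a₀, b₀} : Finset α)ᶜ) = Finset.univ.filter (pos a₀ b₀) ∪ Finset.univ.filter (pos b₀ a₀) := by
      ext c
      simp only [Finset.mem_compl, Finset.mem_insert, Finset.mem_singleton, Finset.mem_union, Finset.mem_filter,
        Finset.mem_univ, true_and, not_or]
      constructor
      · rintro ⟨c1, c2⟩
        exact htot _ _ _ hab (Ne.symm c1) (Ne.symm c2)
      · rintro (p | p)
        · exact ⟨(hdist _ _ _ p).2.1.symm, (hdist _ _ _ p).2.2.symm⟩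
        · exact ⟨(hdist _ _ _ p).2.2.symm, (hdist _ _ _ p).2.1.symm⟩
    have h' := congrArg Finset.card e
    rw [Finset.card_compl, Finset.card_pair hab, Finset.card_union_of_disjoint, hr b₀ a₀ hab.symm] at h'
    · change _ = r + r at h'
      omega
    · exact Finset.disjoint_filter.2 fun c _ p p' => hexcl _ _ _ p p'
  obtain ⟨B₀, -, hB₀⟩ := Finset.exists_subset_card_eq (s := (Finset.univ : Finset α)) (n := 4)
    (by rw [Finset.card_univ]; omega)
  have key := count_quads_eq hh4 (by omega) pos r hr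
    (fun a b c p => ⟨(hdist a b c p).2.1.symm, (hdist a b c p).2.2.symm⟩) hinv hB₀
  set S := Finset.univ.filter fun q : Fin 4 ↪ α =>
    (pos (q 0) (q 1) (q 2) ∧ pos (q 0) (q 1) (q 3)) ∧ Finset.univ.map q = B₀
  have hw : S = ∅ ∨ 6 ≤ S.card := by
    rcases S.eq_empty_or_nonempty with h | ⟨q, hq⟩
    · exact Or.inl h
    right
    refine le_trans ?_ (two_mul_image_le (S := S) fun q' hq' => ?_)
    swap
    · simp only [S, Finset.mem_filter, Finset.mem_univ, true_and] at hq' ⊢
      refine ⟨⟨by simpa [swap_apply_def] using hq'.1.2, by simpa [swap_apply_def] using hq'.1.1⟩, ?_⟩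
      rw [← Finset.map_map, Finset.map_univ_equiv]
      exact hq'.2
    simp only [S, Finset.mem_filter, Finset.mem_univ, true_and] at hq
    obtain ⟨⟨p1, p2⟩, hmap⟩ := hq
    set a := q 0
    set b := q 1
    set x := q 2
    set y := q 3
    have mkq : ∀ (σ : Perm (Fin 4)), pos (q (σ 0)) (q (σ 1)) (q (σ 2)) → pos (q (σ 0)) (q (σ 1)) (q (σ 3)) →
        (q (σ 0), q (σ 1)) ∈ S.image fun q' : Fin 4 ↪ α => (q' 0, q' 1) := fun σ s1 s2 => by
      refine Finset.mem_image.2 ⟨σ.toEmbedding.trans q, ?_, rfl⟩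
      simp only [S, Finset.mem_filter, Finset.mem_univ, true_and]
      exact ⟨⟨s1, s2⟩, by rw [← Finset.map_map, Finset.map_univ_equiv]; exact hmap⟩
    have hxy : x ≠ y := emb_ne q (by decide)
    have hax : a ≠ x := emb_ne q (by decide)
    have hay : a ≠ y := emb_ne q (by decide)
    have hbx : b ≠ x := emb_ne q (by decide)
    have hby : b ≠ y := emb_ne q (by decide)
    have habq : a ≠ b := emb_ne q (by decide)
    have m1 : (a, b) ∈ S.image fun q' : Fin 4 ↪ α => (q' 0, q' 1) := by
      simpa using mkq 1 (by simpa using p1) (by simpa using p2)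
    obtain ⟨u, m2, hu⟩ : ∃ u, (u, a) ∈ S.image (fun q' : Fin 4 ↪ α => (q' 0, q' 1)) ∧ (u = x ∨ u = y) := by
      rcases htot a x y hax hay hxy with s | s
      · refine ⟨y, ?_, Or.inr rfl⟩
        have := mkq (swap 0 1 * swap 0 3) (by simpa [swap_apply_def] using hrot _ _ _ (hrot _ _ _ s))
          (by simpa [swap_apply_def] using hrot _ _ _ (hrot _ _ _ p2))
        simpa [swap_apply_def] using this
      · refine ⟨x, ?_, Or.inl rfl⟩
        have := mkq (swap 0 1 * swap 0 2) (by simpa [swap_apply_def] using hrot _ _ _ (hrot _ _ _ p1))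
          (by simpa [swap_apply_def] using s)
        simpa [swap_apply_def] using this
    obtain ⟨v, m3, hv⟩ : ∃ v, (b, v) ∈ S.image (fun q' : Fin 4 ↪ α => (q' 0, q' 1)) ∧ (v = x ∨ v = y) := by
      rcases htot b x y hbx hby hxy with s | s
      · refine ⟨x, ?_, Or.inl rfl⟩
        have := mkq (swap 0 2 * swap 0 1) (by simpa [swap_apply_def] using hrot _ _ _ p1)
          (by simpa [swap_apply_def] using s)
        simpa [swap_apply_def] using this
      · refine ⟨y, ?_, Or.inr rfl⟩
        have := mkq (swap 0 1 * swap 1 3) (by simpa [swap_apply_def] using hrot _ _ _ s)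
          (by simpa [swap_apply_def] using hrot _ _ _ p2)
        simpa [swap_apply_def] using this
    have hua : u ≠ a := by rcases hu with rfl | rfl; exacts [hax.symm, hay.symm]
    have hub : u ≠ b := by rcases hu with rfl | rfl; exacts [hbx.symm, hby.symm]
    have h3 := Finset.card_le_card (show ({(a, b), (u, a), (b, v)} : Finset (α × α)) ⊆ _ from fun w hw => by
      simp only [Finset.mem_insert, Finset.mem_singleton] at hw
      rcases hw with rfl | rfl | rfl
      exacts [m1, m2, m3])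
    rw [card_triple (fun e => hua (Prod.mk.injEq .. ▸ e).1.symm) (fun e => habq (congrArg Prod.fst e))
      (fun e => hub (congrArg Prod.fst e))] at h3
    omega
  rw [hn2, show Fintype.card α - 3 = 2 * r - 1 by omega] at key
  rcases hw with h | h
  · rw [h, Finset.card_empty, mul_zero] at key
    have : r * r - r = r * (r - 1) := by rw [Nat.mul_sub, mul_one]
    have h' : 0 < r * (r - 1) := Nat.mul_pos (by omega) (by omega)
    omega
  · obtain ⟨m, hm⟩ : ∃ m, r = m + 2 := ⟨r - 2, by omega⟩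
    rw [hm] at key
    rw [show (m + 2) * (m + 2) - (m + 2) = (m + 2) * (m + 1) by
        rw [Nat.sub_eq_iff_eq_add (Nat.le_mul_self _)]; ring,
      show 2 * (m + 2) - 1 = 2 * m + 3 by omega] at key
    nlinarith [Nat.mul_le_mul_left (2 * (m + 2) * (2 * m + 3)) h]

/-- A distinguished point on the triples forces five points. -/
theorem pointed (hn : 5 ≤ Fintype.card α) (h2 : Ktr G 2) (hh3 : Hom G 3) (hh4 : Hom G 4)
    {a₀ b₀ c₀ : α} (hab : a₀ ≠ b₀) (hac : a₀ ≠ c₀) (hbc : b₀ ≠ c₀)
    (hfix : ∀ g ∈ G, ({a₀, b₀, c₀} : Finset α).image g = {a₀, b₀, c₀} → g c₀ = c₀) : Fintype.card α = 5 := by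
  classical
  set Rel : α → α → α → Prop := fun a b c => ∃ g ∈ G, g c₀ = c ∧ ((g a₀ = a ∧ g b₀ = b) ∨ (g a₀ = b ∧ g b₀ = a))
  have hinv : ∀ g ∈ G, ∀ a b c, Rel a b c → Rel (g a) (g b) (g c) := fun g hg a b c ⟨h, hh, e, e'⟩ =>
    ⟨g * h, mul_mem hg hh, by rw [Perm.mul_apply, e],
      e'.imp (fun p => ⟨by rw [Perm.mul_apply, p.1], by rw [Perm.mul_apply, p.2]⟩)
        (fun p => ⟨by rw [Perm.mul_apply, p.1], by rw [Perm.mul_apply, p.2]⟩)⟩
  have hdist : ∀ a b c, Rel a b c → a ≠ b ∧ c ≠ a ∧ c ≠ b := by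
    rintro a b c ⟨g, -, rfl, ⟨rfl, rfl⟩ | ⟨rfl, rfl⟩⟩
    · exact ⟨g.injective.ne hab, g.injective.ne hac.symm, g.injective.ne hbc.symm⟩
    · exact ⟨g.injective.ne hab.symm, g.injective.ne hbc.symm, g.injective.ne hac.symm⟩
  have hsymm : ∀ a b c, Rel a b c → Rel b a c := fun a b c ⟨g, hg, e, e'⟩ => ⟨g, hg, e, e'.symm⟩
  have hset : ∀ (g : Perm α) a b c, g c₀ = c → ((g a₀ = a ∧ g b₀ = b) ∨ (g a₀ = b ∧ g b₀ = a)) →
      ({a₀, b₀, c₀} : Finset α).image g = {a, b, c} := by
    rintro g a b c rfl (⟨rfl, rfl⟩ | ⟨rfl, rfl⟩)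
    · simp
    · simp [Finset.insert_comm]
  have huniq : ∀ a b c, Rel a b c → ¬ Rel b c a := by
    rintro a b c ⟨g, hg, e, e'⟩ ⟨h, hh, j, j'⟩
    have hd : c ≠ a := (hdist a b c ⟨g, hg, e, e'⟩).2.1
    refine hd ?_
    have s1 := hset g a b c e e'
    have s2 := hset h b c a j j'
    have s3 : ({b, c, a} : Finset α) = {a, b, c} := by ext; simp; tauto
    have := hfix (h⁻¹ * g) (mul_mem (inv_mem hh) hg) (by
      rw [Perm.coe_mul, ← Finset.image_image, s1, ← s3, ← s2, Finset.image_image]
      simp)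
    rw [Perm.mul_apply, e, Perm.inv_eq_iff_eq, j] at this
    exact this
  have htot : ∀ a b c, a ≠ b → a ≠ c → b ≠ c → Rel a b c ∨ Rel b c a ∨ Rel c a b := by
    intro a b c k1 k2 k3
    obtain ⟨g, hg, hgi⟩ := hh3 {a₀, b₀, c₀} {a, b, c} (card_triple hab hac hbc) (card_triple k1 k2 k3)
    have p : Rel (g a₀) (g b₀) (g c₀) := ⟨g, hg, rfl, Or.inl ⟨rfl, rfl⟩⟩
    have ma : g a₀ ∈ ({a, b, c} : Finset α) := hgi ▸ Finset.mem_image_of_mem g (by simp)
    have mb : g b₀ ∈ ({a, b, c} : Finset α) := hgi ▸ Finset.mem_image_of_mem g (by simp)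
    have mc : g c₀ ∈ ({a, b, c} : Finset α) := hgi ▸ Finset.mem_image_of_mem g (by simp)
    obtain ⟨d1, d2, d3⟩ := hdist _ _ _ p
    simp only [Finset.mem_insert, Finset.mem_singleton] at ma mb mc
    rcases ma with x | x | x <;> rcases mb with y | y | y <;> rcases mc with z | z | z <;>
      simp only [x, y, z] at p d1 d2 d3 <;>
      first
        | exact absurd rfl d1 | exact absurd rfl d2 | exact absurd rfl d3
        | exact Or.inl p | exact Or.inl (hsymm _ _ _ p) | exact Or.inr (Or.inl p)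
        | exact Or.inr (Or.inl (hsymm _ _ _ p)) | exact Or.inr (Or.inr p) | exact Or.inr (Or.inr (hsymm _ _ _ p))
  set r := (Finset.univ.filter (Rel a₀ b₀)).card
  have hr : ∀ a b, a ≠ b → (Finset.univ.filter (Rel a b)).card = r := by
    intro a b h
    obtain ⟨g, hg, e1, e2⟩ := h2.map_pair h hab
    refine Finset.card_bij (fun c _ => g c) ?_ ?_ ?_
    · intro c hc
      simp only [Finset.mem_filter, Finset.mem_univ, true_and] at hc ⊢
      have := hinv g hg _ _ _ hc
      rwa [e1, e2] at this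
    · intro c _ c' _ e
      exact g.injective e
    · intro c hc
      simp only [Finset.mem_filter, Finset.mem_univ, true_and] at hc
      refine ⟨g⁻¹ c, ?_, aia g c⟩
      simp only [Finset.mem_filter, Finset.mem_univ, true_and]
      have := hinv g⁻¹ (inv_mem hg) _ _ _ hc
      rwa [← e1, ← e2, iaa, iaa] at this
  -- one of the three points is distinguished
  have hn2 : Fintype.card α - 2 = 3 * r := by
    have hcnt : (Finset.univ.filter fun t : Fin 3 ↪ α => Rel (t 0) (t 1) (t 2)).card =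
        (Fintype.card α * Fintype.card α - Fintype.card α) * r := by
      rw [← Finset.card_univ (α := α), ← Finset.offDiag_card, ← smul_eq_mul, ← Finset.sum_const,
        Finset.sum_congr rfl (g := fun ab => (Finset.univ.filter (Rel ab.1 ab.2)).card)
          (fun ab hab => (hr _ _ (Finset.mem_offDiag.1 hab).2.2).symm), ← Finset.card_sigma]
      refine Finset.card_bij (fun t _ => ⟨(t 0, t 1), t 2⟩) ?_ ?_ ?_
      · intro t ht
        simp only [Finset.mem_filter, Finset.mem_univ, true_and] at ht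
        simp [ht, emb_ne t (show (0 : Fin 3) ≠ 1 by decide)]
      · intro t _ t' _ e
        simp only [Sigma.mk.injEq, heq_eq_eq, Prod.mk.injEq] at e
        ext i
        fin_cases i
        exacts [e.1.1, e.1.2, e.2]
      · rintro ⟨⟨a, b⟩, c⟩ h
        simp only [Finset.mem_sigma, Finset.mem_offDiag, Finset.mem_univ, true_and, Finset.mem_filter] at h
        obtain ⟨d1, d2, d3⟩ := hdist _ _ _ h.2
        refine ⟨⟨![a, b, c], fun i j e => ?_⟩, Finset.mem_filter.2 ⟨Finset.mem_univ _, h.2⟩, rfl⟩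
        fin_cases i <;> fin_cases j <;> simp_all [eq_comm]
    have hall : Fintype.card (Fin 3 ↪ α) = 3 * ((Fintype.card α * Fintype.card α - Fintype.card α) * r) := by
      rw [← hcnt]
      have hrotc : ∀ σ : Perm (Fin 3),
          (Finset.univ.filter fun t : Fin 3 ↪ α => Rel (t (σ 0)) (t (σ 1)) (t (σ 2))).card =
          (Finset.univ.filter fun t : Fin 3 ↪ α => Rel (t 0) (t 1) (t 2)).card := fun σ =>
        Finset.card_bij (fun t _ => σ.toEmbedding.trans t)
          (fun t ht => by simpa using ht)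
          (fun t _ t' _ e => by
            ext i
            have := DFunLike.congr_fun e (σ.symm i)
            simpa using this)
          (fun t ht => ⟨σ.symm.toEmbedding.trans t, by simpa using ht, by ext i; simp⟩)
      have e : (Finset.univ : Finset (Fin 3 ↪ α)) =
          (Finset.univ.filter fun t : Fin 3 ↪ α => Rel (t 0) (t 1) (t 2)) ∪
          ((Finset.univ.filter fun t : Fin 3 ↪ α =>
              Rel (t ((finRotate 3) 0)) (t ((finRotate 3) 1)) (t ((finRotate 3) 2))) ∪
           (Finset.univ.filter fun t : Fin 3 ↪ α =>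
              Rel (t ((finRotate 3 * finRotate 3) 0)) (t ((finRotate 3 * finRotate 3) 1))
                (t ((finRotate 3 * finRotate 3) 2)))) := by
        ext t
        simp only [Finset.mem_univ, Finset.mem_union, Finset.mem_filter, true_and, true_iff]
        exact htot _ _ _ (emb_ne t (show (0 : Fin 3) ≠ 1 by decide)) (emb_ne t (show (0 : Fin 3) ≠ 2 by decide))
          (emb_ne t (show (1 : Fin 3) ≠ 2 by decide))
      have e' := congrArg Finset.card e
      rw [Finset.card_union_of_disjoint, Finset.card_union_of_disjoint, hrotc, hrotc, Finset.card_univ] at e'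
      · rw [e']; ring
      · exact Finset.disjoint_filter.2 fun t _ p p' => huniq _ _ _ p p'
      · rw [Finset.disjoint_union_right]
        exact ⟨Finset.disjoint_filter.2 fun t _ p p' => huniq _ _ _ p p',
          Finset.disjoint_filter.2 fun t _ p p' => huniq _ _ _ p' p⟩
    rw [Fintype.card_embedding_eq, Fintype.card_fin] at hall
    simp [Nat.descFactorial] at hall
    have hpos : 0 < Fintype.card α * (Fintype.card α - 1) := Nat.mul_pos (by omega) (by omega)
    refine Nat.eq_of_mul_eq_mul_left hpos ?_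
    rw [show Fintype.card α * Fintype.card α - Fintype.card α = Fintype.card α * (Fintype.card α - 1) by
      rw [Nat.mul_sub, mul_one]] at hall
    linarith
  obtain ⟨B₀, -, hB₀⟩ := Finset.exists_subset_card_eq (s := (Finset.univ : Finset α)) (n := 4)
    (by rw [Finset.card_univ]; omega)
  have key := count_quads_eq hh4 (by omega) Rel r hr
    (fun a b c p => ⟨(hdist a b c p).2.1, (hdist a b c p).2.2⟩) hinv hB₀
  set S := Finset.univ.filter fun q : Fin 4 ↪ α =>
    (Rel (q 0) (q 1) (q 2) ∧ Rel (q 0) (q 1) (q 3)) ∧ Finset.univ.map q = B₀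
  have hw : S = ∅ ∨ 4 ≤ S.card := by
    rcases S.eq_empty_or_nonempty with h | ⟨q, hq⟩
    · exact Or.inl h
    right
    refine le_trans ?_ (two_mul_image_le (S := S) fun q' hq' => ?_)
    swap
    · simp only [S, Finset.mem_filter, Finset.mem_univ, true_and] at hq' ⊢
      refine ⟨⟨by simpa [swap_apply_def] using hq'.1.2, by simpa [swap_apply_def] using hq'.1.1⟩, ?_⟩
      rw [← Finset.map_map, Finset.map_univ_equiv]
      exact hq'.2
    have m1 : (q 0, q 1) ∈ S.image fun q' : Fin 4 ↪ α => (q' 0, q' 1) := Finset.mem_image.2 ⟨q, hq, rfl⟩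
    have m2 : (q 1, q 0) ∈ S.image fun q' : Fin 4 ↪ α => (q' 0, q' 1) := by
      refine Finset.mem_image.2 ⟨(swap 0 1 : Perm (Fin 4)).toEmbedding.trans q, ?_, by simp⟩
      simp only [S, Finset.mem_filter, Finset.mem_univ, true_and] at hq ⊢
      refine ⟨⟨by simpa [swap_apply_def] using hsymm _ _ _ hq.1.1,
        by simpa [swap_apply_def] using hsymm _ _ _ hq.1.2⟩, ?_⟩
      rw [← Finset.map_map, Finset.map_univ_equiv]
      exact hq.2
    have h3 := Finset.card_le_card (show ({(q 0, q 1), (q 1, q 0)} : Finset (α × α)) ⊆ _ from fun w hw => by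
      simp only [Finset.mem_insert, Finset.mem_singleton] at hw
      rcases hw with rfl | rfl
      exacts [m1, m2])
    rw [Finset.card_pair (fun e => emb_ne q (show (0 : Fin 4) ≠ 1 by decide) (congrArg Prod.fst e))] at h3
    omega
  rw [hn2, show Fintype.card α - 3 = 3 * r - 1 by omega] at key
  obtain ⟨m, hm⟩ : ∃ m, r = m + 1 := ⟨r - 1, by omega⟩
  rw [hm] at key hn2
  rw [show (m + 1) * (m + 1) - (m + 1) = (m + 1) * m by
      rw [Nat.sub_eq_iff_eq_add (Nat.le_mul_self _)]; ring,
    show 3 * (m + 1) - 1 = 3 * m + 2 by omega] at key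
  rcases hw with h | h
  · rw [h, Finset.card_empty, mul_zero] at key
    have : m = 0 := by
      rcases Nat.eq_zero_or_pos m with e | e
      · exact e
      · have := Nat.mul_pos (show 0 < m + 1 by omega) e
        omega
    omega
  · nlinarith [Nat.mul_le_mul_left (3 * (m + 1) * (3 * m + 2)) h]

/-- Transitive on sets of three and four, doubly but not triply transitive. -/
theorem k_four (hn : 5 ≤ Fintype.card α) (h2 : Ktr G 2) (h3 : ¬ Ktr G 3) (hh3 : Hom G 3) (hh4 : Hom G 4) :
    Fintype.card α = 5 := by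
  classical
  by_cases hcyc : ∃ g ∈ G, ∃ a b c : α, a ≠ b ∧ a ≠ c ∧ b ≠ c ∧ g a = b ∧ g b = c ∧ g c = a
  · obtain ⟨g, hg, a, b, c, d1, d2, d3, e1, e2, e3⟩ := hcyc
    exact (oriented hn h2 h3 hh3 hh4 d1 d2 d3 hg e1 e2 e3).elim
  obtain ⟨B, -, hB⟩ := Finset.exists_subset_card_eq (s := (Finset.univ : Finset α)) (n := 3)
    (by rw [Finset.card_univ]; omega)
  obtain ⟨a, b, c, d1, d2, d3, rfl⟩ := Finset.card_eq_three.1 hB
  have hmem : ∀ h : Perm α, ({a, b, c} : Finset α).image h = {a, b, c} →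
      (h a = a ∧ h b = b ∧ h c = c) ∨ (h a = a ∧ h b = c ∧ h c = b) ∨ (h a = b ∧ h b = a ∧ h c = c) ∨
      (h a = c ∧ h b = b ∧ h c = a) ∨ (h a = b ∧ h b = c ∧ h c = a) ∨ (h a = c ∧ h b = a ∧ h c = b) := by
    intro h hi
    have ma : h a ∈ ({a, b, c} : Finset α) := hi ▸ Finset.mem_image_of_mem h (by simp)
    have mb : h b ∈ ({a, b, c} : Finset α) := hi ▸ Finset.mem_image_of_mem h (by simp)
    have mc : h c ∈ ({a, b, c} : Finset α) := hi ▸ Finset.mem_image_of_mem h (by simp)
    simp only [Finset.mem_insert, Finset.mem_singleton] at ma mb mc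
    rcases ma with x | x | x <;> rcases mb with y | y | y <;> rcases mc with z | z | z <;>
      first
        | exact absurd (h.injective (x.trans y.symm)) d1
        | exact absurd (h.injective (x.trans z.symm)) d2
        | exact absurd (h.injective (y.trans z.symm)) d3
        | simp [x, y, z]
  have hno : ∀ h ∈ G, ({a, b, c} : Finset α).image h = {a, b, c} →
      ¬ (h a = b ∧ h b = c ∧ h c = a) ∧ ¬ (h a = c ∧ h b = a ∧ h c = b) := fun h hh _ =>
    ⟨fun ⟨e1, e2, e3⟩ => hcyc ⟨h, hh, a, b, c, d1, d2, d3, e1, e2, e3⟩,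
      fun ⟨e1, e2, e3⟩ => hcyc ⟨h, hh, a, c, b, d2, d1, d3.symm, e1, e3, e2⟩⟩
  -- the transpositions induced all agree
  have hfixes : (∀ h ∈ G, ({a, b, c} : Finset α).image h = {a, b, c} → h a = a) ∨
      (∀ h ∈ G, ({a, b, c} : Finset α).image h = {a, b, c} → h b = b) ∨
      (∀ h ∈ G, ({a, b, c} : Finset α).image h = {a, b, c} → h c = c) := by
    by_contra hc
    simp only [not_or, not_forall] at hc
    obtain ⟨⟨g1, hg1, i1, n1⟩, ⟨g2, hg2, i2, n2⟩, g3, hg3, i3, n3⟩ := hc
    have hcl : ∀ g g' : Perm α, g ∈ G → g' ∈ G → g a = a → g b = c → g c = b →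
        (g' a = b ∧ g' b = a ∧ g' c = c) ∨ (g' a = c ∧ g' b = b ∧ g' c = a) → False := by
      intro g g' hg hg' e1 e2 e3 h
      rcases h with ⟨k1, k2, k3⟩ | ⟨k1, k2, k3⟩
      · exact hcyc ⟨g' * g, mul_mem hg' hg, a, b, c, d1, d2, d3,
          by rw [Perm.mul_apply, e1, k1], by rw [Perm.mul_apply, e2, k3], by rw [Perm.mul_apply, e3, k2]⟩
      · exact hcyc ⟨g' * g, mul_mem hg' hg, a, c, b, d2, d1, d3.symm,
          by rw [Perm.mul_apply, e1, k1], by rw [Perm.mul_apply, e3, k2], by rw [Perm.mul_apply, e2, k3]⟩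
    obtain ⟨m1, m1'⟩ := hno g1 hg1 i1
    obtain ⟨m2, m2'⟩ := hno g2 hg2 i2
    rcases hmem g1 i1 with h | h | h | h | h | h
    · exact n1 h.1
    · exact n1 h.1
    · rcases hmem g3 i3 with k | k | k | k | k | k
      · exact n3 k.2.2
      · exact hcl g3 g1 hg3 hg1 k.1 k.2.1 k.2.2 (Or.inl h)
      · exact n3 k.2.2
      · exact hcyc ⟨g3 * g1, mul_mem hg3 hg1, a, b, c, d1, d2, d3, by rw [Perm.mul_apply, h.1, k.2.1],
          by rw [Perm.mul_apply, h.2.1, k.1], by rw [Perm.mul_apply, h.2.2, k.2.2]⟩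
      · exact hcyc ⟨g3, hg3, a, b, c, d1, d2, d3, k⟩
      · exact (hno g3 hg3 i3).2 k
    · rcases hmem g2 i2 with k | k | k | k | k | k
      · exact n2 k.2.1
      · exact hcl g2 g1 hg2 hg1 k.1 k.2.1 k.2.2 (Or.inr h)
      · exact hcyc ⟨g1 * g2, mul_mem hg1 hg2, a, b, c, d1, d2, d3, by rw [Perm.mul_apply, k.1, h.2.1],
          by rw [Perm.mul_apply, k.2.1, h.1], by rw [Perm.mul_apply, k.2.2, h.2.2]⟩
      · exact n2 k.2.1
      · exact m2 k
      · exact m2' k
    · exact m1 h
    · exact m1' h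
  rcases hfixes with h | h | h
  · exact pointed hn h2 hh3 hh4 d3 d1.symm d2.symm fun g hg hi => h g hg (by
      rwa [show ({b, c, a} : Finset α) = {a, b, c} by ext; simp; tauto] at hi)
  · exact pointed hn h2 hh3 hh4 d2 d1 d3.symm fun g hg hi => h g hg (by
      rwa [show ({a, c, b} : Finset α) = {a, b, c} by ext; simp; tauto] at hi)
  · exact pointed hn h2 hh3 hh4 d1 d2 d3 fun g hg hi => h g hg hi

end CfsgLib.Char.Homogeneous
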