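import Cfsg.Agent.Lib.Char.Homogeneous.Free
import Cfsg.Agent.Lib.Char.Homogeneous.Triples

/-!
Orbits on triples, quadruples and quintuples of a group transitive on triples and on four- and five-sets.
-/

set_option autoImplicit false
set_option linter.unusedSectionVars false

namespace CfsgLib.Char.Homogeneous

open Equiv

variable {α : Type*} [Fintype α] [DecidableEq α] {G : Subgroup (Perm α)}

/-- Orbit times stabiliser. -/
theorem card_image_mul {β : Type*} [DecidableEq β] (K S : Subgroup (Perm α)) [DecidablePred (· ∈ K)]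
    (hS : S ≤ K) (φ : Perm α → β)
    (h : ∀ g ∈ K, ∀ h ∈ K, φ g = φ h ↔ g⁻¹ * h ∈ S) :
    ((Finset.univ.filter (· ∈ K)).image φ).card * Nat.card S = Nat.card K := by
  classical
  rw [Nat.card_eq_fintype_card (α := K), Fintype.card_subtype,
    Finset.card_eq_sum_card_image φ (Finset.univ.filter (· ∈ K)), ← smul_eq_mul, ← Finset.sum_const]
  refine Finset.sum_congr rfl fun b hb => ?_
  obtain ⟨g, hg, rfl⟩ := Finset.mem_image.1 hb
  rw [Nat.card_eq_fintype_card, Fintype.card_subtype]
  refine Finset.card_bij (fun s _ => g * s) ?_ (fun s _ s' _ e => mul_left_cancel e) ?_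
  · intro s hs
    simp only [Finset.mem_filter, Finset.mem_univ, true_and] at hs hg ⊢
    refine ⟨mul_mem hg (hS hs), ((h g hg _ (mul_mem hg (hS hs))).2 ?_).symm⟩
    rwa [inv_mul_cancel_left]
  · intro k hk
    simp only [Finset.mem_filter, Finset.mem_univ, true_and] at hk hg
    refine ⟨g⁻¹ * k, ?_, mul_inv_cancel_left g k⟩
    simp only [Finset.mem_filter, Finset.mem_univ, true_and]
    exact (h g hg k hk.1).1 hk.2.symm

/-- In one orbit. -/
def Same (G : Subgroup (Perm α)) {k : ℕ} (q q' : Fin k ↪ α) : Prop := ∃ g ∈ G, ∀ i, g (q i) = q' i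

theorem Same.symm {k : ℕ} {q q' : Fin k ↪ α} (h : Same G q q') : Same G q' q := by
  obtain ⟨g, hg, h⟩ := h
  exact ⟨g⁻¹, inv_mem hg, fun i => by rw [← h i, iaa]⟩

theorem Same.trans {k : ℕ} {q q' q'' : Fin k ↪ α} (h : Same G q q') (h' : Same G q' q'') : Same G q q'' := by
  obtain ⟨g, hg, h⟩ := h
  obtain ⟨g', hg', h'⟩ := h'
  exact ⟨g' * g, mul_mem hg' hg, fun i => by rw [Perm.mul_apply, h i, h' i]⟩

theorem card_orbit_emb {k : ℕ} (q : Fin k ↪ α) [DecidablePred (Same G q)] :
    (Finset.univ.filter (Same G q)).card * Nat.card (pfix G (Finset.univ.map q)) = Nat.card G := by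
  classical
  rw [← card_image_mul G (pfix G (Finset.univ.map q)) (fun g hg => hg.1) (fun g => q.trans g.toEmbedding) ?_]
  · congr 2
    ext q'
    simp only [Finset.mem_filter, Finset.mem_univ, true_and, Finset.mem_image, Same]
    exact exists_congr fun g => and_congr_right fun _ =>
      ⟨fun h => Function.Embedding.ext h, fun h i => DFunLike.congr_fun h i⟩
  · intro g hg g' hg'
    constructor
    · intro e
      refine ⟨mul_mem (inv_mem hg) hg', fun x hx => ?_⟩
      obtain ⟨i, -, rfl⟩ := Finset.mem_map.1 hx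
      rw [Perm.mul_apply, Perm.inv_eq_iff_eq]
      exact (DFunLike.congr_fun e i).symm
    · intro hs
      refine Function.Embedding.ext fun i => ?_
      have := hs.2 (q i) (Finset.mem_map_of_mem q (Finset.mem_univ i))
      rw [Perm.mul_apply, Perm.inv_eq_iff_eq] at this
      exact this.symm

theorem card_pfix_image {g : Perm α} (hg : g ∈ G) (s : Finset α) :
    Nat.card (pfix G (s.image g)) = Nat.card (pfix G s) :=
  (Nat.card_congr (show (pfix G s) ≃ (pfix G (s.image g)) from
    { toFun := fun t => ⟨g * t * g⁻¹, conj_mem_pfix hg t.2⟩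
      invFun := fun t => ⟨g⁻¹ * t * g, mul_mem (mul_mem (inv_mem hg) t.2.1) hg, fun x hx => by
        rw [Perm.mul_apply, Perm.mul_apply, t.2.2 _ (Finset.mem_image_of_mem g hx), iaa]⟩
      left_inv := fun t => Subtype.ext (by simp only; group)
      right_inv := fun t => Subtype.ext (by simp only; group) })).symm

theorem Hom.card_pfix {k : ℕ} (hh : Hom G k) {s s' : Finset α} (hs : s.card = k) (hs' : s'.card = k) :
    Nat.card (pfix G s) = Nat.card (pfix G s') := by
  obtain ⟨g, hg, rfl⟩ := hh s s' hs hs'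
  exact (card_pfix_image hg s).symm

theorem Ktr.same {k : ℕ} (h : Ktr G k) (q q' : Fin k ↪ α) : Same G q q' := by
  obtain ⟨g, hg, e⟩ := h.exists_emb q q'
  exact ⟨g, hg, fun i => DFunLike.congr_fun e i⟩

theorem Ktr.card_group {k : ℕ} (h : Ktr G k) (q : Fin k ↪ α) :
    (Fintype.card α).descFactorial k * Nat.card (pfix G (Finset.univ.map q)) = Nat.card G := by
  classical
  rw [← card_orbit_emb (G := G) q, show Finset.univ.filter (Same G q) = Finset.univ from
    Finset.filter_true_of_mem fun q' _ => h.same q q', Finset.card_univ, Fintype.card_embedding_eq, Fintype.card_fin]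

/-- The orbit of a point under a pointwise stabiliser. -/
theorem card_orbit_point (s : Finset α) (x : α) [DecidablePred fun y => ∃ g ∈ pfix G s, g x = y] :
    (Finset.univ.filter fun y => ∃ g ∈ pfix G s, g x = y).card * Nat.card (pfix G (insert x s)) =
      Nat.card (pfix G s) := by
  classical
  rw [← card_image_mul (pfix G s) (pfix G (insert x s))
    (fun g hg => ⟨hg.1, fun y hy => hg.2 y (Finset.mem_insert_of_mem hy)⟩) (fun g => g x) ?_]
  · congr 2
    ext y
    simp [and_comm]
  · intro g hg g' hg'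
    constructor
    · intro e
      refine ⟨mul_mem (inv_mem hg.1) hg'.1, fun y hy => ?_⟩
      rw [Perm.mul_apply, Perm.inv_eq_iff_eq]
      rcases Finset.mem_insert.1 hy with rfl | hy
      · exact e.symm
      · rw [hg'.2 y hy, hg.2 y hy]
    · intro hs
      have := hs.2 x (Finset.mem_insert_self _ _)
      rw [Perm.mul_apply, Perm.inv_eq_iff_eq] at this
      exact this.symm

/-- The permutations of the positions induced on a tuple. -/
def Xgrp (G : Subgroup (Perm α)) {k : ℕ} (q : Fin k ↪ α) : Subgroup (Perm (Fin k)) where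
  carrier := {σ | ∃ g ∈ G, ∀ i, g (q i) = q (σ i)}
  mul_mem' := by
    rintro a b ⟨g, hg, ha⟩ ⟨h, hh, hb⟩
    exact ⟨g * h, mul_mem hg hh, fun i => by rw [Perm.mul_apply, hb i, ha (b i), Perm.mul_apply]⟩
  one_mem' := ⟨1, one_mem _, fun i => rfl⟩
  inv_mem' := by
    rintro a ⟨g, hg, ha⟩
    exact ⟨g⁻¹, inv_mem hg, fun i => by rw [Perm.inv_eq_iff_eq, ha, ← Perm.mul_apply, mul_inv_cancel]; rfl⟩

theorem same_reindex {k : ℕ} (q : Fin k ↪ α) (π π' : Perm (Fin k)) :
    Same G (π.toEmbedding.trans q) (π'.toEmbedding.trans q) ↔ π' * π⁻¹ ∈ Xgrp G q := by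
  constructor
  · rintro ⟨g, hg, h⟩
    refine ⟨g, hg, fun i => ?_⟩
    have := h (π⁻¹ i)
    simp only [Function.Embedding.trans_apply, Equiv.coe_toEmbedding] at this
    rwa [show π (π⁻¹ i) = i from π.apply_symm_apply i] at this
  · rintro ⟨g, hg, h⟩
    refine ⟨g, hg, fun i => ?_⟩
    have := h (π i)
    simp only [Perm.mul_apply, show π⁻¹ (π i) = i from π.symm_apply_apply i] at this
    exact this

theorem Hom.exists_reindex {k : ℕ} (hh : Hom G k) (q q' : Fin k ↪ α) :
    ∃ π : Perm (Fin k), Same G (π.toEmbedding.trans q) q' := by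
  obtain ⟨g, hg, hgi⟩ := hh (Finset.univ.map q) (Finset.univ.map q') (by simp) (by simp)
  have hmem : ∀ i, ∃ j, g (q j) = q' i := fun i => by
    have : q' i ∈ (Finset.univ.map q).image g := by rw [hgi]; simp
    simpa using this
  choose f hf using hmem
  have hfi : Function.Injective f := fun i j e => q'.injective (by rw [← hf i, ← hf j, e])
  exact ⟨Equiv.ofBijective f (Finite.injective_iff_bijective.1 hfi), g, hg, hf⟩

theorem card_same (hh : Hom G 4) (q₀ : Fin 4 ↪ α) [DecidablePred (Same G q₀)] :
    (Finset.univ.filter (Same G q₀)).card = (Fintype.card α).choose 4 * Nat.card (Xgrp G q₀) := by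
  classical
  rw [hom_count hh (Same G q₀) (fun g hg q hq => hq.trans ⟨g, hg, fun i => rfl⟩)
    (B₀ := Finset.univ.map q₀) (by simp), Nat.card_eq_fintype_card, Fintype.card_subtype]
  congr 1
  symm
  refine Finset.card_bij (fun σ _ => σ.toEmbedding.trans q₀) ?_ ?_ ?_
  · intro σ hσ
    simp only [Finset.mem_filter, Finset.mem_univ, true_and] at hσ ⊢
    obtain ⟨g, hg, h⟩ := hσ
    exact ⟨⟨g, hg, h⟩, by rw [← Finset.map_map, Finset.map_univ_equiv]⟩
  · intro σ _ σ' _ e
    ext i
    exact congrArg Fin.val (q₀.injective (DFunLike.congr_fun e i))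
  · intro q hq
    simp only [Finset.mem_filter, Finset.mem_univ, true_and] at hq
    obtain ⟨hs, hmap⟩ := hq
    have hmem : ∀ i, ∃ j, q₀ j = q i := fun i => by
      have : q i ∈ Finset.univ.map q₀ := by rw [← hmap]; simp
      simpa using this
    choose f hf using hmem
    have hfi : Function.Injective f := fun i j e => q.injective (by rw [← hf i, ← hf j, e])
    refine ⟨Equiv.ofBijective f (Finite.injective_iff_bijective.1 hfi), ?_, Function.Embedding.ext hf⟩
    simp only [Finset.mem_filter, Finset.mem_univ, true_and]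
    obtain ⟨g, hg, h⟩ := hs
    exact ⟨g, hg, fun i => (h i).trans (hf i).symm⟩

end CfsgLib.Char.Homogeneous
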