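import Cfsg.Agent.Lib.Char.Homogeneous.Quads

/-!
The five-point equation.
-/

set_option autoImplicit false
set_option linter.unusedSectionVars false

namespace CfsgLib.Char.Homogeneous

open Equiv

variable {α : Type*} [Fintype α] [DecidableEq α]

variable (G : Subgroup (Perm α)) in
/-- The last two points are in one orbit of the stabiliser of the first three. -/
def P5 (q : Fin 5 ↪ α) : Prop := ∃ g ∈ pfix G ({q 0, q 1, q 2} : Finset α), g (q 3) = q 4

variable (G : Subgroup (Perm α)) in
/-- The agreeing pairs of a five-set. -/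
noncomputable def agree (B : Finset α) : Finset (Finset α) := by
  classical
  exact (Finset.univ.filter fun q : Fin 5 ↪ α => P5 G q ∧ Finset.univ.map q = B).image fun q => {q 3, q 4}

variable {G : Subgroup (Perm α)}

theorem first_three (q : Fin 5 ↪ α) : ({q 0, q 1, q 2} : Finset α) = Finset.univ.map q \ {q 3, q 4} := by
  ext x
  simp only [Finset.mem_insert, Finset.mem_singleton, Finset.mem_sdiff, Finset.mem_map, Finset.mem_univ, true_and,
    not_or]
  constructor
  · rintro (rfl | rfl | rfl) <;> exact ⟨⟨_, rfl⟩, q.injective.ne (by decide), q.injective.ne (by decide)⟩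
  · rintro ⟨⟨i, rfl⟩, h1, h2⟩
    fin_cases i
    exacts [Or.inl rfl, Or.inr (Or.inl rfl), Or.inr (Or.inr rfl), absurd rfl h1, absurd rfl h2]

theorem card_agree (B : Finset α) [DecidablePred fun q : Fin 5 ↪ α => P5 G q ∧ Finset.univ.map q = B] :
    (Finset.univ.filter fun q : Fin 5 ↪ α => P5 G q ∧ Finset.univ.map q = B).card = 12 * (agree G B).card := by
  classical
  have hag : agree G B = (Finset.univ.filter fun q : Fin 5 ↪ α => P5 G q ∧ Finset.univ.map q = B).image
      fun q => {q 3, q 4} := by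
    unfold agree
    congr 1
    ext q
    simp
  rw [hag, mul_comm, ← smul_eq_mul, ← Finset.sum_const,
    Finset.card_eq_sum_card_image (fun q : Fin 5 ↪ α => ({q 3, q 4} : Finset α))]
  refine Finset.sum_congr rfl fun E hE => ?_
  obtain ⟨q, hq, rfl⟩ := Finset.mem_image.1 hE
  obtain ⟨⟨g, hg, hgq⟩, hmap⟩ := (Finset.mem_filter.1 hq).2
  rw [show 12 = (Finset.univ.filter fun σ : Perm (Fin 5) => (σ 3 = 3 ∨ σ 3 = 4) ∧ (σ 4 = 3 ∨ σ 4 = 4)).card by
    decide +kernel]
  symm
  refine Finset.card_bij (fun σ _ => σ.toEmbedding.trans q) ?_ ?_ ?_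
  · intro σ hσ
    obtain ⟨-, h3, h4⟩ := Finset.mem_filter.1 hσ
    have hne : σ 3 ≠ σ 4 := σ.injective.ne (by decide)
    have hm : Finset.univ.map (σ.toEmbedding.trans q) = B := by
      rw [← Finset.map_map, Finset.map_univ_equiv, hmap]
    have hp : ({q (σ 3), q (σ 4)} : Finset α) = {q 3, q 4} := by
      rcases h3 with e | e <;> rcases h4 with e' | e'
      · exact absurd (e.trans e'.symm) hne
      · rw [e, e']
      · rw [e, e', Finset.pair_comm]
      · exact absurd (e.trans e'.symm) hne
    simp only [Finset.mem_filter, Finset.mem_univ, true_and]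
    refine ⟨⟨?_, hm⟩, hp⟩
    unfold P5
    rw [first_three (σ.toEmbedding.trans q), hm, show
      ({(σ.toEmbedding.trans q) 3, (σ.toEmbedding.trans q) 4} : Finset α) = {q 3, q 4} from hp, ← hmap,
      ← first_three q]
    simp only [Function.Embedding.trans_apply, Equiv.coe_toEmbedding]
    rcases h3 with e | e <;> rcases h4 with e' | e'
    · exact absurd (e.trans e'.symm) hne
    · exact ⟨g, hg, by rw [e, e', hgq]⟩
    · exact ⟨g⁻¹, inv_mem hg, by rw [e, e', ← hgq, iaa]⟩
    · exact absurd (e.trans e'.symm) hne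
  · intro σ _ σ' _ e
    ext i
    exact congrArg Fin.val (q.injective (DFunLike.congr_fun e i))
  · intro q' hq'
    simp only [Finset.mem_filter, Finset.mem_univ, true_and] at hq'
    obtain ⟨⟨-, hm'⟩, hp'⟩ := hq'
    have hmem : ∀ i, ∃ j, q j = q' i := fun i => by
      have : q' i ∈ Finset.univ.map q := by rw [hmap, ← hm']; simp
      simpa using this
    choose f hf using hmem
    have hfi : Function.Injective f := fun i j e => q'.injective (by rw [← hf i, ← hf j, e])
    refine ⟨Equiv.ofBijective f (Finite.injective_iff_bijective.1 hfi), ?_, Function.Embedding.ext hf⟩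
    have m3 : q' 3 ∈ ({q 3, q 4} : Finset α) := by rw [← hp']; simp
    have m4 : q' 4 ∈ ({q 3, q 4} : Finset α) := by rw [← hp']; simp
    simp only [Finset.mem_insert, Finset.mem_singleton, ← hf, q.injective.eq_iff] at m3 m4
    simp only [Finset.mem_filter, Finset.mem_univ, true_and]
    exact ⟨m3, m4⟩

theorem agree_subset (B : Finset α) : agree G B ⊆ B.powersetCard 2 := by
  classical
  intro E hE
  unfold agree at hE
  obtain ⟨q, hq, rfl⟩ := Finset.mem_image.1 hE
  obtain ⟨-, hmap⟩ := (Finset.mem_filter.1 hq).2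
  rw [Finset.mem_powersetCard]
  refine ⟨fun x hx => ?_, Finset.card_pair (q.injective.ne (by decide))⟩
  rw [← hmap]
  simp only [Finset.mem_insert, Finset.mem_singleton] at hx
  rcases hx with rfl | rfl <;> simp

/-- Five points as an embedding. -/
def quint (a b c d e : α) (h : [a, b, c, d, e].Nodup) : Fin 5 ↪ α :=
  ⟨fun i => [a, b, c, d, e].get ⟨i.val, i.isLt⟩, fun i j hij => Fin.ext (Fin.ext_iff.1 (h.injective_get hij))⟩

theorem mem_agree {B : Finset α} {a b c d e : α} (h : [a, b, c, d, e].Nodup) (hB : B = {a, b, c, d, e})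
    {g : Perm α} (hg : g ∈ pfix G ({a, b, c} : Finset α)) (hde : g d = e) : ({d, e} : Finset α) ∈ agree G B := by
  classical
  unfold agree
  refine Finset.mem_image.2 ⟨quint a b c d e h, Finset.mem_filter.2 ⟨Finset.mem_univ _, ⟨g, hg, hde⟩, ?_⟩, rfl⟩
  rw [hB]
  ext x
  simp only [Finset.mem_map, Finset.mem_univ, true_and, Finset.mem_insert, Finset.mem_singleton]
  constructor
  · rintro ⟨i, rfl⟩
    fin_cases i <;> simp [quint]
  · rintro (rfl | rfl | rfl | rfl | rfl)
    exacts [⟨0, rfl⟩, ⟨1, rfl⟩, ⟨2, rfl⟩, ⟨3, rfl⟩, ⟨4, rfl⟩]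

/-- Dropping the last point. -/
def init4 (q : Fin 5 ↪ α) : Fin 4 ↪ α := Fin.castSuccEmb.trans q

theorem card_P5 [DecidablePred (P5 G)] {L : ℕ}
    (hL : ∀ (s : Finset α) (x : α), s.card = 3 → x ∉ s → ∀ [DecidablePred fun y => ∃ g ∈ pfix G s, g x = y],
      (Finset.univ.filter fun y => ∃ g ∈ pfix G s, g x = y).card = L) :
    (Finset.univ.filter (P5 G)).card = (Fintype.card α).descFactorial 4 * (L - 1) := by
  classical
  rw [show (Fintype.card α).descFactorial 4 = (Finset.univ : Finset (Fin 4 ↪ α)).card by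
      rw [Finset.card_univ, Fintype.card_embedding_eq, Fintype.card_fin],
    Finset.card_eq_sum_card_fiberwise (f := init4) (t := (Finset.univ : Finset (Fin 4 ↪ α)))
      (fun q _ => Finset.mem_univ _), ← smul_eq_mul, ← Finset.sum_const]
  refine Finset.sum_congr rfl fun p _ => ?_
  have hs : ({p 0, p 1, p 2} : Finset α).card = 3 :=
    card_triple (p.injective.ne (by decide)) (p.injective.ne (by decide)) (p.injective.ne (by decide))
  have hx : p 3 ∉ ({p 0, p 1, p 2} : Finset α) := by
    simp only [Finset.mem_insert, Finset.mem_singleton, not_or]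
    exact ⟨p.injective.ne (by decide), p.injective.ne (by decide), p.injective.ne (by decide)⟩
  have hself : p 3 ∈ Finset.univ.filter fun y => ∃ g ∈ pfix G ({p 0, p 1, p 2} : Finset α), g (p 3) = y :=
    Finset.mem_filter.2 ⟨Finset.mem_univ _, 1, one_mem _, rfl⟩
  rw [← hL _ _ hs hx, ← Finset.card_erase_of_mem hself]
  refine Finset.card_bij (fun q _ => q 4) ?_ ?_ ?_
  · intro q hq
    simp only [Finset.mem_filter, Finset.mem_univ, true_and] at hq
    obtain ⟨hP, rfl⟩ := hq
    refine Finset.mem_erase.2 ⟨?_, Finset.mem_filter.2 ⟨Finset.mem_univ _, hP⟩⟩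
    exact q.injective.ne (show (4 : Fin 5) ≠ 3 by decide)
  · intro q hq q' hq' e
    simp only [Finset.mem_filter, Finset.mem_univ, true_and] at hq hq'
    ext i
    fin_cases i
    exacts [DFunLike.congr_fun (hq.2.trans hq'.2.symm) 0, DFunLike.congr_fun (hq.2.trans hq'.2.symm) 1,
      DFunLike.congr_fun (hq.2.trans hq'.2.symm) 2, DFunLike.congr_fun (hq.2.trans hq'.2.symm) 3, e]
  · intro y hy
    obtain ⟨hne, hy⟩ := Finset.mem_erase.1 hy
    obtain ⟨g, hg, hgy⟩ := (Finset.mem_filter.1 hy).2
    have hout : ∀ z ∈ ({p 0, p 1, p 2} : Finset α), y ≠ z := fun z hz e => hx (by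
      rw [g.injective (hgy.trans (e.trans (hg.2 z hz).symm))]
      exact hz)
    have hnd : [p 0, p 1, p 2, p 3, y].Nodup := by
      simp [Ne.symm hne, Ne.symm (hout _ (show p 0 ∈ _ by simp)), Ne.symm (hout _ (show p 1 ∈ _ by simp)),
        Ne.symm (hout _ (show p 2 ∈ _ by simp))]
    refine ⟨quint _ _ _ _ _ hnd, Finset.mem_filter.2 ⟨Finset.mem_filter.2 ⟨Finset.mem_univ _, g, hg, hgy⟩, ?_⟩, rfl⟩
    ext i
    fin_cases i <;> rfl

theorem quint_equation (hn : 5 ≤ Fintype.card α) (hh5 : Hom G 5) {L : ℕ}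
    (hL : ∀ (s : Finset α) (x : α), s.card = 3 → x ∉ s → ∀ [DecidablePred fun y => ∃ g ∈ pfix G s, g x = y],
      (Finset.univ.filter fun y => ∃ g ∈ pfix G s, g x = y).card = L) {B : Finset α} (hB : B.card = 5) :
    10 * (L - 1) = (agree G B).card * (Fintype.card α - 4) := by
  classical
  have h := hom_count hh5 (P5 G) (fun g hg q ⟨t, ht, e⟩ => by
    refine ⟨g * t * g⁻¹, ?_, by simp [e]⟩
    simpa [Finset.image_insert] using conj_mem_pfix hg ht) hB
  rw [card_P5 hL, card_agree] at h
  have hd := Nat.descFactorial_eq_factorial_mul_choose (Fintype.card α) 5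
  rw [Nat.descFactorial_succ] at hd
  have hpos : 0 < (Fintype.card α).descFactorial 4 := Nat.pos_of_ne_zero fun e =>
    absurd (Nat.descFactorial_eq_zero_iff_lt.1 e) (by omega)
  refine Nat.eq_of_mul_eq_mul_left (show 0 < 12 * (Fintype.card α).descFactorial 4 by omega) ?_
  have hf : Nat.factorial 5 = 120 := rfl
  rw [hf] at hd
  calc 12 * (Fintype.card α).descFactorial 4 * (10 * (L - 1))
      = 120 * ((Fintype.card α).descFactorial 4 * (L - 1)) := by ring
    _ = (120 * (Fintype.card α).choose 5) * (12 * (agree G B).card) := by rw [h]; ring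
    _ = _ := by rw [← hd]; ring

end CfsgLib.Char.Homogeneous
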